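import Mathlib
import Cfsg.Agent.Gl23.Ord3
import Cfsg.Agent.Block.OrdP3
import Cfsg.Agent.Perm.SieveChar
import Cfsg.Agent.Core.Reg

/-!
Simple groups of order `95040`: the Sylow `11`-subgroups.
-/

set_option autoImplicit false
set_option linter.unusedSectionVars false
set_option linter.style.haveILetI false

namespace Cfsg.Agent.O12

open Cfsg.Agent.Core Cfsg.Agent.Char Cfsg.Agent.Block Cfsg.Agent.Gl23 Subgroup MulAction

variable {G : Type*} [Group G]

theorem relIndex_normalizer_mod [Finite G] {p : ℕ} (hp : p.Prime) {P K : Subgroup G} (h : IsSylowOf p P K) :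
    (normalizer (P : Set G)).relIndex K % p = 1 := by
  have := Fact.mk hp
  have h1 := card_sylow_modEq_one p K
  rw [h.toSylow.card_eq_index_normalizer, ← Sylow.coe_coe, h.coe_toSylow,
    ← subgroupOf_normalizer_eq h.le] at h1
  exact Eq.trans h1 (Nat.mod_eq_of_lt hp.one_lt)

theorem ordP_zpowers [Finite G] {p m : ℕ} (hp : p.Prime) (hG : Nat.card G = p * m) (hm : ¬ p ∣ m) {x : G}
    (hx : orderOf x = p) : OrdP p (zpowers x) := by
  have h2 := (zpowers x).card_mul_index
  rw [hG, Nat.card_zpowers, hx] at h2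
  exact ⟨hp, by rw [Nat.card_zpowers, hx], by rwa [Nat.eq_of_mul_eq_mul_left hp.pos h2]⟩

section PW
variable [Fintype G] {p e t : ℕ} {P : Subgroup G} {δ : ℤ} {X Y : Finset (IrrCharacter G)}
  {a : IrrCharacter G → ℤ}

theorem pw_const (h : PW p P e t δ X Y a) {χ : IrrCharacter G} (hχ : χ ∈ X ∨ χ ∈ Y) {x : G} (hx : x ∈ P)
    (x1 : x ≠ 1) {u : G} (hu : u ∈ centralizer (P : Set G)) (hr : ¬ p ∣ orderOf u) : χ.1 (x * u) = χ.1 x := by
  have x1' : (⟨x, hx⟩ : P) ≠ 1 := fun e => x1 (congrArg Subtype.val e)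
  rcases hχ with hχ | hχ
  · rw [h.valX χ hχ _ (h.toOrdP.dvd_orderOf_mul x1' hu hr), h.valX χ hχ _ (h.toOrdP.dvd_orderOf x1')]
  · obtain ⟨lam, -, h1⟩ := h.valY χ hχ
    have h2 := h1 _ x1' 1 (one_mem _) h.reg_one
    rw [mul_one] at h2
    exact (h1 _ x1' u hu hr).trans h2.symm

theorem pw_lo [IsSimpleGroup G] (hG : ¬ IsMulCommutative G) (h : PW p P e t δ X Y a) {χ : IrrCharacter G}
    (hχ : χ ∈ X ∨ χ ∈ Y) (h1 : χ ≠ oneIrr G) {y : G} (y1 : y ≠ 1) (hy : y ∈ centralizer (P : Set G))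
    (hr : ¬ p ∣ orderOf y) : 2 * p ≤ charDegree χ.1 := by
  rw [← h.card]
  exact Perm.two_mul_le_degree hG χ.2 (fun e => h1 (Subtype.ext e)) y1 hy
    (h.card ▸ h.prime.coprime_iff_not_dvd.2 hr) fun x hx x1 u hu => pw_const h hχ hx x1 (zpowers_le.2 hy hu)
      fun h2 => hr (h2.trans (orderOf_dvd_of_mem_zpowers hu))

theorem pw_modX (h : PW p P e t δ X Y a) {χ : IrrCharacter G} (hχ : χ ∈ X) :
    (p : ℤ) ∣ a χ * charDegree χ.1 - 1 := by
  refine ⟨a χ * (fx P χ.1 - a χ), ?_⟩
  rw [(h.degX hχ).1]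
  linear_combination h.a_sq hχ

theorem pw_modY (h : PW p P e t δ X Y a) {χ : IrrCharacter G} (hχ : χ ∈ Y) :
    (p : ℤ) ∣ δ * charDegree χ.1 - e := by
  refine ⟨δ * fx P χ.1, ?_⟩
  rw [(h.degY hχ).1]
  linear_combination (e : ℤ) * h.sq

theorem pw_two (h : PW p P 2 t δ X Y a) (ht : t ≠ 1) : ∃ χ ∈ X, χ ≠ oneIrr G ∧ ∀ ξ ∈ Y,
    δ * (charDegree ξ.1 : ℤ) = 1 + a χ * charDegree χ.1 := by
  classical
  have h1 := h.one_mem_X ht
  obtain ⟨χ, hχ⟩ := Finset.card_eq_one.1 (show (X.erase (oneIrr G)).card = 1 by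
    rw [Finset.card_erase_of_mem h1, h.cardX])
  have h2 : χ ∈ X.erase (oneIrr G) := hχ ▸ Finset.mem_singleton_self χ
  refine ⟨χ, Finset.mem_of_mem_erase h2, Finset.ne_of_mem_erase h2, fun ξ hξ => ?_⟩
  rw [h.rel_one hξ, ← Finset.add_sum_erase _ _ h1, hχ, Finset.sum_singleton, h.a_one h1, coe_oneIrr,
    charDegree_one_fun]
  simp

end PW

def D8640 : List ℕ := [1, 2, 3, 4, 5, 6, 8, 9, 10, 12, 15, 16, 18, 20, 24, 27, 30, 32, 36, 40, 45, 48, 54, 60, 64,
  72, 80, 90, 96, 108, 120, 135, 144, 160, 180, 192, 216, 240, 270, 288, 320, 360, 432, 480, 540, 576, 720, 864, 960,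
  1080, 1440, 1728, 2160, 2880, 4320, 8640]

theorem mem_D8640 {n : ℕ} (h : n ∣ 8640) : n ∈ D8640 := by
  have h1 := RTab.allN_spec (p := fun n => !(Nat.beq (8640 % n) 0) || D8640.contains n) (k := 8641)
    (by decide +kernel) n (Nat.lt_succ_of_le (Nat.le_of_dvd (by norm_num) h))
  simpa [Nat.mod_eq_zero_of_dvd h] using h1

theorem num_syl : ∀ n ∈ D8640, n % 11 = 1 % 11 → n = 1 ∨ n = 12 ∨ n = 45 ∨ n = 144 ∨
    n = 320 ∨ n = 540 ∨ n = 1728 := by decide +kernel

theorem num_two : ∀ m ∈ [90, 288, 1080], ∀ d ∈ D8640, 22 ≤ d → d ∣ m → ¬ d + 1 ∣ m := by decide +kernel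

set_option synthInstance.maxSize 2048 in
theorem num_five : ∀ d ∈ D8640, 22 ≤ d → d ∣ 5 * 144 → ∀ s ∈ [(1 : ℤ), -1],
    (11 : ℤ) ∣ s * d - 1 ∨ (11 : ℤ) ∣ s * d - (5 : ℕ) → 3 ∣ d := by decide +kernel

variable [Finite G] [IsSimpleGroup G]

theorem not_comm (hG : Nat.card G = 95040) : ¬ IsMulCommutative G :=
  Perm.not_comm_of_not_prime (by rw [hG]; norm_num)

theorem no_index_twelve {H : Subgroup G} (hH : H.index = 12) {x y : G} (hx : orderOf x = 11)
    (hy : orderOf y = 3) (hc : x * y = y * x) : False := by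
  have hne : H ≠ ⊤ := fun h => by simp [h] at hH
  have h1 := card_fixedBy_modEq' (Ω := G ⧸ H) (by norm_num : Nat.Prime 11) (hx ▸ pow_orderOf_eq_one x)
  have h2 := card_fixedBy_lt hne (y := x) (fun h => by simp [h] at hx)
  have h3 := card_fixedBy_modEq' (Ω := G ⧸ H) Nat.prime_three (hy ▸ pow_orderOf_eq_one y)
  have h4 := card_fixedBy_lt hne (y := y) (fun h => by simp [h] at hy)
  have h5 := card_fixedBy_modEq (Ω := G ⧸ H) (by norm_num : Nat.Prime 11) (hx ▸ pow_orderOf_eq_one x) hc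
  have h6 := card_fixedBy_modEq (Ω := G ⧸ H) Nat.prime_three (hy ▸ pow_orderOf_eq_one y) hc.symm
  have h7 : Nat.card (fixedBy (G ⧸ H) x ∩ fixedBy (G ⧸ H) y : Set _) ≤ Nat.card (fixedBy (G ⧸ H) x) :=
    Set.ncard_le_ncard Set.inter_subset_left (Set.toFinite _)
  rw [Set.inter_comm] at h5
  rw [← index_eq_card, hH, Nat.ModEq] at h1 h3
  rw [Nat.ModEq] at h5 h6
  omega

theorem nine_dvd (hG : Nat.card G = 95040) {y : G} (hy : orderOf y = 3) :
    9 ∣ Nat.card (centralizer ({y} : Set G)) := by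
  have := Fact.mk Nat.prime_three
  have h3 : IsPGroup 3 (zpowers y) := IsPGroup.of_card (n := 1) (by rw [Nat.card_zpowers, hy, pow_one])
  obtain ⟨S, hS, h1⟩ := exists_isSylowOf_ge h3 (show zpowers y ≤ centralizer ({y} : Set G) from
    zpowers_le.2 (mem_centralizer_singleton_iff.2 rfl))
  by_contra h
  have h2 : zpowers y = S := by
    refine eq_of_le_of_card_ge h1 ?_
    rw [hS.card_eq_pow, Nat.card_zpowers, hy]
    have : (Nat.card (centralizer ({y} : Set G))).factorization 3 < 2 := by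
      by_contra! h4
      exact h ((Nat.prime_three.pow_dvd_iff_le_factorization Nat.card_pos.ne').2 h4)
    exact (Nat.pow_le_pow_right (by norm_num) (Nat.lt_succ_iff.1 this)).trans (by norm_num)
  obtain ⟨T, hT, h4⟩ := exists_isSylowOf_ge h3 le_top
  have h5 : Nat.card T = 27 := by
    rw [hT.card_eq_pow, card_top, hG]
    rw [show (95040 : ℕ) = 3 ^ 3 * 3520 by norm_num, Nat.factorization_mul (by norm_num) (by norm_num),
      Nat.prime_three.factorization_pow]
    simp [Nat.factorization_eq_zero_of_not_dvd (show ¬ 3 ∣ 3520 by norm_num)]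
  have := (Subgroup.nontrivial_iff_ne_bot T).2 (fun h => by simp [h] at h5)
  -- the centre of `T`
  have hZ : (center T).map T.subtype ≤ zpowers y := by
    rw [h2]
    refine hS.le_of_le_normalizer' ((hT.isPGroup.to_subgroup _).map _) ?_ ?_
    · rintro _ ⟨z, hz, rfl⟩
      exact mem_centralizer_singleton_iff.2 (congrArg Subtype.val (mem_center_iff.1 hz ⟨y, h4 (mem_zpowers y)⟩)).symm
    · rintro _ ⟨z, hz, rfl⟩
      refine centralizer_le_normalizer _ fun s hs => ?_
      exact congrArg Subtype.val (mem_center_iff.1 hz ⟨s, h4 (h2 ▸ hs)⟩)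
  obtain ⟨z, hz⟩ := ne_bot_iff_exists_ne_one.1 ((center T).nontrivial_iff_ne_bot.1 hT.isPGroup.center_nontrivial)
  have z1 : ((z : T) : G) ≠ 1 := fun e => hz (Subtype.ext (Subtype.ext e))
  have h6 := eq_zpowers_of_card_prime Nat.prime_three (by rw [Nat.card_zpowers, hy]) (hZ ⟨z, z.2, rfl⟩) z1
  have h7 : T ≤ centralizer ({y} : Set G) := fun s hs => by
    obtain ⟨k, hk⟩ : y ∈ zpowers ((z : T) : G) := h6 ▸ mem_zpowers y
    have : Commute s ((z : T) : G) := congrArg Subtype.val (mem_center_iff.1 z.2 ⟨s, hs⟩)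
    exact mem_centralizer_singleton_iff.2 (hk ▸ (this.zpow_right k).eq)
  exact h ((show 9 ∣ 27 by norm_num).trans (h5 ▸ card_dvd_of_le h7))

theorem cent_eleven (hG : Nat.card G = 95040) {x : G} (hx : orderOf x = 11) :
    Nat.card (centralizer ((zpowers x : Subgroup G) : Set G)) = 11 ∧
    Nat.card (normalizer ((zpowers x : Subgroup G) : Set G)) = 55 := by
  classical
  have := Fintype.ofFinite G
  have hp : Nat.Prime 11 := by norm_num
  obtain ⟨hS, h1, h2⟩ := sylow_data (m := 8640) hp hG (by norm_num) hx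
  have hne := normalizer_ne_top (x := x) (fun h => by simp [h] at hx) (by omega)
  have h3 := (normalizer ((zpowers x : Subgroup G) : Set G)).card_mul_index
  have h4 := card_mul_relIndex (centralizer_le_normalizer ((zpowers x : Subgroup G) : Set G))
  have h5 := relIndex_dvd hp hx
  have h6 := burnside_ne hp hx (by omega) hS
  have h7 := relIndex_mul_index (centralizer_le_normalizer ((zpowers x : Subgroup G) : Set G))
  have hC : ∀ y ∈ centralizer ((zpowers x : Subgroup G) : Set G), x * y = y * x := fun y hy => hy x (mem_zpowers x)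
  have hx' : zpowers x ≤ centralizer ((zpowers x : Subgroup G) : Set G) := by
    rintro _ ⟨j, rfl⟩ _ ⟨k, rfl⟩
    exact (Commute.zpow_zpow_self x k j).eq
  obtain ⟨c, hc⟩ : 11 ∣ Nat.card (centralizer ((zpowers x : Subgroup G) : Set G)) := by
    simpa only [Nat.card_zpowers, hx] using card_dvd_of_le hx'
  obtain ⟨e, t, δ, X, Y, a, h⟩ := (ordP_zpowers (m := 8640) hp hG (by norm_num) hx).exists_pW
  have he := h.he
  have hy : ∀ r : ℕ, r.Prime → r ∣ c → ∃ y ∈ centralizer ((zpowers x : Subgroup G) : Set G), orderOf y = r :=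
    fun r hr hd => by
      have := Fact.mk hr
      obtain ⟨y, hy⟩ := exists_prime_orderOf_dvd_card' r (hc ▸ hd.mul_left 11)
      exact ⟨y, y.2, by rw [orderOf_coe, hy]⟩
  have hlo : 2 ∣ c → ∀ χ, χ ∈ X ∨ χ ∈ Y → χ ≠ oneIrr G → 22 ≤ charDegree χ.1 := fun hd χ hχ h1 => by
    obtain ⟨y, hy, hy'⟩ := hy 2 Nat.prime_two hd
    exact pw_lo (not_comm hG) h hχ h1 (fun e => by simp [e] at hy') hy (by rw [hy']; norm_num)
  set N := normalizer ((zpowers x : Subgroup G) : Set G) with hN
  set C := centralizer ((zpowers x : Subgroup G) : Set G) with hCd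
  rw [he] at h4 h5 h6 h7
  have he' : e = 2 ∨ e = 5 ∨ e = 10 := by
    have := Nat.le_of_dvd (by norm_num) h5
    clear * - this h5 h6
    interval_cases e <;> simp_all
  have hte := h.te
  obtain ⟨ξ, hξ⟩ := h.exists_Y
  have k2 : e = 2 → C.index ∈ [90, 288, 1080] → 2 ∣ c → False := by
    rintro rfl hm hd
    obtain ⟨χ, hχ, h8, h9⟩ := pw_two h (by omega)
    have h10 := h9 ξ hξ
    have h11 := hlo hd χ (Or.inl hχ) h8
    have h12 := hlo hd ξ (Or.inr hξ) fun e => by have := h.of_one_mem_Y (e ▸ hξ); omega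
    have h13 := h.dvdX hχ
    have h14 := h.dvdY hξ
    have hle : ∀ d, d ∣ C.index → d ∈ D8640 := fun d h => mem_D8640 (h.trans (by
      simp only [List.mem_cons, List.not_mem_nil, or_false] at hm
      rcases hm with e | e | e <;> rw [e] <;> norm_num))
    rcases h.sign with rfl | rfl <;> rcases h.a_sign χ hχ with e | e <;> rw [e] at h10
    · exact num_two _ hm _ (hle _ h13) h11 h13 ((show charDegree ξ.1 = charDegree χ.1 + 1 by omega) ▸ h14)
    · omega
    · omega
    · exact num_two _ hm _ (hle _ h14) h12 h14 ((show charDegree χ.1 = charDegree ξ.1 + 1 by omega) ▸ h13)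
  rcases num_syl _ (mem_D8640 h2) h1 with hn | hn | hn | hn | hn | hn | hn
  · exact absurd (index_eq_one.1 hn) hne
  · obtain ⟨y, hy, hy'⟩ := hy 3 Nat.prime_three (by rw [hn] at h3; rcases he' with rfl | rfl | rfl <;> omega)
    exact (no_index_twelve hn hx hy' (hC y hy)).elim
  · rw [hn] at h3 h7
    rcases he' with rfl | rfl | rfl
    · exact (k2 rfl (by simp [← h7]) (by omega)).elim
    · omega
    · omega
  · exfalso
    rw [hn] at h3 h7
    rcases he' with rfl | rfl | rfl
    · exact k2 rfl (by simp [← h7]) (by omega)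
    · have h1X := h.one_mem_X (by omega)
      have h8 := h.rel_one hξ
      rw [← Finset.add_sum_erase _ _ h1X, h.a_one h1X, coe_oneIrr, charDegree_one_fun] at h8
      have h9 : (3 : ℤ) ∣ ∑ χ ∈ X.erase (oneIrr G), a χ * (charDegree χ.1 : ℤ) := Finset.dvd_sum fun χ hχ => by
        have hχ' := Finset.mem_of_mem_erase hχ
        have h10 := h7 ▸ h.dvdX hχ'
        have := num_five _ (mem_D8640 (h10.trans (by norm_num))) (hlo (by omega) χ (Or.inl hχ') (Finset.ne_of_mem_erase hχ))
          h10 _ (by simpa using h.a_sign χ hχ') (Or.inl (pw_modX h hχ'))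
        exact Dvd.dvd.mul_left (by exact_mod_cast this) _
      have h10 := h7 ▸ h.dvdY hξ
      have h11 := num_five _ (mem_D8640 (h10.trans (by norm_num))) (hlo (by omega) ξ (Or.inr hξ)
        fun e => by have := h.of_one_mem_Y (e ▸ hξ); omega) h10 _ (by simpa using h.sign) (Or.inr (pw_modY h hξ))
      rcases h.sign with rfl | rfl <;> omega
    · obtain ⟨y, hy, hy'⟩ := hy 3 Nat.prime_three (by omega)
      have hxy : Commute x y := hC y hy
      have h33 : orderOf (x * y) = 33 := by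
        rw [hxy.orderOf_mul_eq_mul_orderOf_of_coprime (by rw [hx, hy']; norm_num), hx, hy']
      have hZ : zpowers (x * y) ≤ C := zpowers_le.2 (mul_mem (hx' (mem_zpowers x)) hy)
      have hi : (zpowers (x * y)).relIndex C = 2 := by
        have := card_mul_relIndex hZ
        rw [Nat.card_zpowers, h33] at this
        omega
      have hNK : N ≤ normalizer ((zpowers y : Subgroup G) : Set G) := fun n hn => by
        refine mem_normalizer_fintype ?_
        rintro _ ⟨j, rfl⟩
        rw [← conj_zpow]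
        refine zpow_mem ?_ j
        have hy1 : n * y * n⁻¹ ∈ C := ((normal_subgroupOf_iff (centralizer_le_normalizer _)).1
          inferInstance) y n hy hn
        have hy3 : (n * y * n⁻¹) ^ 3 = 1 := by rw [conj_pow, ← hy', pow_orderOf_eq_one]; simp
        have hy2 : n * y * n⁻¹ ∈ zpowers (x * y) := by
          have h9 := mul_self_mem_of_index_two hi (⟨_, hy1⟩ : C)
          rw [mem_subgroupOf] at h9
          have h10 := mul_mem h9 h9
          rwa [show ((⟨_, hy1⟩ * ⟨_, hy1⟩ : C) : G) * ((⟨_, hy1⟩ * ⟨_, hy1⟩ : C) : G) =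
            (n * y * n⁻¹) ^ 3 * (n * y * n⁻¹) by simp only [coe_mul, pow_succ, pow_zero]; group, hy3,
            one_mul] at h10
        obtain ⟨k, hk⟩ := (mem_powers_iff_mem_zpowers.2 hy2 : ∃ k : ℕ, (x * y) ^ k = _)
        dsimp only at hk
        rw [← hk, ← pow_mul, ← orderOf_dvd_iff_pow_eq_one, h33] at hy3
        rw [← hk, hxy.mul_pow, orderOf_dvd_iff_pow_eq_one.1 (show orderOf x ∣ k by rw [hx]; omega), one_mul]
        exact pow_mem (mem_zpowers y) k
      have h8 := relIndex_normalizer_mod hp (hS.of_le (le_normalizer.trans hNK) le_top)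
      have h9 := relIndex_mul_index hNK
      have h10 := card_mul_relIndex hNK
      have h11 := (nine_dvd hG hy').trans (card_dvd_of_le (show centralizer ({y} : Set G) ≤
        normalizer ((zpowers y : Subgroup G) : Set G) from (Block.centralizer_zpowers y).ge.trans
          (centralizer_le_normalizer _)))
      have h12 := normalizer_ne_top (x := y) (fun h => by simp [h] at hy') (by omega)
      rw [← hN] at h8
      rw [hn] at h9
      rcases (by decide +kernel : ∀ n ≤ 144, n % 11 = 1 → n ∣ 144 → n = 1 ∨ n = 12 ∨ n = 144) _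
        (Nat.le_of_dvd (by norm_num) (Dvd.intro _ h9)) h8 (Dvd.intro _ h9) with e | e | e <;> rw [e] at h9 h10
      · omega
      · exact no_index_twelve (H := normalizer ((zpowers y : Subgroup G) : Set G)) (by omega) hx hy' hxy
      · exact h12 (index_eq_one.1 (by omega))
  · rw [hn] at h3
    rcases he' with rfl | rfl | rfl <;> omega
  · rw [hn] at h3 h7
    rcases he' with rfl | rfl | rfl
    · exact (k2 rfl (by simp [← h7]) (by omega)).elim
    · omega
    · omega
  · rw [hn] at h3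
    rcases he' with rfl | rfl | rfl <;> omega

end Cfsg.Agent.O12
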