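import Mathlib
import Cfsg.Agent.O12.A

/-!
Simple groups of order `95040`: numerical lemmas.
-/

set_option autoImplicit false
set_option synthInstance.maxSize 100000
set_option synthInstance.maxHeartbeats 200000
set_option maxRecDepth 100000

namespace Cfsg.Agent.O12

def LX : List ℤ := [-10, 12, -32, 45, -54, -120, 144]
def LY : List ℤ := [5, -6, 16, 27, 60, -72, -160, 192]
def MA : List (ℕ × ℕ) := [(2, 1), (4, 2), (6, 2), (8, 2), (10, 3), (12, 3), (16, 4), (18, 4), (20, 4), (24, 4), (30, 5), (32, 5), (36, 6), (40, 6), (48, 6), (54, 7), (60, 7), (64, 8), (72, 8), (80, 8), (90, 9), (96, 9), (108, 10), (120, 10), (144, 12), (160, 12), (180, 13), (192, 13), (216, 14), (240, 15), (270, 16), (288, 16), (320, 17), (360, 18), (432, 20), (480, 21), (540, 23), (576, 24), (720, 26), (864, 29), (960, 30), (1080, 32), (1440,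 37), (1728, 41), (2160, 46), (2880, 53), (4320, 65), (8640, 92)]

def okv (m : ℕ) (s w : ℤ) : Bool :=
  (w - s) % 4 == 0 && w.natAbs < s.natAbs && ((95040 / m : ℕ) * w) % s == 0

def vals (m r : ℕ) (s : ℤ) : List ℤ := ((List.range (2 * r + 1)).map fun k : ℕ => (k : ℤ) - r).filter (okv m s)

def good (m : ℕ) (s0 s1 s2 s3 s4 w0 w1 w2 w3 w4 : ℤ) : Bool :=
  okv m s0 w0 && 1 + w1 * w1 + w2 * w2 + w3 * w3 + w4 * w4 + 2 * (w0 * w0) ≤ m &&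
  w0 * w0 * (8640 / s0) == 8640 + w1 * w1 * (8640 / s1) + w2 * w2 * (8640 / s2) + w3 * w3 * (8640 / s3) +
    w4 * w4 * (8640 / s4) &&
  289 + (16 * w1 + s1) * (16 * w1 + s1) + (16 * w2 + s2) * (16 * w2 + s2) + (16 * w3 + s3) * (16 * w3 + s3) +
    (16 * w4 + s4) * (16 * w4 + s4) + 2 * ((16 * w0 + s0) * (16 * w0 + s0)) ≤ 256 * m + 95040

theorem mem_vals {m r : ℕ} {s w : ℤ} (h : okv m s w = true) (h1 : w * w ≤ m) (h2 : m < (r + 1) * (r + 1)) :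
    w ∈ vals m r s := by
  have h3 : w.natAbs ≤ r := by
    by_contra! h4
    have : ((r + 1) * (r + 1) : ℕ) ≤ w.natAbs * w.natAbs := Nat.mul_le_mul h4 h4
    have h5 := Int.natAbs_mul_self (a := w)
    omega
  simp only [vals, List.mem_filter, List.mem_map, List.mem_range]
  exact ⟨⟨(w + r).toNat, by omega, by omega⟩, h⟩

theorem mem_MA : ∀ m ∈ D8640, 2 ∣ m → ∃ q ∈ MA, q.1 = m ∧ m < (q.2 + 1) * (q.2 + 1) := by decide +kernel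

theorem mem_LX : ∀ d ∈ D8640, d ≠ 1 → d * d ≤ 95040 → ∀ e ∈ [(1 : ℤ), -1], (11 : ℤ) ∣ e * d - 1 → e * d ∈ LX := by
  decide +kernel

theorem mem_LY : ∀ d ∈ D8640, 2 * (d * d) ≤ 95040 → ∀ e ∈ [(1 : ℤ), -1], (11 : ℤ) ∣ e * d - (5 : ℕ) → e * d ∈ LY := by
  decide +kernel

theorem num_pat : ∀ s1 ∈ LX, ∀ s2 ∈ LX, s1.natAbs ≤ s2.natAbs → ∀ s3 ∈ LX, s2.natAbs ≤ s3.natAbs → ∀ s4 ∈ LX,
    s3.natAbs ≤ s4.natAbs → 1 + s1 + s2 + s3 + s4 ∈ LY →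
    1 + s1 * s1 + s2 * s2 + s3 * s3 + s4 * s4 + 2 * ((1 + s1 + s2 + s3 + s4) * (1 + s1 + s2 + s3 + s4)) ≤ 95040 →
    ∀ q ∈ MA, 64 ∣ q.1 → ∀ w1 ∈ vals q.1 q.2 s1, ∀ w2 ∈ vals q.1 q.2 s2, ∀ w3 ∈ vals q.1 q.2 s3,
    ∀ w4 ∈ vals q.1 q.2 s4, good q.1 (1 + s1 + s2 + s3 + s4) s1 s2 s3 s4 (1 + w1 + w2 + w3 + w4) w1 w2 w3 w4 = true →
    1 + s1 + s2 + s3 + s4 = 5 ∨ (s1 = -10 ∧ s2 ≠ -10 ∧ s3 ≠ -10 ∧ s4 ≠ -10) ∨
      (s1 = -10 ∧ s2 = -10 ∧ s3 = -10 ∧ s4 = 45) ∨ (s1 = -32 ∧ s2 = 45 ∧ s3 = -54 ∧ s4 = -120) ∨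
      (s1 = 45 ∧ s2 = -54 ∧ s3 = -120 ∧ s4 = 144) := by
  decide +kernel

theorem num_F : ∀ q ∈ MA, ∀ w1 ∈ vals q.1 q.2 (-32), ∀ w2 ∈ vals q.1 q.2 45, ∀ w3 ∈ vals q.1 q.2 (-54),
    ∀ w4 ∈ vals q.1 q.2 (-120), good q.1 (-160) (-32) 45 (-54) (-120) (1 + w1 + w2 + w3 + w4) w1 w2 w3 w4 = true →
    q.1 = 192 := by
  decide +kernel

theorem num_G : ∀ q ∈ MA, ∀ w1 ∈ vals q.1 q.2 45, ∀ w2 ∈ vals q.1 q.2 (-54), ∀ w3 ∈ vals q.1 q.2 (-120),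
    ∀ w4 ∈ vals q.1 q.2 144, good q.1 16 45 (-54) (-120) 144 (1 + w1 + w2 + w3 + w4) w1 w2 w3 w4 = true →
    q.1 = 192 ∧ w1 = -3 ∨ (q.1 = 120 ∨ q.1 = 240) ∧ w1 = 5 := by
  decide +kernel

theorem num_c : ∀ n ∈ D8640, ∀ e ∈ [2, 4], e ∣ n → 5 ∣ n / e → 95040 / n % 5 = 1 % 5 →
    (n / e, e) ∈ [(20, 2), (45, 2), (120, 2), (270, 2), (720, 2), (4320, 2), (10, 4), (60, 4), (135, 4), (360, 4),
      (2160, 4)] := by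
  decide +kernel

theorem num_y : ∀ m ∈ [(20 : ℕ), 45, 120, 270, 720, 4320, 10, 60, 135, 360, 2160],
    ∀ a ∈ (List.range 27).map fun k : ℕ => 5 * (k : ℤ) - 66, 54 ∣ (95040 / m : ℕ) * a →
    ∀ b ∈ (List.range 27).map fun k : ℕ => 5 * (k : ℤ) - 66, 144 ∣ (95040 / m : ℕ) * b →
    16 ∣ (95040 / m : ℕ) * (1 - a + b) → (1 - a + b).natAbs < 16 →
    1 + a * a + b * b + 2 * ((1 - a + b) * (1 - a + b)) ≤ m → m = 10 ∨ m = 20 := by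
  decide +kernel

theorem num_e : ∀ d ∈ [(1 : ℤ), 45, 54, 120, 144, 16], ∀ a ∈ [(1 : ℤ), -1], ∀ δ ∈ [(1 : ℤ), -1],
    (δ * (1 + a * d)) ∣ 95040 → 11 ∣ δ * (1 + a * d) → ¬ 5 ∣ 1 + a * d - 2 := by
  decide +kernel

end Cfsg.Agent.O12
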