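import Mathlib
import Cfsg.Agent.O12.Num

/-!
Simple groups of order `95040`: the principal `11`-block.
-/

set_option autoImplicit false
set_option linter.unusedSectionVars false
set_option linter.style.haveILetI false

namespace Cfsg.Agent.O12

open Cfsg.Agent.Core Cfsg.Agent.Char Cfsg.Agent.Block Cfsg.Agent.Gl23 Subgroup MulAction

variable {G : Type*} [Group G] [Finite G] [IsSimpleGroup G]

theorem not_comm_eleven (hG : Nat.card G = 95040) {x g : G} (hx : orderOf x = 11) (hg : g * x = x * g) :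
    orderOf g ∣ 11 := by
  rw [← (cent_eleven hG hx).1, Block.centralizer_zpowers]
  exact Subgroup.orderOf_dvd_natCard _ (mem_centralizer_singleton_iff.2 hg)

theorem card_cent_dvd (hG : Nat.card G = 95040) {g : G} (hg : ¬ orderOf g ∣ 11) :
    Nat.card (centralizer ({g} : Set G)) ∣ 8640 := by
  have h1 := card_subgroup_dvd_card (centralizer ({g} : Set G))
  rw [hG, show 95040 = 11 * 8640 by norm_num] at h1
  refine Nat.Coprime.dvd_of_dvd_mul_left ((Nat.coprime_comm.1 ((Nat.Prime.coprime_iff_not_dvd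
    (by norm_num)).2 fun h => ?_))) h1
  have := Fact.mk (by norm_num : Nat.Prime 11)
  obtain ⟨x, hx⟩ := exists_prime_orderOf_dvd_card' 11 h
  exact hg (not_comm_eleven hG (by rw [orderOf_coe, hx]) (mem_centralizer_singleton_iff.1 x.2).symm)

theorem not_dvd_mul (hG : Nat.card G = 95040) {s t : G} (hs : orderOf s = 2) (ht : orderOf t = 2) :
    ¬ 11 ∣ orderOf (s * t) := fun ⟨k, hk⟩ => by
  have h0 : k ≠ 0 := fun h => (orderOf_pos (s * t)).ne' (by rw [hk, h])
  have h1 : orderOf ((s * t) ^ k) = 11 := by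
    rw [orderOf_pow' _ h0, hk, Nat.gcd_eq_right (Dvd.intro_left _ rfl), Nat.mul_div_cancel _ (Nat.pos_of_ne_zero h0)]
  have s1 : s⁻¹ = s := inv_eq_of_mul_eq_one_right (by rw [← sq, ← hs, pow_orderOf_eq_one])
  have t1 : t⁻¹ = t := inv_eq_of_mul_eq_one_right (by rw [← sq, ← ht, pow_orderOf_eq_one])
  have h2 : t ∈ normalizer ((zpowers ((s * t) ^ k) : Subgroup G) : Set G) := mem_normalizer_fintype (by
    rintro _ ⟨j, rfl⟩
    rw [← conj_zpow, ← conj_pow, show t * (s * t) * t⁻¹ = (s * t)⁻¹ by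
      rw [mul_inv_rev, s1, ← mul_assoc, mul_inv_cancel_right, t1]]
    rw [inv_pow]
    exact zpow_mem (inv_mem (mem_zpowers _)) j)
  have h3 := Subgroup.orderOf_dvd_natCard _ h2
  rw [(cent_eleven hG h1).2, ht] at h3
  norm_num at h3

/-- the principal `11`-block -/
structure BD (a b c d θ θ' : IrrCharacter G) (ea eb ec ed δ : ℤ) : Prop where
  nd : [oneIrr G, a, b, c, d, θ, θ'].Nodup
  sa : ea = 1 ∨ ea = -1
  sb : eb = 1 ∨ eb = -1
  sc : ec = 1 ∨ ec = -1
  sd : ed = 1 ∨ ed = -1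
  sδ : δ = 1 ∨ δ = -1
  rel : ∀ g, ¬ 11 ∣ orderOf g → δ * θ.1 g = 1 + ea * a.1 g + eb * b.1 g + ec * c.1 g + ed * d.1 g
  agree : ∀ g, ¬ 11 ∣ orderOf g → θ'.1 g = θ.1 g
  gal : ∀ χ ∈ [a, b, c, d, θ], ∀ g, (∀ ψ ∈ [a, b, c, d, θ, θ'], charDegree ψ.1 = charDegree χ.1 → ψ.1 g = χ.1 g) →
    ∃ n : ℤ, χ.1 g = n
  out : ∀ χ, χ ∉ [oneIrr G, a, b, c, d, θ, θ'] → 11 ∣ charDegree χ.1
  ma : ea * charDegree a.1 ∈ LX
  mb : eb * charDegree b.1 ∈ LX
  mc : ec * charDegree c.1 ∈ LX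
  md : ed * charDegree d.1 ∈ LX
  mθ : δ * charDegree θ.1 ∈ LY
  ab : charDegree a.1 ≤ charDegree b.1
  bc : charDegree b.1 ≤ charDegree c.1
  cd : charDegree c.1 ≤ charDegree d.1

theorem exists_bd (hG : Nat.card G = 95040) : ∃ (a b c d θ θ' : IrrCharacter G) (ea eb ec ed δ : ℤ),
    BD a b c d θ θ' ea eb ec ed δ := by
  classical
  have := Fintype.ofFinite G
  have hp : Nat.Prime 11 := by norm_num
  have := Fact.mk hp
  have hc := commutator_top (G := G) (by rw [hG]; norm_num)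
  obtain ⟨M, hM⟩ := exists_isPModular hp
  obtain ⟨x, hx⟩ := exists_prime_orderOf_dvd_card' (G := G) 11 (by rw [hG]; norm_num)
  obtain ⟨e, t, δ, X, Y, ε, h, hB⟩ := (ordP_zpowers (m := 8640) hp hG (by norm_num) hx).exists_pW' hM
  obtain ⟨c11, n11⟩ := cent_eleven hG hx
  obtain rfl : e = 5 := by
    have h4 := card_mul_relIndex (centralizer_le_normalizer ((zpowers x : Subgroup G) : Set G))
    rw [h.he, c11, n11] at h4
    omega
  obtain rfl : t = 2 := by have := h.te; omega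
  have hi : (centralizer ((zpowers x : Subgroup G) : Set G)).index = 8640 := by
    have := (centralizer ((zpowers x : Subgroup G) : Set G)).card_mul_index
    rw [c11] at this
    omega
  have hone := h.one_mem_X (by norm_num)
  obtain ⟨θ, θ', hne, rfl⟩ := Finset.card_eq_two.1 h.cardY
  obtain ⟨a, b, c, d, hnd, hs, hab, hbc, hcd⟩ := exists_sorted_four (s := X.erase (oneIrr G))
    (by rw [Finset.card_erase_of_mem hone, h.cardX]) fun χ => charDegree (χ : G → ℂ)
  have hm : ∀ χ, χ ∈ [a, b, c, d] ↔ χ ∈ X ∧ χ ≠ oneIrr G := fun χ => by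
    rw [and_comm, ← Finset.mem_erase, hs]; simp
  have hnd' : [oneIrr G, a, b, c, d, θ, θ'].Nodup := by
    have h5 : ∀ χ ∈ X, χ ≠ θ ∧ χ ≠ θ' := fun χ hχ =>
      ⟨fun e => Finset.disjoint_left.1 h.disj hχ (by simp [e]), fun e => Finset.disjoint_left.1 h.disj hχ (by simp [e])⟩
    change (oneIrr G :: ([a, b, c, d] ++ [θ, θ'])).Nodup
    rw [List.nodup_cons, List.nodup_append, List.mem_append]
    refine ⟨fun h => h.elim (fun h => ((hm _).1 h).2 rfl) (by simpa using h5 _ hone), hnd, by simpa using hne,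
      fun u hu v hv => ?_⟩
    have := h5 u ((hm u).1 hu).1
    simp only [List.mem_cons, List.not_mem_nil, or_false] at hv
    rcases hv with rfl | rfl
    exacts [this.1, this.2]
  have hall : ∀ χ, χ ∈ [oneIrr G, a, b, c, d, θ, θ'] ↔ χ ∈ X ∨ χ ∈ ({θ, θ'} : Finset _) := fun χ => by
    change χ ∈ (oneIrr G :: ([a, b, c, d] ++ [θ, θ'])) ↔ _
    rw [List.mem_cons, List.mem_append, hm]
    by_cases e : χ = oneIrr G <;> simp [e, hone]
  have hX : ∀ χ ∈ [a, b, c, d], ε χ * charDegree χ.1 ∈ LX := fun χ hχ => by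
    obtain ⟨h1, h2⟩ := (hm χ).1 hχ
    have h5 := sum_degree_sq_le {χ}
    rw [Finset.sum_singleton, hG, sq] at h5
    exact mem_LX _ (mem_D8640 (hi ▸ h.dvdX h1)) (fun e => h2 (eq_oneIrr hc e)) h5 _ (by simpa using h.a_sign χ h1)
      (pw_modX h h1)
  have hθ' := h.agree (ξ := θ') (ξ' := θ) (by simp) (by simp) h.reg_one
  refine ⟨a, b, c, d, θ, θ', ε a, ε b, ε c, ε d, δ, hnd', h.a_sign _ ((hm _).1 (by simp)).1,
    h.a_sign _ ((hm _).1 (by simp)).1, h.a_sign _ ((hm _).1 (by simp)).1, h.a_sign _ ((hm _).1 (by simp)).1, h.sign,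
    fun g hg => ?_, fun g hg => h.agree (by simp) (by simp) hg, fun χ hχ g hg => ?_, fun χ hχ => ?_,
    hX a (by simp), hX b (by simp), hX c (by simp), hX d (by simp), ?_, hab, hbc, hcd⟩
  · rw [h.rel θ (by simp) g hg, ← Finset.add_sum_erase _ _ hone, hs, h.a_one hone, coe_oneIrr,
      show ({a, b, c, d} : Finset _) = [a, b, c, d].toFinset by simp, List.sum_toFinset _ hnd]
    simp [add_assoc]
  · refine Galois.exists_int_of_forall_pow (irr_isGenChar χ) fun k hk => ?_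
    obtain ⟨σ, hσ⟩ := Galois.exists_aut_apply_pow g hk
    obtain ⟨j, hj, hj'⟩ := Galois.exists_pow_forall (G := G) (σ : ℂ →+* ℂ)
    have hχ' : χ ∈ [oneIrr G, a, b, c, d, θ, θ'] :=
      List.mem_cons_of_mem _ (show χ ∈ [a, b, c, d, θ] ++ [θ'] from List.mem_append_left _ hχ)
    have h1 := (hall _).2 ((hB _).1 (Perm.pow_mem_principal hM ((hB χ).2 ((hall χ).1 hχ')) hj))
    have h2 : charDegree (fun g => χ.1 (g ^ j)) = charDegree χ.1 := by simp [charDegree]
    rw [← hσ _ (irr_isGenChar χ)]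
    refine (hj' _ (irr_isGenChar χ) g).trans (hg _ ((List.mem_cons.1 h1).resolve_left fun e => ?_) h2)
    rw [show (fun g => χ.1 (g ^ j)) = (oneIrr G).1 from congrArg Subtype.val e, coe_oneIrr,
      charDegree_one_fun] at h2
    exact (List.nodup_cons.1 hnd').1 (eq_oneIrr hc h2.symm ▸ (show χ ∈ [a, b, c, d, θ] ++ [θ'] from
      List.mem_append_left _ hχ))
  · rw [hall, not_or] at hχ
    refine dvd_degree_of_eq_zero hM (irr_isChar χ) (x := x) ⟨1, by rw [hx, pow_one]⟩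
      (h.out (eq_of_le_of_card_ge (H := zpowers x) ?_ ?_).ge χ hχ.1 hχ.2 x (hx ▸ dvd_rfl))
    · rintro _ ⟨j, rfl⟩ _ ⟨k, rfl⟩
      exact (Commute.zpow_zpow_self x k j).eq
    · rw [c11, Nat.card_zpowers, hx]
  · have h5 := sum_degree_sq_le {θ, θ'}
    rw [Finset.sum_pair hne, hG, charDegree_of_eq (hθ'.trans (irr_degree_cast θ).symm)] at h5
    exact mem_LY _ (mem_D8640 (hi ▸ h.dvdY (by simp))) (by nlinarith) _ (by simpa using h.sign)
      (pw_modY h (by simp))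

theorem norm_lt (hG : Nat.card G = 95040) {χ : IrrCharacter G} (h1 : χ ≠ oneIrr G) {g : G} (hg : g ≠ 1) {n : ℤ}
    (hn : χ.1 g = n) : n.natAbs < charDegree χ.1 := by
  have h2 := isChar_norm_le (irr_isChar χ) g (irr_degree_cast χ).symm
  have h3 : center G = ⊥ := (IsSimpleGroup.eq_bot_or_eq_top_of_normal _ inferInstance).resolve_right
    fun h => not_comm hG (isMulCommutative_of_center_eq_top h)
  have h4 : ‖χ.1 g‖ = (n.natAbs : ℝ) := by rw [hn, Complex.norm_intCast, Nat.cast_natAbs, Int.cast_abs]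
  refine lt_of_le_of_ne (by exact_mod_cast h4 ▸ h2) fun e => hg ?_
  have := (mem_charCenter_iff (irr_isChar χ) (z := g)).2 (by
    rw [h4, e, ← irr_degree_cast, Complex.norm_natCast])
  rwa [charCenter_eq_center χ.2 (charKer_eq_bot_of_simple χ.2 fun e => h1 (Subtype.ext e)), h3, mem_bot] at this

theorem central_dvd (hG : Nat.card G = 95040) (χ : IrrCharacter G) {g : G} {n : ℤ} (hn : χ.1 g = n) :
    (charDegree χ.1 : ℤ) ∣ (95040 / Nat.card (centralizer ({g} : Set G)) : ℕ) * n := by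
  have h1 := isIrr_isIntegral_central χ.2 g
  have h2 : (centralizer ({g} : Set G)).index = 95040 / Nat.card (centralizer ({g} : Set G)) := by
    rw [← hG, ← (centralizer ({g} : Set G)).card_mul_index, Nat.mul_div_cancel_left _ Nat.card_pos]
  rw [h2, hn, ← irr_degree_cast] at h1
  exact int_dvd_of_isIntegral_div (by exact_mod_cast irr_degree_ne_zero χ) (by
    simpa only [Int.cast_mul, Int.cast_natCast] using h1)

theorem inv_okv (hG : Nat.card G = 95040) {χ : IrrCharacter G} (h1 : χ ≠ oneIrr G) {e : ℤ} (he : e = 1 ∨ e = -1)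
    {u : G} (hu : orderOf u = 2) : ∃ w : ℤ, χ.1 u = e * w ∧
      okv (Nat.card (centralizer ({u} : Set G))) (e * charDegree χ.1) w = true := by
  have hc := commutator_top (G := G) (by rw [hG]; norm_num)
  obtain ⟨k, -, hk⟩ := inv_val hc (irr_isChar χ) (irr_degree_cast χ).symm (hu ▸ pow_orderOf_eq_one u)
  have h2 := norm_lt hG h1 (fun e => by simp [e] at hu) hk
  have h3 := central_dvd hG χ hk
  refine ⟨e * (charDegree χ.1 - 4 * k), by rw [hk]; rcases he with rfl | rfl <;> simp, ?_⟩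
  simp only [okv, Bool.and_eq_true, beq_iff_eq, decide_eq_true_eq]
  rcases he with rfl | rfl
  · refine ⟨⟨by omega, by omega⟩, Int.emod_eq_zero_of_dvd ?_⟩
    simpa using h3
  · refine ⟨⟨by omega, by omega⟩, Int.emod_eq_zero_of_dvd ?_⟩
    rw [neg_one_mul, neg_one_mul, mul_neg, neg_dvd, dvd_neg]
    exact h3

theorem sum_le_of_nodup {L : List (IrrCharacter G)} (hL : L.Nodup) (f : IrrCharacter G → ℝ) (hf : ∀ χ, 0 ≤ f χ) :
    (L.map f).sum ≤ ∑ χ, f χ := by
  classical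
  rw [← List.sum_toFinset _ hL]
  exact Finset.sum_le_sum_of_subset_of_nonneg (Finset.subset_univ _) fun χ _ _ => hf χ

theorem sum_cs {g : G} (hg : g ≠ 1) : ∑ χ : IrrCharacter G, ‖16 * χ.1 g + χ.1 1‖ ^ 2 =
    256 * Nat.card (centralizer ({g} : Set G)) + Nat.card G := by
  have h1 := sum_irr_norm_sq g
  have h2 := congrArg Complex.re (sum_irr_one_mul_of_ne hg)
  have h3 := congrArg Complex.re (sum_irr_one_sq (G := G))
  rw [Complex.re_sum] at h2 h3
  simp only [← irr_degree_cast] at h2 h3 ⊢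
  rw [Complex.natCast_re] at h3
  rw [Complex.zero_re] at h2
  trans 256 * ∑ χ : IrrCharacter G, ‖χ.1 g‖ ^ 2 + ∑ χ : IrrCharacter G, ((charDegree χ.1 : ℂ) ^ 2).re +
      32 * ∑ χ : IrrCharacter G, ((charDegree χ.1 : ℂ) * χ.1 g).re
  swap
  · rw [h1, h2, h3]; simp
  rw [Finset.mul_sum, Finset.mul_sum, ← Finset.sum_add_distrib, ← Finset.sum_add_distrib]
  refine Finset.sum_congr rfl fun χ _ => ?_
  rw [Complex.sq_norm, Complex.sq_norm, Complex.normSq_apply, Complex.normSq_apply]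
  simp [sq]
  ring

namespace BD

variable {a b c d θ θ' : IrrCharacter G} {ea eb ec ed δ : ℤ} (h : BD a b c d θ θ' ea eb ec ed δ)
include h

theorem ne_one : a ≠ oneIrr G ∧ b ≠ oneIrr G ∧ c ≠ oneIrr G ∧ d ≠ oneIrr G ∧ θ ≠ oneIrr G := by
  have := (List.nodup_cons.1 h.nd).1
  simp only [List.mem_cons, List.not_mem_nil, or_false, not_or] at this
  exact ⟨Ne.symm this.1, Ne.symm this.2.1, Ne.symm this.2.2.1, Ne.symm this.2.2.2.1, Ne.symm this.2.2.2.2.1⟩

theorem deg : δ * charDegree θ.1 = 1 + ea * charDegree a.1 + eb * charDegree b.1 + ec * charDegree c.1 +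
    ed * charDegree d.1 := by
  have h6 := h.rel 1 (by simp)
  simp only [← irr_degree_cast] at h6
  exact_mod_cast h6

theorem sq_le {g : G} (hg : ¬ 11 ∣ orderOf g) {w1 w2 w3 w4 w0 : ℤ} (e1 : a.1 g = ea * w1) (e2 : b.1 g = eb * w2)
    (e3 : c.1 g = ec * w3) (e4 : d.1 g = ed * w4) (e0 : θ.1 g = δ * w0) :
    1 + w1 * w1 + w2 * w2 + w3 * w3 + w4 * w4 + 2 * (w0 * w0) ≤ Nat.card (centralizer ({g} : Set G)) := by
  have h1 := sum_le_of_nodup h.nd (fun χ => ‖χ.1 g‖ ^ 2) fun _ => by positivity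
  have k : ∀ {e w : ℤ}, e = 1 ∨ e = -1 → ‖(e : ℂ) * w‖ ^ 2 = w * w := fun he => by
    rcases he with rfl | rfl <;> simp [sq]
  rw [sum_irr_norm_sq] at h1
  simp only [List.map_cons, List.map_nil, List.sum_cons, List.sum_nil, h.agree g hg, e1, e2, e3, e4, e0, k h.sa,
    k h.sb, k h.sc, k h.sd, k h.sδ, coe_oneIrr, norm_one] at h1
  have : ((1 + w1 * w1 + w2 * w2 + w3 * w3 + w4 * w4 + 2 * (w0 * w0) : ℤ) : ℝ) ≤
    (Nat.card (centralizer ({g} : Set G)) : ℤ) := by push_cast; linarith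
  exact_mod_cast this

theorem inv (hG : Nat.card G = 95040) {u : G} (hu : orderOf u = 2) : ∃ q ∈ MA,
    q.1 = Nat.card (centralizer ({u} : Set G)) ∧ ∃ w1 ∈ vals q.1 q.2 (ea * charDegree a.1),
    ∃ w2 ∈ vals q.1 q.2 (eb * charDegree b.1), ∃ w3 ∈ vals q.1 q.2 (ec * charDegree c.1),
    ∃ w4 ∈ vals q.1 q.2 (ed * charDegree d.1), a.1 u = ea * w1 ∧
      good q.1 (δ * charDegree θ.1) (ea * charDegree a.1) (eb * charDegree b.1) (ec * charDegree c.1)
        (ed * charDegree d.1) (1 + w1 + w2 + w3 + w4) w1 w2 w3 w4 = true := by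
  have := Fintype.ofFinite G
  obtain ⟨n1, n2, n3, n4, n0⟩ := h.ne_one
  obtain ⟨w1, e1, o1⟩ := inv_okv hG n1 h.sa hu
  obtain ⟨w2, e2, o2⟩ := inv_okv hG n2 h.sb hu
  obtain ⟨w3, e3, o3⟩ := inv_okv hG n3 h.sc hu
  obtain ⟨w4, e4, o4⟩ := inv_okv hG n4 h.sd hu
  obtain ⟨w0, e0, o0⟩ := inv_okv hG n0 h.sδ hu
  have u11 : ¬ 11 ∣ orderOf u := by rw [hu]; norm_num
  have k : ∀ {e : ℤ}, e = 1 ∨ e = -1 → (e : ℂ) * e = 1 := fun he => by rcases he with rfl | rfl <;> simp
  have ka := k h.sa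
  have kb := k h.sb
  have kc := k h.sc
  have kd := k h.sd
  have kδ := k h.sδ
  obtain rfl : w0 = 1 + w1 + w2 + w3 + w4 := by
    have h1 := h.rel u u11
    rw [e1, e2, e3, e4, e0] at h1
    apply Int.cast_injective (α := ℂ)
    push_cast
    linear_combination h1 - w0 * kδ + w1 * ka + w2 * kb + w3 * kc + w4 * kd
  have hs := h.sq_le u11 e1 e2 e3 e4 e0
  obtain ⟨q, hq, q1, q2⟩ := mem_MA _ (mem_D8640 (card_cent_dvd hG (g := u) (by rw [hu]; norm_num)))
    (hu ▸ Subgroup.orderOf_dvd_natCard _ (mem_centralizer_singleton_iff.2 rfl))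
  have p1 := mul_self_nonneg w1
  have p2 := mul_self_nonneg w2
  have p3 := mul_self_nonneg w3
  have p4 := mul_self_nonneg w4
  have p0 := mul_self_nonneg (1 + w1 + w2 + w3 + w4)
  rw [← q1] at o1 o2 o3 o4 o0 hs q2
  refine ⟨q, hq, q1, w1, mem_vals o1 (by omega) q2, w2, mem_vals o2 (by omega) q2, w3, mem_vals o3 (by omega) q2,
    w4, mem_vals o4 (by omega) q2, e1, ?_⟩
  simp only [good, Bool.and_eq_true, beq_iff_eq, decide_eq_true_eq]
  refine ⟨⟨⟨o0, hs⟩, ?_⟩, ?_⟩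
  · have h1 := isIrr_sum_conj_mul θ.2 u u
    have h2 : ∀ g, θ.1 (g * u * g⁻¹ * u) = δ * (1 + ea * a.1 (g * u * g⁻¹ * u) + eb * b.1 (g * u * g⁻¹ * u) +
        ec * c.1 (g * u * g⁻¹ * u) + ed * d.1 (g * u * g⁻¹ * u)) := fun g => by
      rw [← h.rel _ (not_dvd_mul hG ((MulAut.conj g).orderOf_eq u ▸ hu) hu), ← mul_assoc, kδ, one_mul]
    rw [Finset.sum_congr rfl fun g _ => h2 g] at h1
    simp only [Finset.sum_add_distrib, ← Finset.mul_sum,
      isIrr_sum_conj_mul a.2, isIrr_sum_conj_mul b.2, isIrr_sum_conj_mul c.2, isIrr_sum_conj_mul d.2,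
      Finset.sum_const, Finset.card_univ, ← Nat.card_eq_fintype_card, hG, e1, e2, e3, e4, e0,
      ← irr_degree_cast, nsmul_eq_mul] at h1
    have kd' : ∀ {e : ℤ} {n : ℕ}, e = 1 ∨ e = -1 → (e * n ∈ LX ∨ e * n ∈ LY) →
        ((8640 / (e * n) : ℤ) : ℂ) = e * 8640 / n := fun {e n} he hm => by
      have h3 : ∀ s, s ∈ LX ∨ s ∈ LY → s ∣ 8640 ∧ s ≠ 0 := by
        simp only [or_imp, forall_and]; decide +kernel
      obtain ⟨h4, h5⟩ := h3 _ hm
      rw [Int.cast_div h4 (by exact_mod_cast h5)]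
      rcases he with rfl | rfl <;> simp [neg_div, div_neg]
    apply Int.cast_injective (α := ℂ)
    simp only [Int.cast_mul, Int.cast_add, kd' h.sa (Or.inl h.ma), kd' h.sb (Or.inl h.mb), kd' h.sc (Or.inl h.mc),
      kd' h.sd (Or.inl h.md), kd' h.sδ (Or.inr h.mθ)]
    push_cast at h1 ⊢
    simp only [div_eq_mul_inv] at h1 ⊢
    generalize ((charDegree a.1 : ℂ))⁻¹ = ia, ((charDegree b.1 : ℂ))⁻¹ = ib, ((charDegree c.1 : ℂ))⁻¹ = ic,
      ((charDegree d.1 : ℂ))⁻¹ = id, ((charDegree θ.1 : ℂ))⁻¹ = i0 at h1 ⊢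
    rcases h.sa with rfl | rfl <;> rcases h.sb with rfl | rfl <;> rcases h.sc with rfl | rfl <;>
      rcases h.sd with rfl | rfl <;> rcases h.sδ with rfl | rfl <;> push_cast at h1 ⊢ <;>
      first | linear_combination (-1 / 11) * h1 | linear_combination (1 / 11) * h1
  · have h1 := sum_le_of_nodup h.nd (fun χ => ‖16 * χ.1 u + χ.1 1‖ ^ 2) fun _ => by positivity
    have k' : ∀ {e w : ℤ} {n : ℕ}, e = 1 ∨ e = -1 → ‖16 * ((e : ℂ) * w) + n‖ ^ 2 =
        ((16 * w + e * n) * (16 * w + e * n) : ℤ) := fun {e w n} he => by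
      rw [show 16 * ((e : ℂ) * w) + n = ((16 * (e * w) + n : ℤ) : ℂ) by push_cast; ring, Complex.norm_intCast, sq_abs]
      rcases he with rfl | rfl <;> push_cast <;> ring
    rw [sum_cs (fun e => by simp [e] at hu), hG, ← q1] at h1
    simp only [List.map_cons, List.map_nil, List.sum_cons, List.sum_nil, h.agree u u11, h.agree 1 (by simp),
      e1, e2, e3, e4, e0, coe_oneIrr] at h1
    simp only [← irr_degree_cast, k' h.sa, k' h.sb, k' h.sc, k' h.sd, k' h.sδ] at h1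
    norm_num at h1
    apply (Int.cast_le (R := ℝ)).1
    push_cast at h1 ⊢
    linarith

end BD

end Cfsg.Agent.O12
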