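import Mathlib
import Cfsg.Agent.O12.B

/-!
Simple groups of order `95040`: the degrees, the Sylow `5`-subgroups and the involution centralisers.
-/

set_option autoImplicit false
set_option linter.unusedSectionVars false
set_option linter.style.haveILetI false

namespace Cfsg.Agent.O12

open Cfsg.Agent.Core Cfsg.Agent.Char Cfsg.Agent.Block Cfsg.Agent.Gl23 Subgroup MulAction

variable {G : Type*} [Group G] [Finite G] [IsSimpleGroup G]

theorem card_sylow (hG : Nat.card G = 95040) {p k : ℕ} (hp : p.Prime) (h1 : p ^ k ∣ 95040) (h2 : ¬ p ^ (k + 1) ∣ 95040)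
    {S : Subgroup G} (hS : IsSylowOf p S ⊤) : Nat.card S = p ^ k := by
  have := Fact.mk hp
  rw [hS.card_eq_pow, card_top, hG]
  congr 1
  rw [hp.pow_dvd_iff_le_factorization (by norm_num)] at h1 h2
  omega

theorem exists_central (hG : Nat.card G = 95040) :
    ∃ z : G, orderOf z = 2 ∧ 64 ∣ Nat.card (centralizer ({z} : Set G)) := by
  have := Fact.mk Nat.prime_two
  obtain ⟨T, hT⟩ := exists_isSylowOf 2 (⊤ : Subgroup G)
  have h5 : Nat.card T = 2 ^ 6 := card_sylow hG Nat.prime_two (by norm_num) (by norm_num) hT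
  have := (Subgroup.nontrivial_iff_ne_bot T).2 (fun h => by simp [h] at h5)
  obtain ⟨z, hz, hz'⟩ := exists_order_of_pgroup (hT.isPGroup.to_subgroup (center T))
    ((center T).nontrivial_iff_ne_bot.1 hT.isPGroup.center_nontrivial)
  exact ⟨z, by rwa [orderOf_coe], (show 64 = Nat.card T from h5.symm) ▸ card_dvd_of_le fun s hs =>
    mem_centralizer_singleton_iff.2 (congrArg Subtype.val (mem_center_iff.1 hz ⟨s, hs⟩))⟩

theorem five_data (hG : Nat.card G = 95040) {y : G} (hy : orderOf y = 5) :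
    (Nat.card (centralizer ({y} : Set G)), (centralizer ((zpowers y : Subgroup G) : Set G)).relIndex
      (normalizer ((zpowers y : Subgroup G) : Set G))) ∈ [(20, 2), (45, 2), (120, 2), (270, 2), (720, 2), (4320, 2),
        (10, 4), (60, 4), (135, 4), (360, 4), (2160, 4)] := by
  have hp : Nat.Prime 5 := by norm_num
  obtain ⟨hS, h1, -⟩ := sylow_data (m := 19008) hp hG (by norm_num) hy
  have h3 := (normalizer ((zpowers y : Subgroup G) : Set G)).card_mul_index
  have h4 := card_mul_relIndex (centralizer_le_normalizer ((zpowers y : Subgroup G) : Set G))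
  have h5 := relIndex_dvd hp hy
  have h6 := burnside_ne hp hy (by omega) hS
  have h7 := card_cent_dvd hG (g := y) (by rw [hy]; norm_num)
  have h8 : 5 ∣ Nat.card (centralizer ({y} : Set G)) :=
    hy ▸ Subgroup.orderOf_dvd_natCard _ (mem_centralizer_singleton_iff.2 rfl)
  nth_rw 1 [Block.centralizer_zpowers] at h4
  generalize (centralizer ((zpowers y : Subgroup G) : Set G)).relIndex
      (normalizer ((zpowers y : Subgroup G) : Set G)) = e at h4 h5 h6 ⊢
  generalize Nat.card (centralizer ({y} : Set G)) = c at h4 h7 h8 ⊢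
  have he : e = 2 ∨ e = 4 := by
    have := Nat.le_of_dvd (by norm_num) h5
    clear * - this h5 h6
    interval_cases e <;> simp_all
  have h9 : c * e ∣ 8640 := by
    refine Nat.Coprime.dvd_of_dvd_mul_left (m := 11) (Nat.coprime_comm.1 ((Nat.Prime.coprime_iff_not_dvd
      (by norm_num)).2 fun h => ?_)) (by rw [h4]; exact ⟨_, hG.symm.trans h3.symm⟩)
    have h10 : 11 ∣ c := by rcases he with rfl | rfl <;> omega
    exact absurd (h10.trans h7) (by norm_num)
  have h10 : c * e / e = c := Nat.mul_div_cancel _ (by omega)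
  have := num_c _ (mem_D8640 h9) e (by simpa using he) (Dvd.intro_left _ rfl) (by rwa [h10]) (by
    rw [h4, ← hG, ← h3, Nat.mul_div_cancel_left _ Nat.card_pos, h1])
  rwa [h10] at this

theorem vanish5 (hG : Nat.card G = 95040) {χ : IrrCharacter G} (h : 5 ∣ charDegree χ.1) {g : G}
    (hg : 5 ∣ orderOf g) : χ.1 g = 0 :=
  vanish_of_dvd (k := 1) (by norm_num) (by rw [hG]; norm_num) (irr_degree_cast χ).symm (by simpa using h) g hg

theorem sub_dvd {χ : G → ℂ} (hχ : IsCharacter G χ) {p : ℕ} (hp : p.Prime) {x u : G} (hx : x ^ p = 1)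
    (hc : x * u = u * x) {m n : ℤ} (hm : χ (x * u) = m) (hn : χ u = n) : (p : ℤ) ∣ m - n := by
  have hε := Complex.isPrimitiveRoot_exp p hp.ne_zero
  obtain ⟨ω, h1, h2⟩ := Galois.exists_sub_eq_one_sub_mul (isChar_isGenChar hχ) hp.ne_zero hε hx hc
  exact Galois.prime_dvd_of_eq_one_sub_mul hp hε h1 (by rw [← h2, hm, hn]; simp)

theorem odd_cent {y : G} (h : ∀ u, orderOf u = 2 → u * y ≠ y * u) : ¬ 2 ∣ Nat.card (centralizer ({y} : Set G)) :=
  fun h2 => by
    have := Fact.mk Nat.prime_two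
    obtain ⟨u, hu⟩ := exists_prime_orderOf_dvd_card' 2 h2
    exact h u (by rwa [orderOf_coe]) (mem_centralizer_singleton_iff.1 u.2)

theorem nine_of_ten (hG : Nat.card G = 95040) {χ : IrrCharacter G} (h : charDegree χ.1 = 10) {y : G}
    (hy : orderOf y = 5) : 9 ∣ Nat.card (centralizer ({y} : Set G)) := by
  have hc := commutator_top (G := G) (by rw [hG]; norm_num)
  have h1 := odd_cent (y := y) fun u hu e => by
    obtain ⟨k, -, hk⟩ := inv_val hc (irr_isChar χ) (irr_degree_cast χ).symm (hu ▸ pow_orderOf_eq_one u)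
    have h2 := norm_lt hG (fun e => by rw [e, coe_oneIrr, charDegree_one_fun] at h; omega)
      (fun e => by simp [e] at hu) hk
    have h3 := sub_dvd (irr_isChar χ) Nat.prime_five (hy ▸ pow_orderOf_eq_one y) e.symm (m := 0) (by
      rw [vanish5 hG (by omega) (by
        rw [(show Commute y u from e.symm).orderOf_mul_eq_mul_orderOf_of_coprime (by rw [hy, hu]; norm_num), hy]
        exact dvd_mul_right _ _)]
      simp) hk
    omega
  have h2 := five_data hG hy
  simp only [List.mem_cons, Prod.mk.injEq, List.not_mem_nil, or_false] at h2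
  omega

theorem small_U (hG : Nat.card G = 95040) {ψ : IrrCharacter G} (h1 : ψ ≠ oneIrr G) (h20 : charDegree ψ.1 < 20)
    {y : G} (hy : orderOf y = 5) {v : ℂ} (hv : ∀ g, 5 ∣ orderOf g → ¬ 11 ∣ orderOf g → ψ.1 g = v)
    (hi : ∀ g, ¬ 11 ∣ orderOf g → ∃ n : ℤ, ψ.1 g = n) : ¬ 9 ∣ Nat.card (centralizer ({y} : Set G)) := fun h9 => by
  have := Fact.mk Nat.prime_three
  obtain ⟨U, hU⟩ := exists_isSylowOf 3 (centralizer ({y} : Set G))
  have hU9 : 9 ∣ Nat.card U := by
    rw [hU.card_eq_pow]
    exact pow_dvd_pow 3 ((Nat.prime_three.pow_dvd_iff_le_factorization (k := 2) Nat.card_pos.ne').1 h9)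
  have hle : U ≤ centralizer ((zpowers y : Subgroup G) : Set G) := Block.centralizer_zpowers y ▸ hU.le
  have h11 : ∀ g ∈ centralizer ({y} : Set G), ¬ 11 ∣ orderOf g := fun g hg h =>
    absurd ((h.trans (Subgroup.orderOf_dvd_natCard _ hg)).trans
      (card_cent_dvd hG (g := y) (by rw [hy]; norm_num))) (by norm_num)
  have hP : OrdP 5 (zpowers y) := ordP_zpowers (m := 19008) Nat.prime_five hG (by norm_num) hy
  have hyc : zpowers y ≤ centralizer ({y} : Set G) := zpowers_le.2 (mem_centralizer_singleton_iff.2 rfl)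
  have := Fintype.ofFinite G
  obtain ⟨η, k, hη, e⟩ := Perm.exists_eq_smul_add (irr_isChar ψ) hle fun x hx x1 u hu => by
    have x1' : (⟨x, hx⟩ : zpowers y) ≠ 1 := fun e => x1 (congrArg Subtype.val e)
    obtain ⟨j, hj⟩ := exists_orderOf_eq_pow_of_mem Nat.prime_three hU.isPGroup hu
    rw [hv _ (hP.dvd_orderOf_mul x1' (hle hu) (by
      rw [hj]; exact fun h => absurd (Nat.prime_five.dvd_of_dvd_pow h) (by norm_num)))
      (h11 _ (mul_mem (hyc hx) (hU.le hu))), hv _ (hP.dvd_orderOf x1') (h11 _ (hyc hx))]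
  obtain ⟨N, hN⟩ := isChar_degree hη
  have e' : ∀ u : U, ψ.1 u = 5 * η u + k := fun u => by
    rw [hP.card] at e
    simpa using congrFun e u
  have hN' : N ≤ 3 := by
    have h2 := e' 1
    rw [OneMemClass.coe_one, ← irr_degree_cast, hN] at h2
    have : charDegree ψ.1 = 5 * N + k := by exact_mod_cast h2
    omega
  have h2 := Perm.schur_dvd hη hN Nat.prime_three (R := ⊤) (hU.isPGroup.to_subgroup _)
    (fun g _ hg => by
      by_contra h3
      exact ne_degree h1 (fun e => h3 (Subtype.ext e)) ((e' g).trans (hg ▸ (e' 1).symm)))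
    fun g _ => by
      obtain ⟨n, hn⟩ := hi g (h11 _ (hU.le g.2))
      have h3 : η g = (((n - k) / 5 : ℚ) : ℂ) := by
        push_cast
        linear_combination (hn - e' g) / 5
      obtain ⟨l, hl⟩ := exists_int_of_isIntegral_ratCast (h3 ▸ isChar_isIntegral hη g)
      exact ⟨l, by rw [h3, hl]; simp⟩
  rw [card_top] at h2
  have h3 := hU9.trans h2
  interval_cases N <;> simp at h3

theorem mod_five {χ : IrrCharacter G} {y : G} (hy : orderOf y = 5) {n : ℤ}
    (hn : χ.1 y = n) : (charDegree χ.1 : ℤ) % 5 = n % 5 := by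
  obtain ⟨M, hM⟩ := exists_isPModular Nat.prime_five
  exact int_modEq_of_val hM (irr_isChar χ) ⟨1, by rw [hy, pow_one]⟩ hn

theorem sq_le_cent (χ : IrrCharacter G) {g : G} {n : ℤ} (hn : χ.1 g = n) :
    n * n ≤ Nat.card (centralizer ({g} : Set G)) := by
  have h1 := sum_le_of_nodup (List.nodup_singleton χ) (fun χ => ‖χ.1 g‖ ^ 2) fun _ => by positivity
  rw [sum_irr_norm_sq] at h1
  simp only [List.map_cons, List.map_nil, List.sum_cons, List.sum_nil, hn, Complex.norm_intCast,
    add_zero, sq, abs_mul_abs_self] at h1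
  exact_mod_cast h1

theorem sign_deg {e : ℤ} (he : e = 1 ∨ e = -1) (n : ℕ) : e = 1 ∧ e * n = n ∨ e = -1 ∧ e * n = -n := by
  rcases he with rfl | rfl <;> simp

theorem LX_LY : ∀ s ∈ LX, ∀ r ∈ LY, s.natAbs ≠ r.natAbs := by decide +kernel

theorem natAbs_sign {e : ℤ} (he : e = 1 ∨ e = -1) (n : ℕ) : (e * n).natAbs = n := by
  rcases he with rfl | rfl <;> simp

/-- what is needed for the local analysis -/
structure Loc (G : Type*) [Group G] : Prop where
  card : Nat.card G = 95040
  inv : ∀ s : G, orderOf s = 2 → Nat.card (centralizer ({s} : Set G)) = 192 ∨ Nat.card (centralizer ({s} : Set G)) = 240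
  five : ∀ y : G, orderOf y = 5 → Nat.card (centralizer ({y} : Set G)) = 10 ∧
    Nat.card (normalizer ((zpowers y : Subgroup G) : Set G)) = 40
  chi : ∃ χ : G → ℂ, IsCharacter G χ ∧ χ 1 = 45 ∧ ∀ s : G, orderOf s = 2 →
    (Nat.card (centralizer ({s} : Set G)) = 192 → χ s = -3) ∧ (Nat.card (centralizer ({s} : Set G)) = 240 → χ s = 5)

omit [IsSimpleGroup G] in
theorem inv_unique {y s s' : G} (hy : orderOf y = 5) (h : Nat.card (centralizer ({y} : Set G)) = 10)
    (hs : orderOf s = 2) (hs' : orderOf s' = 2) (c : s * y = y * s) (c' : s' * y = y * s') : s' = s := by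
  have hc : Commute y s := c.symm
  have h1 : orderOf (y * s) = 10 := by
    rw [hc.orderOf_mul_eq_mul_orderOf_of_coprime (by rw [hy, hs]; norm_num), hy, hs]
  have h2 : zpowers (y * s) = centralizer ({y} : Set G) := eq_of_le_of_card_ge
    (zpowers_le.2 (mem_centralizer_singleton_iff.2 ((Commute.refl y).mul_right hc).symm.eq))
    (by rw [h, Nat.card_zpowers, h1])
  obtain ⟨k, hk⟩ := (mem_powers_iff_mem_zpowers.2 (h2.ge (mem_centralizer_singleton_iff.2 c')) :
    ∃ k : ℕ, (y * s) ^ k = _)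
  dsimp only at hk
  have h3 : s' ^ 2 = 1 := hs' ▸ pow_orderOf_eq_one s'
  rw [← hk, ← pow_mul, ← orderOf_dvd_iff_pow_eq_one, h1] at h3
  rw [hc.mul_pow, orderOf_dvd_iff_pow_eq_one.1 (show orderOf y ∣ k by rw [hy]; omega), one_mul,
    ← pow_mod_orderOf, hs] at hk
  rcases Nat.mod_two_eq_zero_or_one k with e | e <;> rw [e] at hk
  · rw [← hk] at hs'; simp at hs'
  · rw [← hk, pow_one]

omit [IsSimpleGroup G] in
theorem normalizer_le {y s : G} (hy : orderOf y = 5) (h : Nat.card (centralizer ({y} : Set G)) = 10)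
    (hs : orderOf s = 2) (c : s * y = y * s) :
    normalizer ((zpowers y : Subgroup G) : Set G) ≤ centralizer ({s} : Set G) := fun n hn => by
  have h1 : n * s * n⁻¹ ∈ centralizer ((zpowers y : Subgroup G) : Set G) :=
    ((normal_subgroupOf_iff (centralizer_le_normalizer _)).1 inferInstance) s n
      (Block.centralizer_zpowers y ▸ mem_centralizer_singleton_iff.2 c) hn
  rw [Block.centralizer_zpowers] at h1
  have h2 := inv_unique hy h hs ((MulAut.conj n).orderOf_eq s ▸ hs) c (mem_centralizer_singleton_iff.1 h1)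
  exact mem_centralizer_singleton_iff.2 (mul_inv_eq_iff_eq_mul.1 h2)

namespace BD

variable {a b c d θ θ' : IrrCharacter G} {ea eb ec ed δ : ℤ} (h : BD a b c d θ θ' ea eb ec ed δ)
include h

theorem deg' : charDegree θ'.1 = charDegree θ.1 := by
  rw [charDegree, h.agree 1 (by simp), charDegree]

theorem neθ {χ : IrrCharacter G} (hχ : χ ∈ [a, b, c, d]) : charDegree χ.1 ≠ charDegree θ.1 := by
  have h0 := natAbs_sign h.sδ (charDegree θ.1)
  simp only [List.mem_cons, List.not_mem_nil, or_false] at hχ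
  rcases hχ with rfl | rfl | rfl | rfl
  · simpa only [h0, natAbs_sign h.sa] using LX_LY _ h.ma _ h.mθ
  · simpa only [h0, natAbs_sign h.sb] using LX_LY _ h.mb _ h.mθ
  · simpa only [h0, natAbs_sign h.sc] using LX_LY _ h.mc _ h.mθ
  · simpa only [h0, natAbs_sign h.sd] using LX_LY _ h.md _ h.mθ

theorem θint (g : G) (hg : ¬ 11 ∣ orderOf g) : ∃ n : ℤ, θ.1 g = n := h.gal θ (by simp) g fun ψ hψ e => by
  rcases List.mem_append.1 (show ψ ∈ [a, b, c, d] ++ [θ, θ'] from hψ) with h1 | h1
  · exact absurd e (h.neθ h1)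
  · simp only [List.mem_cons, List.not_mem_nil, or_false] at h1
    rcases h1 with rfl | rfl
    exacts [rfl, h.agree g hg]

theorem xint {χ : IrrCharacter G} (hχ : χ ∈ [a, b, c, d])
    (hu : ∀ ψ ∈ [a, b, c, d], charDegree ψ.1 = charDegree χ.1 → ψ = χ) (g : G) : ∃ n : ℤ, χ.1 g = n :=
  h.gal χ (List.mem_append_left [θ] hχ) g fun ψ hψ e => by
    rcases List.mem_append.1 (show ψ ∈ [a, b, c, d] ++ [θ, θ'] from hψ) with h1 | h1
    · rw [hu ψ h1 e]
    · simp only [List.mem_cons, List.not_mem_nil, or_false] at h1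
      rcases h1 with rfl | rfl
      exacts [absurd e.symm (h.neθ hχ), absurd (e.symm.trans h.deg') (h.neθ hχ)]

set_option maxHeartbeats 1000000 in
theorem pat (hG : Nat.card G = 95040) : ea = 1 ∧ eb = -1 ∧ ec = -1 ∧ ed = 1 ∧ δ = 1 ∧ charDegree a.1 = 45 ∧
    charDegree b.1 = 54 ∧ charDegree c.1 = 120 ∧ charDegree d.1 = 144 ∧ charDegree θ.1 = 16 := by
  have := Fact.mk Nat.prime_three
  have := Fact.mk Nat.prime_five
  obtain ⟨z, hz, h64⟩ := exists_central hG
  obtain ⟨y, hy⟩ := exists_prime_orderOf_dvd_card' (G := G) 5 (by rw [hG]; norm_num)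
  obtain ⟨q, hq, q1, w1, m1, w2, m2, w3, m3, w4, m4, -, hg⟩ := h.inv hG hz
  obtain ⟨n1, n2, n3, n4, n0⟩ := h.ne_one
  have k : ∀ {e : ℤ} (χ : IrrCharacter G), e = 1 ∨ e = -1 → χ.1 1 = e * ((e * charDegree χ.1 : ℤ) : ℂ) :=
    fun χ he => by rw [← irr_degree_cast]; rcases he with rfl | rfl <;> simp
  have hs := h.sq_le (g := 1) (by simp) (k a h.sa) (k b h.sb) (k c h.sc) (k d h.sd) (k θ h.sδ)
  rw [centralizer_eq_top_iff_subset.2 (by simp), card_top, hG, h.deg] at hs
  have hd := h.deg
  have sa := sign_deg h.sa (charDegree a.1)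
  have sb := sign_deg h.sb (charDegree b.1)
  have sc := sign_deg h.sc (charDegree c.1)
  have sd := sign_deg h.sd (charDegree d.1)
  have sδ := sign_deg h.sδ (charDegree θ.1)
  rcases num_pat _ h.ma _ h.mb (by rw [natAbs_sign h.sa, natAbs_sign h.sb]; exact h.ab) _ h.mc
    (by rw [natAbs_sign h.sb, natAbs_sign h.sc]; exact h.bc) _ h.md
    (by rw [natAbs_sign h.sc, natAbs_sign h.sd]; exact h.cd) (hd ▸ h.mθ) hs q hq (q1 ▸ h64) w1 m1 w2 m2 w3 m3 w4 m4
    (hd ▸ hg) with e | ⟨e1, e2, e3, e4⟩ | ⟨e1, e2, e3, e4⟩ | ⟨e1, e2, e3, e4⟩ | ⟨e1, e2, e3, e4⟩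
  · exfalso
    obtain ⟨R, hR⟩ := exists_isSylowOf 3 (⊤ : Subgroup G)
    have h1 := Perm.schur_dvd (irr_isChar θ) (N := 5) (by rw [← irr_degree_cast]; congr 1; omega) Nat.prime_three
      hR.isPGroup (fun g _ hg => by_contra fun h3 => ne_degree n0 h3 hg) fun g hg => h.θint g (by
        obtain ⟨j, hj⟩ := exists_orderOf_eq_pow_of_mem Nat.prime_three hR.isPGroup hg
        rw [hj]
        exact fun h => absurd (Nat.Prime.dvd_of_dvd_pow (by norm_num) h) (by norm_num))
    rw [card_sylow hG (k := 3) Nat.prime_three (by norm_num) (by norm_num) hR] at h1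
    norm_num [Nat.factorial] at h1
  · exfalso
    have k10 : ∀ s ∈ LX, s ≠ -10 → s.natAbs ≠ 10 := by decide +kernel
    have h1 := k10 _ h.mb e2
    have h2 := k10 _ h.mc e3
    have h3 := k10 _ h.md e4
    rw [natAbs_sign h.sb] at h1
    rw [natAbs_sign h.sc] at h2
    rw [natAbs_sign h.sd] at h3
    refine small_U hG n1 (by omega) hy (fun g h5 _ => vanish5 hG (by omega) h5) (fun g _ => h.xint (by simp)
      (fun ψ hψ e => ?_) g) (nine_of_ten hG (χ := a) (by omega) hy)
    simp only [List.mem_cons, List.not_mem_nil, or_false] at hψ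
    rcases hψ with rfl | rfl | rfl | rfl <;> first | omega | rfl
  · exfalso
    refine small_U hG n0 (by omega) hy (v := 1) (fun g h5 h11 => ?_) h.θint (nine_of_ten hG (χ := a) (by omega) hy)
    have h1 := h.rel g h11
    rw [vanish5 hG (χ := a) (by omega) h5, vanish5 hG (χ := b) (by omega) h5, vanish5 hG (χ := c) (by omega) h5,
      vanish5 hG (χ := d) (by omega) h5, show δ = 1 by omega] at h1
    simpa using h1
  · exfalso
    have h1 := odd_cent (y := y) fun u hu e => by
      obtain ⟨q, hq, q1, w1, m1, w2, m2, w3, m3, w4, m4, -, hg⟩ := h.inv hG hu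
      rw [e1] at m1 hg
      rw [e2] at m2 hg
      rw [e3] at m3 hg
      rw [e4] at m4 hg
      rw [show δ * charDegree θ.1 = -160 by omega] at hg
      have h2 := Subgroup.orderOf_dvd_natCard _ (mem_centralizer_singleton_iff.2 e.symm)
      rw [← q1, num_F q hq w1 m1 w2 m2 w3 m3 w4 m4 hg, hy] at h2
      norm_num at h2
    obtain ⟨n, hn⟩ := h.xint (χ := c) (by simp) (fun ψ hψ e => by
      simp only [List.mem_cons, List.not_mem_nil, or_false] at hψ
      rcases hψ with rfl | rfl | rfl | rfl <;> first | omega | rfl) y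
    have h2 := five_data hG hy
    have h3 := mod_five hy hn
    have h4 := central_dvd hG c hn
    have h5 := sq_le_cent c hn
    rw [show charDegree c.1 = 54 by omega] at h3 h4
    simp only [List.mem_cons, Prod.mk.injEq, List.not_mem_nil, or_false] at h2
    have h6 : n ≤ 11 := by nlinarith [show Nat.card (centralizer ({y} : Set G)) ≤ 135 by omega]
    have h7 : -11 ≤ n := by nlinarith [show Nat.card (centralizer ({y} : Set G)) ≤ 135 by omega]
    rcases (show Nat.card (centralizer ({y} : Set G)) = 45 ∨ Nat.card (centralizer ({y} : Set G)) = 135 by omega)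
      with e | e <;> rw [e] at h4 h5
    · have : n = 9 := by omega
      subst this
      norm_num at h5
    · omega
  · omega

theorem five (hG : Nat.card G = 95040) {y : G} (hy : orderOf y = 5) : Nat.card (centralizer ({y} : Set G)) = 10 ∧
    Nat.card (normalizer ((zpowers y : Subgroup G) : Set G)) = 40 := by
  classical
  have := Fintype.ofFinite G
  obtain ⟨rfl, rfl, rfl, rfl, rfl, da, db, dc, dd, dθ⟩ := h.pat hG
  have y11 : ¬ 11 ∣ orderOf y := by rw [hy]; norm_num
  obtain ⟨n, hn⟩ := h.xint (χ := b) (by simp) (fun ψ hψ e => by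
    simp only [List.mem_cons, List.not_mem_nil, or_false] at hψ
    rcases hψ with rfl | rfl | rfl | rfl <;> first | omega | rfl) y
  obtain ⟨m, hm⟩ := h.xint (χ := d) (by simp) (fun ψ hψ e => by
    simp only [List.mem_cons, List.not_mem_nil, or_false] at hψ
    rcases hψ with rfl | rfl | rfl | rfl <;> first | omega | rfl) y
  have ha := vanish5 hG (χ := a) (by omega) (hy ▸ dvd_rfl : 5 ∣ orderOf y)
  have hc := vanish5 hG (χ := c) (by omega) (hy ▸ dvd_rfl : 5 ∣ orderOf y)
  have hθ : θ.1 y = (1 - n + m : ℤ) := by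
    have := h.rel y y11
    rw [ha, hc, hn, hm] at this
    push_cast at this ⊢
    linear_combination this
  have h1 := h.sq_le y11 (w1 := 0) (w2 := -n) (w3 := 0) (w4 := m) (w0 := 1 - n + m) (by simp [ha]) (by simp [hn])
    (by simp [hc]) (by simp [hm]) (by simp [hθ])
  have h2 := five_data hG hy
  have h3 := mod_five hy hn
  have h4 := mod_five hy hm
  have h5 := central_dvd hG b hn
  have h6 := central_dvd hG d hm
  have h7 := central_dvd hG θ hθ
  have h8 := norm_lt hG h.ne_one.2.2.2.2 (fun e => by simp [e] at hy) hθ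
  rw [db] at h3 h5
  rw [dd] at h4 h6
  rw [dθ] at h7 h8
  simp only [List.mem_cons, Prod.mk.injEq, List.not_mem_nil, or_false] at h2
  have hle : (Nat.card (centralizer ({y} : Set G)) : ℤ) ≤ 4320 := by omega
  have hr : ∀ n : ℤ, n * n ≤ 4320 → n % 5 = 4 → n ∈ (List.range 27).map fun k : ℕ => 5 * (k : ℤ) - 66 :=
    fun n h1 h2 => by
      have h3 : n ≤ 65 := by nlinarith
      have h4 : -65 ≤ n := by nlinarith
      exact List.mem_map.2 ⟨((n + 66) / 5).toNat, List.mem_range.2 (by omega), by omega⟩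
  have h9 := num_y _ (by simp only [List.mem_cons, List.not_mem_nil, or_false]; omega) n
    (hr n (by nlinarith [mul_self_nonneg m, mul_self_nonneg (1 - n + m)]) (by omega)) h5 m
    (hr m (by nlinarith [mul_self_nonneg n, mul_self_nonneg (1 - n + m)]) (by omega)) h6 h7 h8 (by linarith)
  have h10 := card_mul_relIndex (centralizer_le_normalizer ((zpowers y : Subgroup G) : Set G))
  nth_rw 1 [Block.centralizer_zpowers] at h10
  obtain ⟨e, t, δ, X, Y, ε, hP⟩ := (ordP_zpowers (m := 19008) Nat.prime_five hG (by norm_num) hy).exists_pW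
  rw [hP.he] at h2 h10
  obtain rfl : e = 4 := by
    by_contra h11
    obtain rfl : e = 2 := by omega
    have hte := hP.te
    obtain ⟨χ, hχ, -, h12⟩ := pw_two hP (by omega)
    obtain ⟨ξ, hξ⟩ := hP.exists_Y
    have h13 := h12 ξ hξ
    have h14 := pw_modY hP hξ
    have hl : ∀ ψ ∈ [oneIrr G, a, b, c, d, θ, θ'], (charDegree ψ.1 : ℤ) ∈ [(1 : ℤ), 45, 54, 120, 144, 16] := by
      simp [da, db, dc, dd, dθ, h.deg', charDegree_one_fun]
    have h15 : 11 ∣ charDegree ξ.1 := h.out ξ fun hm => by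
      have := hl ξ hm
      simp only [List.mem_cons, List.not_mem_nil, or_false] at this
      rcases hP.sign with rfl | rfl <;> omega
    have h16 := hl χ (by_contra fun hm => by
      have := h.out χ hm
      rcases hP.sign with rfl | rfl <;> rcases hP.a_sign χ hχ with e | e <;> rw [e] at h13 <;> omega)
    have h17 : δ * (1 + ε χ * charDegree χ.1) = charDegree ξ.1 := by rw [← h13, ← mul_assoc, hP.sq, one_mul]
    refine num_e _ h16 _ (by simpa using hP.a_sign χ hχ) δ (by simpa using hP.sign) ?_ ?_ (h13 ▸ h14)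
    · rw [h17]; exact_mod_cast hG ▸ irr_degree_dvd ξ
    · rw [h17]; exact_mod_cast h15
  omega

theorem loc (hG : Nat.card G = 95040) : Loc G := by
  obtain ⟨rfl, rfl, rfl, rfl, rfl, da, db, dc, dd, dθ⟩ := h.pat hG
  have key : ∀ s : G, orderOf s = 2 → Nat.card (centralizer ({s} : Set G)) = 192 ∧ a.1 s = -3 ∨
      Nat.card (centralizer ({s} : Set G)) = 240 ∧ a.1 s = 5 := fun s hs => by
    obtain ⟨q, hq, q1, w1, m1, w2, m2, w3, m3, w4, m4, e, hg⟩ := h.inv hG hs
    rw [da] at m1 hg
    rw [db] at m2 hg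
    rw [dc] at m3 hg
    rw [dd] at m4 hg
    rw [dθ] at hg
    rcases num_G q hq w1 m1 w2 m2 w3 m3 w4 m4 hg with ⟨e1, rfl⟩ | ⟨e1 | e1, rfl⟩
    · exact Or.inl ⟨q1 ▸ e1, by simpa using e⟩
    · exfalso
      have := Fact.mk Nat.prime_five
      obtain ⟨y, hy⟩ := exists_prime_orderOf_dvd_card' (G := centralizer ({s} : Set G)) 5 (by rw [← q1, e1]; norm_num)
      rw [← orderOf_coe] at hy
      obtain ⟨h1, h2⟩ := h.five hG hy
      have h3 := normalizer_le hy h1 hs (mem_centralizer_singleton_iff.1 y.2).symm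
      have h4 := relIndex_normalizer_mod Nat.prime_five
        ((sylow_data (m := 19008) Nat.prime_five hG (by norm_num) hy).1.of_le (zpowers_le.2 y.2) le_top)
      have h5 := card_mul_relIndex h3
      rw [h2] at h5
      omega
    · exact Or.inr ⟨q1 ▸ e1, by simpa using e⟩
  exact ⟨hG, fun s hs => (key s hs).imp And.left And.left, fun y hy => h.five hG hy, a.1, irr_isChar a,
    by rw [← irr_degree_cast, da]; rfl, fun s hs => ⟨fun e => ((key s hs).resolve_right (by omega)).2,
      fun e => ((key s hs).resolve_left (by omega)).2⟩⟩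

end BD

theorem loc (hG : Nat.card G = 95040) : Loc G := by
  obtain ⟨a, b, c, d, θ, θ', ea, eb, ec, ed, δ, h⟩ := exists_bd hG
  exact h.loc hG

end Cfsg.Agent.O12
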