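import Mathlib
import Cfsg.Agent.Golay.Cls

/-!
The conjugacy classes of `M₁₂`: searches.
-/

set_option autoImplicit false
set_option maxRecDepth 100000

namespace Cfsg.Agent.O12

open Cfsg.Agent.Golay

theorem clb9 : bfs cjc (mapL (fun c => c) gensM12) 217198675232750412021963004079148610 16000 (fun L _ => lenL L) = 15840 := by decide +kernel

theorem clb12 : bfs cjc (mapL (fun c => c) gensM12) 217198874686095725767329265316415558 16000 (fun L _ => lenL L) = 9504 := by decide +kernel

theorem clp13 : bfs cjc (mapL (fun c => c) gensM12) 217203936550312268397787658973200777 16000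
    (fun L _ => Nat.succ (sumL (fun c => isZ (Nat.xor c 217203972306783528316114355578144268)) L)) = 1 := by decide +kernel

theorem clb5 : bfs cjc (mapL (fun c => c) gensM12) 217203894423776824766483921722837248 16000 (fun L _ => lenL L) = 2970 := by decide +kernel

theorem clb6 : bfs cjc (mapL (fun c => c) gensM12) 217251984573040203475962322024473740 16000 (fun L _ => lenL L) = 2970 := by decide +kernel

theorem clb4 : bfs cjc (mapL (fun c => c) gensM12) 217208812756306799962969302259605574 16000 (fun L _ => lenL L) = 2640 := by decide +kernel

theorem clb1 : bfs cjc (mapL (fun c => c) gensM12) 217242958470685173785717296374952361 16000 (fun L _ => lenL L) = 396 := by decide +kernel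

end Cfsg.Agent.O12
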