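import Mathlib
import Cfsg.Agent.Golay.Cls

/-!
The conjugacy classes of `M₁₂`: searches.
-/

set_option autoImplicit false
set_option maxRecDepth 100000

namespace Cfsg.Agent.O12

open Cfsg.Agent.Golay

theorem clb10 : bfs cjc (mapL (fun c => c) gensM12) 217202385259155599935132704090393858 16000 (fun L _ => lenL L) = 11880 := by decide +kernel

theorem clp10 : bfs cjc (mapL (fun c => c) gensM12) 217202385259155599935132704090393858 16000
    (fun L _ => Nat.succ (sumL (fun c => isZ (Nat.xor c 217202582288715527871966328164389388)) L)) = 1 := by decide +kernel

theorem clb14 : bfs cjc (mapL (fun c => c) gensM12) 217203972306783528316114355578144268 16000 (fun L _ => lenL L) = 8640 := by decide +kernel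

theorem clp8 : bfs cjc (mapL (fun c => c) gensM12) 217198557463888597736854725899720818 16000
    (fun L _ => Nat.succ (sumL (fun c => isZ (Nat.xor c 217198675232750412021963004079148610)) L)) = 1 := by decide +kernel

theorem clb3 : bfs cjc (mapL (fun c => c) gensM12) 217372430128375662555350262014390697 16000 (fun L _ => lenL L) = 1760 := by decide +kernel

theorem clb2 : bfs cjc (mapL (fun c => c) gensM12) 217372073407925671434666431008056844 16000 (fun L _ => lenL L) = 495 := by decide +kernel

theorem clp1 : bfs cjc (mapL (fun c => c) gensM12) 217242958470685173785717296374952361 16000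
    (fun L _ => Nat.succ (sumL (fun c => isZ (Nat.xor c 217372073407925671434666431008056844)) L)) = 1 := by decide +kernel

end Cfsg.Agent.O12
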