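import Mathlib
import Cfsg.Agent.Golay.Cls

/-!
The conjugacy classes of `M₁₂`: searches.
-/

set_option autoImplicit false
set_option maxRecDepth 100000

namespace Cfsg.Agent.O12

open Cfsg.Agent.Golay

theorem clb11 : bfs cjc (mapL (fun c => c) gensM12) 217202582288715527871966328164389388 16000 (fun L _ => lenL L) = 11880 := by decide +kernel

theorem clb7 : bfs cjc (mapL (fun c => c) gensM12) 217208982442107673819335187682672781 16000 (fun L _ => lenL L) = 9504 := by decide +kernel

theorem clb13 : bfs cjc (mapL (fun c => c) gensM12) 217203936550312268397787658973200777 16000 (fun L _ => lenL L) = 8640 := by decide +kernel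

theorem clb8 : bfs cjc (mapL (fun c => c) gensM12) 217198557463888597736854725899720818 16000 (fun L _ => lenL L) = 7920 := by decide +kernel

theorem clp5 : bfs cjc (mapL (fun c => c) gensM12) 217203894423776824766483921722837248 16000
    (fun L _ => Nat.succ (sumL (fun c => isZ (Nat.xor c 217251984573040203475962322024473740)) L)) = 1 := by decide +kernel

theorem clp3 : bfs cjc (mapL (fun c => c) gensM12) 217372430128375662555350262014390697 16000
    (fun L _ => Nat.succ (sumL (fun c => isZ (Nat.xor c 217208812756306799962969302259605574)) L)) = 1 := by decide +kernel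

theorem clb0 : bfs cjc (mapL (fun c => c) gensM12) one 16000 (fun L _ => lenL L) = 1 := by decide +kernel

end Cfsg.Agent.O12
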