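import Mathlib
import Cfsg.Agent.O12.ClsA
import Cfsg.Agent.O12.ClsB
import Cfsg.Agent.O12.ClsC

/-!
The conjugacy classes of `M₁₂`.
-/

set_option autoImplicit false
set_option maxRecDepth 100000

namespace Cfsg.Agent.O12

open Cfsg.Agent.Golay

/-- the classes of `M₁₂` -/
def cls12 : List (ℕ × ℕ × ℕ) :=
  [(one, 1, 1),
   (217242958470685173785717296374952361, 2, 396),
   (217372073407925671434666431008056844, 2, 495),
   (217372430128375662555350262014390697, 3, 1760),
   (217208812756306799962969302259605574, 3, 2640),
   (217203894423776824766483921722837248, 4, 2970),
   (217251984573040203475962322024473740, 4, 2970),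
   (217208982442107673819335187682672781, 5, 9504),
   (217198557463888597736854725899720818, 6, 7920),
   (217198675232750412021963004079148610, 6, 15840),
   (217202385259155599935132704090393858, 8, 11880),
   (217202582288715527871966328164389388, 8, 11880),
   (217198874686095725767329265316415558, 10, 9504),
   (217203936550312268397787658973200777, 11, 8640),
   (217203972306783528316114355578144268, 11, 8640)]

theorem classData_M12 : ClassData Spor.M12 (cls12.map fun r => (tp r.1, r.2)) :=
  classData gen_M12 cls12 16000 (test_M12 (by decide +kernel)) (by decide +kernel) (by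
    simp only [cls12, List.forall_mem_cons, List.not_mem_nil, false_imp_iff, implies_true, and_true]
    exact ⟨clb0, clb1, clb2, clb3, clb4, clb5, clb6, clb7, clb8, clb9, clb10, clb11, clb12, clb13, clb14⟩) (by
    simp only [cls12, List.pairwise_cons, List.forall_mem_cons, List.not_mem_nil, false_imp_iff, implies_true, and_true,
      List.Pairwise.nil, Nat.reduceEqDiff, clp1, clp3, clp5, clp8, clp10, clp13]) card_M12

theorem card_conjClasses_M12 : Nat.card (ConjClasses Spor.M12) = 15 := classData_M12.card_conjClasses

end Cfsg.Agent.O12
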