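import Mathlib
import Cfsg.Agent.O12.C
import Cfsg.Agent.M12R.Main
import Cfsg.Agent.S5945

/-!
Simple groups of order `95040`: the centraliser of order `240`.
-/

set_option autoImplicit false
set_option linter.unusedSectionVars false
set_option linter.style.haveILetI false
set_option maxRecDepth 100000
set_option synthInstance.maxSize 100000

namespace Cfsg.Agent.O12

open Cfsg.Agent.Core Cfsg.Agent.Gl23 Cfsg.Agent.M12R Subgroup MulAction

variable {G : Type*} [Group G] [Finite G] [IsSimpleGroup G]

local notation "𝐜" x:max => Nat.card (centralizer ({x} : Set _))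

omit [Finite G] [IsSimpleGroup G] in
theorem two_of {s : G} (h : s * s = 1) (h1 : s ≠ 1) : orderOf s = 2 :=
  have := Fact.mk Nat.prime_two
  orderOf_eq_prime (by rwa [sq]) h1

theorem Loc.conj (h : Loc G) {s s' : G} (hs : orderOf s = 2) (hs' : orderOf s' = 2) (c : 𝐜 s = 240)
    (c' : 𝐜 s' = 240) : IsConj s' s := by
  have := Fact.mk Nat.prime_five
  obtain ⟨y, hy⟩ := exists_prime_orderOf_dvd_card' (G := centralizer ({s} : Set G)) 5 (by rw [c]; norm_num)
  obtain ⟨y', hy'⟩ := exists_prime_orderOf_dvd_card' (G := centralizer ({s'} : Set G)) 5 (by rw [c']; norm_num)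
  rw [← orderOf_coe] at hy hy'
  obtain ⟨k, -, hk⟩ := (sylow_data (m := 19008) Nat.prime_five h.card (by norm_num) hy).1.exists_conj_le
    (sylow_data (m := 19008) Nat.prime_five h.card (by norm_num) hy').1.isPGroup le_top
  obtain ⟨j, hj⟩ : k * y' * k⁻¹ ∈ zpowers (y : G) := hk (smul_mem_pointwise_smul _ _ _ (mem_zpowers _))
  have h1 : orderOf (k * y' * k⁻¹) = 5 := (MulAut.conj k).orderOf_eq (y' : G) ▸ hy'
  refine cj_of k (inv_unique h1 (h.five _ h1).1 hs ((MulAut.conj k).orderOf_eq s' ▸ hs') ?_
    (cj_comm (mem_cent.1 y'.2).symm k))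
  rw [← hj]
  exact ((show Commute s y from (mem_cent.1 y.2).symm).zpow_right j).eq

theorem Loc.exists_cov (h : Loc G) : ∃ t : G, orderOf t = 2 ∧ 𝐜 t = 240 ∧
    ∃ θ : centralizer ({t} : Set G) →* El DS, Cov t θ := by
  have := Fact.mk Nat.prime_five
  have := Fact.mk Nat.prime_two
  obtain ⟨y, hy⟩ := exists_prime_orderOf_dvd_card' (G := G) 5 (by rw [h.card]; norm_num)
  obtain ⟨c10, n40⟩ := h.five y hy
  obtain ⟨⟨t, hty⟩, ht⟩ := exists_prime_orderOf_dvd_card' (G := centralizer ({y} : Set G)) 2 (by rw [c10]; norm_num)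
  rw [← orderOf_coe] at ht
  dsimp only at ht
  rw [mem_cent] at hty
  have hN := normalizer_le hy c10 ht hty
  have c240 : 𝐜 t = 240 := (h.inv t ht).resolve_left fun e => by
    have := card_dvd_of_le hN
    rw [n40, e] at this
    norm_num at this
  refine ⟨t, ht, c240, ?_⟩
  have hS := (sylow_data (m := 19008) Nat.prime_five h.card (by norm_num) hy).1
  set N := normalizer ((zpowers y : Subgroup G) : Set G) with hNd
  set C := centralizer ({t} : Set G)
  have hi : (N.subgroupOf C).index = 6 := by
    have := card_mul_relIndex hN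
    rw [n40, c240] at this
    change N.relIndex C = 6
    omega
  have yC : y ∈ C := hN (le_normalizer (mem_zpowers y))
  have tt : t * t = 1 := by rw [← sq, ← ht, pow_orderOf_eq_one]
  have hK : ∀ k : C, k ∈ (N.subgroupOf C).normalCore ↔ (k : G) = 1 ∨ (k : G) = t := fun k => by
    refine ⟨fun hk => ?_, fun hk g => ?_⟩
    · have key : ∀ x : C, x ∈ (N.subgroupOf C).normalCore → (x : G) ∈ zpowers y → (x : G) = 1 := fun x hx hxy => by
        by_contra x1
        have h1 := Block.eq_zpowers_of_card_prime Nat.prime_five (by rw [Nat.card_zpowers, hy]) hxy x1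
        obtain ⟨j, hj⟩ : y ∈ zpowers (x : G) := h1 ▸ mem_zpowers y
        have h2 : (⟨y, yC⟩ : C) ∈ (N.subgroupOf C).normalCore := by
          rw [show (⟨y, yC⟩ : C) = x ^ j from Subtype.ext hj.symm]
          exact zpow_mem hx j
        have h3 : C ≤ N := fun g hg => mem_normalizer_fintype (by
          rintro _ ⟨i, rfl⟩
          rw [← conj_zpow]
          refine zpow_mem (hS.le_of_le_normalizer' (Q := zpowers (g * y * g⁻¹)) (IsPGroup.of_card (n := 1) ?_) le_top
            (zpowers_le.2 (h2 ⟨g, hg⟩)) (mem_zpowers _)) i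
          rw [Nat.card_zpowers, pow_one, ← hy]
          exact (MulAut.conj g).orderOf_eq y)
        have := card_dvd_of_le h3
        rw [n40, c240] at this
        norm_num at this
      have kN : (k : G) ∈ N := (N.subgroupOf C).normalCore_le hk
      have hn := (normalCore_normal (N.subgroupOf C)).conj_mem k⁻¹ (inv_mem hk) ⟨y, yC⟩
      have h1 := key _ (mul_mem hk hn) (by
          have := mul_mem ((mem_normalizer_iff.1 kN y).1 (mem_zpowers y)) (inv_mem (mem_zpowers y))
          rw [coe_mul, coe_mul, coe_mul, coe_inv, coe_inv, ← mul_assoc, ← mul_assoc]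
          exact this)
      have h2 : (k : G) * y = y * k := by
        simp only [coe_mul, coe_inv] at h1
        calc _ = (k : G) * (y * (k : G)⁻¹ * y⁻¹) * (y * k) := by group
          _ = _ := by rw [h1, one_mul]
      have h3 : ((k : G) ^ 2) ^ 5 = 1 := by
        rw [← pow_mul, ← orderOf_dvd_iff_pow_eq_one, show 2 * 5 = 𝐜 y from c10.symm]
        exact Subgroup.orderOf_dvd_natCard _ (mem_cent.2 h2)
      have h4 := key (k ^ 2) (pow_mem hk 2) (hS.le_of_le_normalizer' (Q := zpowers ((k : G) ^ 2))
        (isPGroup_zpowers_of_pow (n := 1) (by rwa [pow_one])) le_top (zpowers_le.2 (pow_mem kN 2)) (mem_zpowers _))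
      by_cases k1 : (k : G) = 1
      · exact Or.inl k1
      · exact Or.inr (inv_unique hy c10 ht (two_of (by rw [← sq]; exact h4) k1) hty h2)
    · rw [mem_subgroupOf, coe_mul, coe_mul, coe_inv]
      rcases hk with e | e <;> rw [e]
      · simpa using one_mem N
      · rw [cj_fix (mem_cent.1 g.2)]
        refine centralizer_le_normalizer _ ?_
        rw [Block.centralizer_zpowers]
        exact mem_cent.2 hty
  let e6 : C ⧸ N.subgroupOf C ≃ Fin 6 := Finite.equivFinOfCardEq hi
  let f : C →* Equiv.Perm (Fin 6) := e6.permCongrHom.toMonoidHom.comp (toPermHom C (C ⧸ N.subgroupOf C))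
  have hf : f.ker = (N.subgroupOf C).normalCore := by
    rw [normalCore_eq_ker]
    ext g
    simp [f, MonoidHom.mem_ker]
  have hk2 : Nat.card f.ker = 2 := by
    rw [hf, ← ht, ← Nat.card_zpowers, ← card_subgroupOf_of_le (show zpowers t ≤ C from zpowers_le.2 (mem_cent.2 rfl))]
    congr 2
    ext k
    rw [hK, mem_subgroupOf]
    refine ⟨by rintro (e | e) <;> simp [e], fun hk => ?_⟩
    obtain ⟨j, hj⟩ := (mem_powers_iff_mem_zpowers.2 hk : ∃ k : ℕ, t ^ k = _)
    dsimp only at hj
    rw [← pow_mod_orderOf, ht] at hj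
    rcases Nat.mod_two_eq_zero_or_one j with e | e <;> rw [e] at hj <;> simp [← hj]
  have hr : f.range.index = 6 := by
    have h1 := f.ker.card_mul_index
    have h2 := f.range.card_mul_index
    rw [index_ker, hk2, c240] at h1
    rw [Nat.card_perm, Nat.card_fin, show Nat.card f.range = 120 by omega] at h2
    simp only [Nat.factorial] at h2
    omega
  obtain ⟨e1⟩ := S5945.result.2.1 _ hr
  obtain ⟨e2⟩ := exists_perm5
  refine ⟨(e1.trans e2.symm).toMonoidHom.comp f.rangeRestrict,
    (e1.trans e2.symm).surjective.comp f.rangeRestrict_surjective, fun a b => ?_⟩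
  rw [MonoidHom.comp_apply, MonoidHom.comp_apply, MulEquiv.coe_toMonoidHom, (e1.trans e2.symm).injective.eq_iff,
    eq_comm, MonoidHom.eq_iff, MonoidHom.ker_rangeRestrict, hf, hK, coe_mul, coe_inv, inv_mul_eq_one,
    inv_mul_eq_iff_eq_mul]
  refine or_congr Iff.rfl ⟨fun e => ?_, fun e => ?_⟩ <;> rw [e, mul_assoc, tt, mul_one]

end Cfsg.Agent.O12
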