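import Mathlib
import Cfsg.Agent.M12R.Main

/-!
Simple groups of order `95040`: facts in the model of the symmetric group of degree five.
-/

set_option autoImplicit false
set_option linter.unusedSectionVars false
set_option linter.style.haveILetI false
set_option maxRecDepth 100000
set_option synthInstance.maxSize 100000

namespace Cfsg.Agent.O12

open Cfsg.Agent.Core Cfsg.Agent.M12R Subgroup MulAction

noncomputable def sv : El DS := sf * sz * sf⁻¹

theorem s_rel : sf * sf * sf = 1 ∧ su * su = 1 ∧ su * sf * su⁻¹ = sf⁻¹ ∧ su * sz * su⁻¹ = sz ∧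
    sf * sz * sf⁻¹ * sz * (sf * sz * sf⁻¹ * sz) = 1 ∧ sf * sz * sf⁻¹ * sz = sf⁻¹ * sz * sf ∧ sz ≠ 1 ∧
    El.cnt (fun g : El DS => g * sz = sz * g) = 8 := by decide +kernel

theorem s_Z : ∀ g : El DS, g * sz = sz * g → g * su = su * g → g * sv = sv * g → g = 1 ∨ g = sz := by decide +kernel

theorem s_D8' : ∀ g : El DS, g * sz = sz * g → ∃ y ∈ [1, sv, su, sv * su], g = y ∨ g = sz * y := by decide +kernel

theorem s_no8' : ∀ x : El DS, x * x = 1 → ∀ y : El DS, y * y = 1 → y * x = x * y →
    ∀ w : El DS, w * w = 1 → w * x = x * w → w * y = y * w → 1 ∈ [x, y, w, x * y, x * w, y * w, x * y * w] := by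
  decide +kernel

end Cfsg.Agent.O12
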