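import Mathlib
import Cfsg.Agent.O12.D
import Cfsg.Agent.O12.DS

/-!
Simple groups of order `95040`: the subgroup of order `16` centralising `t` and `z`.
-/

set_option autoImplicit false
set_option linter.unusedSectionVars false
set_option linter.style.haveILetI false
set_option maxRecDepth 100000
set_option synthInstance.maxSize 100000

namespace Cfsg.Agent.O12

open Cfsg.Agent.Core Cfsg.Agent.Gl23 Cfsg.Agent.M12R Subgroup MulAction

variable {G : Type*} [Group G]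

local notation "𝐜" x:max => Nat.card (centralizer ({x} : Set _))

def Z4 (t z c : G) : Prop := c = 1 ∨ c = t ∨ c = z ∨ c = t * z

theorem Z4.comm {t z c g : G} (h : Z4 t z c) (h1 : g * t = t * g) (h2 : g * z = z * g) : c * g = g * c := by
  rcases h with rfl | rfl | rfl | rfl
  · simp
  · exact h1.symm
  · exact h2.symm
  · rw [mul_assoc, ← h2, ← mul_assoc, ← h1, mul_assoc]

structure L0 (t z v u f : G) : Prop where
  t2 : orderOf t = 2
  ct : 𝐜 t = 240
  zz : z * z = 1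
  z1 : z ≠ 1
  zt : z ≠ t
  tz : t * z = z * t
  tu : t * u = u * t
  tf : t * f = f * t
  f3 : f * f * f = 1
  fz : f * z * f⁻¹ = v
  fv : f * v * f⁻¹ = v * z
  zv : z * v = v * z
  uf : u * f * u⁻¹ = f⁻¹
  uz : u * z = z * u
  uu : u * u = 1 ∨ u * u = t
  cT : ∀ g, g * t = t * g → g * z = z * g → ∃ c, Z4 t z c ∧ (g = c ∨ g = c * v ∨ g = c * u ∨ g = c * (v * u))
  inv : ∀ c, c * t = t * c → c * c = 1 → ∃ k, k * t = t * k ∧ k * c * k⁻¹ ∈ [1, t, z, z * t, u, u * t]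
  card : Nat.card ↥(centralizer ({t} : Set G) ⊓ centralizer ({z} : Set G)) = 16
  no16 : ∀ x y w : G, x * t = t * x → y * t = t * y → w * t = t * w → x * x = 1 → y * y = 1 → w * w = 1 →
    y * x = x * y → w * x = x * w → w * y = y * w →
    ∃ c ∈ [x, y, w, x * y, x * w, y * w, x * y * w], c = 1 ∨ c = t

theorem card_syl [Finite G] {K S : Subgroup G} {N : ℕ} (hK : Nat.card K = N) (h1 : 2 ^ 6 ∣ N) (h2 : ¬ 2 ^ 7 ∣ N)
    (hS : IsSylowOf 2 S K) : Nat.card S = 64 := by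
  have := Fact.mk Nat.prime_two
  rw [hS.card_eq_pow, hK]
  have h0 : N ≠ 0 := by rintro rfl; simp at h2
  rw [Nat.prime_two.pow_dvd_iff_le_factorization h0] at h1 h2
  rw [show N.factorization 2 = 6 by omega]; rfl

/-- a `2`-element normalising `T` outside every overgroup of order `240` -/
theorem exists_up [Finite G] (hG : Nat.card G = 95040) {T : Subgroup G} (hT : Nat.card T = 16) :
    ∃ n ∈ normalizer (T : Set G), ∀ C : Subgroup G, T ≤ C → Nat.card C = 240 → n ∉ C := by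
  have := Fact.mk Nat.prime_two
  obtain ⟨S, hS, hTS⟩ := exists_isSylowOf_ge (p := 2) (K := ⊤) (IsPGroup.of_card (n := 4) hT) le_top
  have cS := card_syl (card_top.trans hG) (by norm_num) (by norm_num) hS
  obtain ⟨n, ⟨nS, nN⟩, nT⟩ := SetLike.exists_of_lt (lt_inf_normalizer_of_nilpotent hS.isPGroup.isNilpotent
    (lt_of_le_of_ne hTS fun e => by rw [e] at hT; omega))
  refine ⟨n, nN, fun C hC c hn => nT ?_⟩
  rw [eq_of_le_of_card_ge (le_inf hTS hC) (Nat.le_of_dvd (by omega) ?_)]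
  · exact ⟨nS, hn⟩
  · rw [hT]
    exact Nat.dvd_gcd (cS ▸ card_dvd_of_le inf_le_left) (c ▸ card_dvd_of_le inf_le_right)

theorem Loc.exists_L0 [Finite G] [IsSimpleGroup G] (h : Loc G) : ∃ t z v u f : G, L0 t z v u f := by
  obtain ⟨t, t2, ct, θ, hθ⟩ := h.exists_cov
  have tt : t * t = 1 := by rw [← sq, ← t2, pow_orderOf_eq_one]
  have t1 : t ≠ 1 := by rintro rfl; simp at t2
  obtain ⟨r1, r2, r3, r4, -, -, r7, r8⟩ := s_rel
  obtain ⟨f0, hf0⟩ := hθ.surj sf
  obtain ⟨u, hu⟩ := hθ.surj su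
  obtain ⟨v1, hv1⟩ := hθ.surj sv
  have cm : ∀ a : centralizer ({t} : Set G), (a : G) * t = t * a := fun a => mem_cent.1 a.2
  have k1 : ∀ a, θ a = 1 → (a : G) = 1 ∨ (a : G) = t := fun a ha => by
    simpa using (hθ.eqv a 1).1 (by rw [ha, map_one])
  obtain ⟨f, hf, f3⟩ : ∃ f, θ f = sf ∧ (f : G) * f * f = 1 := ⟨f0 ^ 4, by rw [map_pow, hf0]; decide +kernel, by
    have h1 : (f0 : G) * f0 * f0 = 1 ∨ (f0 : G) * f0 * f0 = t :=
      k1 (f0 * f0 * f0) (by rw [map_mul, map_mul, hf0, r1])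
    calc _ = ((f0 : G) * f0 * f0) ^ 4 := by rw [coe_pow, ← pow_three', ← pow_three', ← pow_mul, ← pow_mul]
      _ = 1 := by
        rcases h1 with e | e <;> rw [e]
        · simp
        · rw [← orderOf_dvd_iff_pow_eq_one, t2]; norm_num⟩
  let T0 := ((centralizer ({sz} : Set (El DS))).comap θ).map (centralizer ({t} : Set G)).subtype
  have mT : ∀ a, θ a * sz = sz * θ a → (a : G) ∈ T0 := fun a ha => ⟨a, mem_cent.2 ha, rfl⟩
  have cT0 : Nat.card T0 = 16 := by
    rw [card_map_of_injective (subtype_injective _)]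
    have h1 := ((centralizer ({sz} : Set (El DS))).comap θ).card_mul_index
    have h2 := (centralizer ({sz} : Set (El DS))).card_mul_index
    rw [El.card_El, show Nat.card (centralizer ({sz} : Set (El DS))) = 8 from (Nat.card_congr
      (Equiv.subtypeEquivRight fun g => mem_cent)).trans ((El.card_eq_cnt _).trans r8)] at h2
    change _ = 120 at h2
    rw [index_comap_of_surjective _ hθ.surj, ct, show (centralizer ({sz} : Set (El DS))).index = 15 by omega] at h1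
    omega
  obtain ⟨n, nN, hn⟩ := exists_up h.card cT0
  have nC := hn _ (map_subtype_le _) ct
  have tC : t ∈ centralizer ({t} : Set G) := mem_cent.2 rfl
  have θt : θ ⟨t, tC⟩ = 1 := ((hθ.eqv _ 1).2 (Or.inr (by simp))).trans (map_one θ)
  have c0 : ∀ g ∈ T0, g * (n * t * n⁻¹) = n * t * n⁻¹ * g := fun g hg => by
    have := cj_comm (mem_cent.1 (map_subtype_le _ ((mem_normalizer_iff''.1 nN g).1 hg))) n
    simpa only [mul_assoc, mul_inv_cancel_left, mul_inv_cancel, mul_one] using this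
  let z0 : centralizer ({t} : Set G) := ⟨n * t * n⁻¹, mem_cent.2 (c0 t (mT ⟨t, tC⟩ (by rw [θt]; simp))).symm⟩
  have c1 : ∀ a, θ a * sz = sz * θ a → a * z0 = z0 * a := fun a ha => Subtype.ext (c0 _ (mT a ha))
  have θz : θ z0 = sz := by
    have h1 : (n * t * n⁻¹) ∈ T0 := (mem_normalizer_iff.1 nN t).1 (mT ⟨t, tC⟩ (by rw [θt]; simp))
    obtain ⟨a, ha, e⟩ := h1
    rw [show z0 = a from Subtype.ext e.symm] at c1 ⊢
    refine (s_Z _ (mem_cent.1 ha) ?_ ?_).resolve_left fun e1 => ?_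
    · rw [← hu, ← map_mul, ← map_mul, c1 u (by rw [hu]; decide +kernel)]
    · rw [← hv1, ← map_mul, ← map_mul, c1 v1 (by rw [hv1]; decide +kernel)]
    · change (a : G) = _ at e
      rcases k1 a e1 with e2 | e2 <;> rw [e] at e2
      · exact t1 (by simpa using e2)
      · exact nC (mem_cent.2 (comm_of_cj e2))
  have zz0 : z0 * z0 = 1 := Subtype.ext (show n * t * n⁻¹ * (n * t * n⁻¹) = 1 by
    rw [show n * t * n⁻¹ * (n * t * n⁻¹) = n * (t * t) * n⁻¹ by group, tt]; group)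
  have f3' : f * f * f = 1 := Subtype.ext f3
  have ff : f * f = f⁻¹ := eq_inv_of_mul_eq_one_left f3'
  clear_value z0
  obtain ⟨v0, hv0⟩ : ∃ v0, v0 = f * z0 * f⁻¹ := ⟨_, rfl⟩
  obtain ⟨w0, hw0⟩ : ∃ w0, w0 = f⁻¹ * z0 * f := ⟨_, rfl⟩
  have fv0 : f * v0 * f⁻¹ = w0 := by
    rw [hv0, hw0, show f * (f * z0 * f⁻¹) * f⁻¹ = f * f * z0 * (f * f)⁻¹ by group, ff, inv_inv]
  have fw0 : f * w0 * f⁻¹ = z0 := by rw [hw0]; group
  have θv : θ v0 = sv := by rw [hv0, map_mul, map_mul, map_inv, hf, θz]; rfl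
  have θw : θ w0 = sv * sz := by rw [hw0, map_mul, map_mul, map_inv, hf, θz]; decide +kernel
  have a1 : v0 * z0 = z0 * v0 := c1 _ (by rw [θv]; decide +kernel)
  have a2 : w0 * z0 = z0 * w0 := c1 _ (by rw [θw]; decide +kernel)
  have a3 : w0 * v0 = v0 * w0 := by have := cj_comm a1 f; rwa [fv0, ← hv0] at this
  have vv0 : v0 * v0 = 1 := by rw [hv0, show f * z0 * f⁻¹ * (f * z0 * f⁻¹) = f * (z0 * z0) * f⁻¹ by group, zz0]; group
  have ww0 : w0 * w0 = 1 := by rw [hw0, show f⁻¹ * z0 * f * (f⁻¹ * z0 * f) = f⁻¹ * (z0 * z0) * f by group, zz0]; group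
  obtain ⟨z, hz⟩ : ∃ z, z = v0 * w0 := ⟨_, rfl⟩
  obtain ⟨v, hv⟩ : ∃ v, v = w0 * z0 := ⟨_, rfl⟩
  have θz' : θ z = sz := by rw [hz, map_mul, θv, θw]; decide +kernel
  have θv' : θ v = sv := by rw [hv, map_mul, θz, θw]; decide +kernel
  have c2 : ∀ a, θ a * sz = sz * θ a → (a : G) * z = z * a := fun a ha => by
    have h1 : (a : G) * z0 = z0 * a := congrArg Subtype.val (c1 a ha)
    rcases (hθ.eqv z z0).1 (θz'.trans θz.symm) with e | e <;> rw [e]
    · exact h1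
    · rw [← mul_assoc, h1, mul_assoc, cm, mul_assoc]
  have b1 : z * z = 1 := by
    rw [hz, show v0 * w0 * (v0 * w0) = v0 * (w0 * v0) * w0 by group, a3, ← mul_assoc, vv0, one_mul, ww0]
  have b2 : f * z * f⁻¹ = v := by
    rw [hz, hv, show f * (v0 * w0) * f⁻¹ = f * v0 * f⁻¹ * (f * w0 * f⁻¹) by group, fv0, fw0]
  have b3 : f * v * f⁻¹ = v * z := by
    calc _ = (f * w0 * f⁻¹) * (f * z0 * f⁻¹) := by rw [hv]; group
      _ = z0 * v0 * (w0 * w0) := by rw [fw0, ← hv0, ww0, mul_one]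
      _ = _ := by rw [hv, hz, a2, mul_assoc z0 w0, ← mul_assoc w0, a3]; group
  have key : ∀ g y, θ g = θ y ∨ θ g = sz * θ y → ∃ c, Z4 t z c ∧ (g : G) = c * y := fun g y hy => by
    rcases hy with e | e
    · rcases (hθ.eqv _ _).1 e with e | e
      · exact ⟨1, Or.inl rfl, by rw [e, one_mul]⟩
      · exact ⟨t, Or.inr (Or.inl rfl), by rw [e, cm]⟩
    · rcases (hθ.eqv g (z * y)).1 (by rw [e, map_mul, θz']) with e | e
      · exact ⟨z, Or.inr (Or.inr (Or.inl rfl)), e⟩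
      · exact ⟨t * z, Or.inr (Or.inr (Or.inr rfl)), by rw [e, cm, coe_mul, mul_assoc]⟩
  refine ⟨t, z, v, u, f, t2, ct, congrArg Subtype.val b1, fun e => r7 ?_, fun e => r7 ?_, (cm z).symm, (cm u).symm,
    (cm f).symm, f3, congrArg Subtype.val b2, congrArg Subtype.val b3, (c2 v (by rw [θv']; decide +kernel)).symm, ?_,
    c2 u (by rw [hu]; decide +kernel), k1 (u * u) (by rw [map_mul, hu, r2]), fun g g1 g2 => ?_, fun c h1 h2 => ?_, ?_,
    fun x y w x1 y1 w1 x2 y2 w2 e1 e2 e3 => ?_⟩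
  · rw [← θz', show z = 1 from Subtype.ext e, map_one]
  · rw [← θz', show z = ⟨t, tC⟩ from Subtype.ext e, θt]
  · rcases (hθ.eqv (u * f * u⁻¹) f⁻¹).1 (by rw [map_mul, map_mul, map_inv, map_inv, hu, hf, r3]) with e | e
    · exact e
    · exfalso
      change (u : G) * f * (u : G)⁻¹ = (f : G)⁻¹ * t at e
      have h1 : ((f : G)⁻¹ * t) ^ 3 = 1 := by
        rw [← e, conj_pow, pow_three', f3]; group
      rw [(show Commute (f : G)⁻¹ t from cm f⁻¹).mul_pow, inv_pow, pow_three', f3, pow_three', tt] at h1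
      exact t1 (by simpa using h1)
  · obtain ⟨y, hy, e⟩ := s_D8' (θ ⟨g, mem_cent.2 g1⟩) (by
      rw [← θz', ← map_mul, ← map_mul]; exact congrArg θ (Subtype.ext g2))
    simp only [List.mem_cons, List.not_mem_nil, or_false] at hy
    rcases hy with rfl | rfl | rfl | rfl
    · obtain ⟨c, hc, e⟩ := key ⟨g, mem_cent.2 g1⟩ 1 (by rwa [map_one])
      exact ⟨c, hc, Or.inl (by simpa using e)⟩
    · obtain ⟨c, hc, e⟩ := key ⟨g, mem_cent.2 g1⟩ v (by rwa [θv'])
      exact ⟨c, hc, Or.inr (Or.inl e)⟩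
    · obtain ⟨c, hc, e⟩ := key ⟨g, mem_cent.2 g1⟩ u (by rwa [hu])
      exact ⟨c, hc, Or.inr (Or.inr (Or.inl e))⟩
    · obtain ⟨c, hc, e⟩ := key ⟨g, mem_cent.2 g1⟩ (v * u) (by rwa [map_mul, θv', hu])
      exact ⟨c, hc, Or.inr (Or.inr (Or.inr e))⟩
  · rcases s_inv (θ ⟨c, mem_cent.2 h1⟩) (by rw [← map_mul, ← map_one θ]; exact congrArg θ (Subtype.ext h2)) with
      e | ⟨g, e⟩
    · refine ⟨1, by simp, ?_⟩
      rcases k1 _ e with e | e <;> simp [show c = _ from e]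
    · obtain ⟨k, rfl⟩ := hθ.surj g
      refine ⟨k, cm k, ?_⟩
      rw [← map_inv, ← map_mul, ← map_mul, ← θz', ← hu, hθ.eqv, hθ.eqv] at e
      rcases e with (e | e) | e | e <;> simp [show (k : G) * c * (k : G)⁻¹ = _ from e]
  · rw [← cT0]
    congr 2
    ext g
    refine ⟨fun ⟨g1, g2⟩ => mT ⟨g, g1⟩ ?_, fun ⟨a, ha, e⟩ => e ▸ ⟨a.2, mem_cent.2 (c2 a (mem_cent.1 ha))⟩⟩
    rw [← θz', ← map_mul, ← map_mul]; exact congrArg θ (Subtype.ext (mem_cent.1 g2))
  · have q : ∀ a b c d : centralizer ({t} : Set G), (a : G) * b = c * d → θ a * θ b = θ c * θ d := fun a b c d e => by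
      rw [← map_mul, ← map_mul]; exact congrArg θ (Subtype.ext e)
    have q1 : ∀ a : centralizer ({t} : Set G), (a : G) * a = 1 → θ a * θ a = 1 := fun a e => by
      rw [← map_mul, ← map_one θ]; exact congrArg θ (Subtype.ext e)
    have := s_no8' _ (q1 ⟨x, mem_cent.2 x1⟩ x2) _ (q1 ⟨y, mem_cent.2 y1⟩ y2) (q _ _ _ _ e1) _ (q1 ⟨w, mem_cent.2 w1⟩ w2)
      (q _ _ _ _ e2) (q _ _ _ _ e3)
    simp only [← map_mul, List.mem_cons, List.not_mem_nil, or_false] at this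
    rcases this with e | e | e | e | e | e | e <;> exact ⟨_, by simp, k1 _ e.symm⟩

end Cfsg.Agent.O12
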