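import Mathlib
import Cfsg.Agent.O12.E

/-!
Simple groups of order `95040`: an element moving `t` to `t z` and centralising the four-group `⟨z, v⟩`.
-/

set_option autoImplicit false
set_option linter.unusedSectionVars false
set_option linter.style.haveILetI false

namespace Cfsg.Agent.O12

open Cfsg.Agent.Core Cfsg.Agent.Gl23 Cfsg.Agent.M12R Subgroup MulAction

variable {G : Type*} [Group G]

local notation "𝐜" x:max => Nat.card (centralizer ({x} : Set _))

theorem cent_cj {a b : G} (h : IsConj a b) : 𝐜 a = 𝐜 b := by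
  obtain ⟨k, e⟩ := isConj_iff.1 h
  exact card_cj k fun g => by rw [mem_cent, mem_cent]; exact comm_cj_iff e g

theorem cj_inj {k a b : G} (h : k * a * k⁻¹ = k * b * k⁻¹) : a = b := by simpa using h

theorem cj_mul (k a b : G) : k * (a * b) * k⁻¹ = k * a * k⁻¹ * (k * b * k⁻¹) := by group

theorem cj_sq' {a : G} (h : a * a = 1) (k : G) : k * a * k⁻¹ * (k * a * k⁻¹) = 1 := by
  rw [← cj_mul, h]; group

namespace L0

variable {t z v u f : G}

theorem tt (h : L0 t z v u f) : t * t = 1 := by rw [← sq, ← h.t2, pow_orderOf_eq_one]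
theorem t1 (h : L0 t z v u f) : t ≠ 1 := fun e => by simpa [e] using h.t2
theorem ff (h : L0 t z v u f) : f * f = f⁻¹ := eq_inv_of_mul_eq_one_left h.f3
theorem vv (h : L0 t z v u f) : v * v = 1 := h.fz ▸ cj_sq' h.zz f
theorem ft (h : L0 t z v u f) : f * t * f⁻¹ = t := cj_fix h.tf.symm
theorem tv (h : L0 t z v u f) : t * v = v * t := by have := cj_comm h.tz f; rwa [h.ft, h.fz] at this
theorem cj2 (h : L0 t z v u f) (a : G) : f * (f * a * f⁻¹) * f⁻¹ = f⁻¹ * a * f := by
  rw [show f * (f * a * f⁻¹) * f⁻¹ = f * f * a * (f * f)⁻¹ by group, h.ff, inv_inv]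
theorem fz' (h : L0 t z v u f) : f⁻¹ * z * f = v * z := by rw [← h.cj2, h.fz, h.fv]
theorem fv' (h : L0 t z v u f) : f⁻¹ * v * f = z := by rw [← h.fz]; group
theorem uv (h : L0 t z v u f) : u * v * u⁻¹ = v * z := by
  rw [← h.fz', ← h.fz, cj_mul, cj_mul, h.uf, cj_fix h.uz, ← conj_inv, h.uf, inv_inv]
theorem nuv (h : L0 t z v u f) : u * v ≠ v * u := fun e => h.z1 (by have := h.uv; rw [cj_fix e] at this; simpa using this)
theorem nZ (h : L0 t z v u f) : ¬ Z4 t z v := fun e => h.nuv (e.comm h.tu.symm h.uz).symm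
theorem vu (h : L0 t z v u f) : v * u * (v * u) = z * (u * u) := by
  rw [show v * u * (v * u) = v * (u * v * u⁻¹) * (u * u) by group, h.uv, ← mul_assoc v, h.vv, one_mul]

theorem sqc (h : L0 t z v u f) {c y : G} (hc : Z4 t z c) (h1 : y * t = t * y) (h2 : y * z = z * y) :
    c * y * (c * y) = y * y := by
  have : c * c = 1 := by
    rcases hc with e | e | e | e <;> rw [e]
    exacts [one_mul 1, h.tt, h.zz, by rw [mul_assoc, ← mul_assoc z, ← h.tz, mul_assoc, h.zz, mul_one, h.tt]]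
  rw [show c * y * (c * y) = c * (y * c) * y by group, ← hc.comm h1 h2, ← mul_assoc, this, one_mul]

theorem vut (h : L0 t z v u f) : v * u * t = t * (v * u) := by rw [mul_assoc, ← h.tu, ← mul_assoc, ← h.tv, mul_assoc]
theorem vuz (h : L0 t z v u f) : v * u * z = z * (v * u) := by rw [mul_assoc, h.uz, ← mul_assoc, ← h.zv, mul_assoc]

theorem nvu (h : L0 t z v u f) {c : G} (hc : Z4 t z c) : c * (v * u) * (c * (v * u)) ≠ 1 := fun e => by
  rw [h.sqc hc h.vut h.vuz, h.vu] at e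
  rcases h.uu with e1 | e1 <;> rw [e1] at e
  · exact h.z1 (by simpa using e)
  · exact h.zt (mul_right_cancel (e.trans h.tt.symm))

theorem cen (h : L0 t z v u f) {g : G} (h1 : g * t = t * g) (h2 : g * z = z * g) (h3 : g * u = u * g)
    (h4 : g * v = v * g) : Z4 t z g := by
  obtain ⟨c, hc, e⟩ := h.cT g h1 h2
  have cu := hc.comm h.tu.symm h.uz
  have cv := hc.comm h.tv.symm h.zv.symm
  rcases e with rfl | rfl | rfl | rfl
  · exact hc
  · rw [← mul_assoc, ← cu, mul_assoc, mul_assoc] at h3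
    exact absurd (mul_left_cancel h3).symm h.nuv
  · rw [← mul_assoc, ← cv, mul_assoc, mul_assoc] at h4
    exact absurd (mul_left_cancel h4) h.nuv
  · rw [← mul_assoc v, ← cv, mul_assoc, mul_assoc, mul_assoc] at h4
    exact absurd (mul_left_cancel (mul_left_cancel h4)) h.nuv

theorem sqT (h : L0 t z v u f) {g : G} (h1 : g * t = t * g) (h2 : g * z = z * g) :
    g * g = 1 ∨ g * g = u * u ∨ g * g = z * (u * u) := by
  obtain ⟨c, hc, e | rfl | rfl | rfl⟩ := h.cT g h1 h2
  · left; simpa [e] using h.sqc hc (y := 1) (by simp) (by simp)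
  · left; rw [h.sqc hc h.tv.symm h.zv.symm, h.vv]
  · right; left; rw [h.sqc hc h.tu.symm h.uz]
  · right; right; rw [h.sqc hc h.vut h.vuz, h.vu]

theorem invT (h : L0 t z v u f) {g : G} (h1 : g * t = t * g) (h2 : g * z = z * g) (gg : g * g = 1) :
    g * v = v * g ∨ g * u = u * g := by
  obtain ⟨c, hc, e⟩ := h.cT g h1 h2
  have cu := hc.comm h.tu.symm h.uz
  have cv := hc.comm h.tv.symm h.zv.symm
  rcases e with rfl | rfl | rfl | rfl
  · exact Or.inl cv
  · left; rw [← mul_assoc, ← cv]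
  · right; rw [← mul_assoc, ← cu]
  · exact absurd gg (h.nvu hc)

theorem nrm (h : L0 t z v u f) {m : G}
    (hm : m ∈ normalizer ((centralizer ({t} : Set G) ⊓ centralizer ({z} : Set G) : Subgroup G) : Set G)) :
    m * t * m⁻¹ = t ∨ m * t * m⁻¹ = t * z := by
  have p1 : ∀ g, g * t = t * g → g * z = z * g → m * g * m⁻¹ * t = t * (m * g * m⁻¹) ∧
      m * g * m⁻¹ * z = z * (m * g * m⁻¹) := fun g a b =>
    have := (mem_normalizer_iff.1 hm g).1 ⟨mem_cent.2 a, mem_cent.2 b⟩
    ⟨mem_cent.1 this.1, mem_cent.1 this.2⟩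
  have p2 : ∀ g, g * t = t * g → g * z = z * g → m⁻¹ * g * m * t = t * (m⁻¹ * g * m) ∧
      m⁻¹ * g * m * z = z * (m⁻¹ * g * m) := fun g a b =>
    have := (mem_normalizer_iff''.1 hm g).1 ⟨mem_cent.2 a, mem_cent.2 b⟩
    ⟨mem_cent.1 this.1, mem_cent.1 this.2⟩
  have p3 : ∀ g, g * t = t * g → g * z = z * g → m * t * m⁻¹ * g = g * (m * t * m⁻¹) := fun g a b => by
    simpa only [mul_assoc, mul_inv_cancel_left, mul_inv_cancel, mul_one] using (cj_comm (p2 g a b).1 m).symm
  rcases h.cen (p3 t rfl h.tz) (p3 z h.tz.symm rfl) (p3 u h.tu.symm h.uz) (p3 v h.tv.symm h.zv.symm) with e | e | e | e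
  · exact absurd (by simpa using e) h.t1
  · exact Or.inl e
  · exfalso
    rcases h.uu with e1 | e1
    · have h1 := h.sqT (p2 _ h.vut h.vuz).1 (p2 _ h.vut h.vuz).2
      rw [show m⁻¹ * (v * u) * m * (m⁻¹ * (v * u) * m) = m⁻¹ * (v * u * (v * u)) * m by group, h.vu, e1, mul_one,
        show m⁻¹ * z * m = t by rw [← e]; group] at h1
      rcases h1 with e2 | e2 | e2
      exacts [h.t1 e2, h.t1 e2, h.zt e2.symm]
    · have h1 := h.sqT (p1 _ h.tu.symm h.uz).1 (p1 _ h.tu.symm h.uz).2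
      rw [← cj_mul, e1, e] at h1
      rcases h1 with e2 | e2 | e2
      exacts [h.z1 e2, h.zt e2, h.t1 (by simpa using e2)]
  · exact Or.inr e

theorem exists_n [Finite G] (h : L0 t z v u f) (hG : Loc G) :
    𝐜 z = 192 ∧ ∃ n, n * z = z * n ∧ n * t * n⁻¹ = t * z := by
  obtain ⟨n, nN, hn⟩ := exists_up hG.card h.card
  have nt := (h.nrm nN).resolve_left fun e => hn _ inf_le_left h.ct (mem_cent.2 (comm_of_cj e))
  have nz : n * z = z * n := by
    have h1 := h.nrm (mul_mem nN nN)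
    rw [show n * n * t * (n * n)⁻¹ = n * (n * t * n⁻¹) * n⁻¹ by group, nt, cj_mul, nt] at h1
    rcases h1 with e | e
    · rw [mul_assoc t, mul_eq_left] at e
      exact comm_of_cj (mul_left_cancel (e.trans h.zz.symm))
    · exact absurd (by simpa using e) h.z1
  exact ⟨(hG.inv z (two_of h.zz h.z1)).resolve_right fun e => hn _ inf_le_right e (mem_cent.2 nz), n, nz, nt⟩

theorem swap (h : L0 t z v u f) (cz : 𝐜 z = 192)
    (H : ∀ r, r * z = z * r → r * v = v * r → r * t * r⁻¹ ≠ t * z) {n y : G} (nz : n * z = z * n)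
    (nt : n * t * n⁻¹ = t * z) (h1 : y * t = t * y) (h2 : y * z = z * y) (yy : y * y = 1)
    (hy : n * y * n⁻¹ = y ∨ n * y * n⁻¹ = y * z) : Z4 t z y := by
  have p1 : ∀ g, g * t = t * g → g * z = z * g → n * g * n⁻¹ * t = t * (n * g * n⁻¹) ∧
      n * g * n⁻¹ * z = z * (n * g * n⁻¹) := fun g a b => by
    have b' := cj_comm b n
    have a' := cj_comm a n
    rw [cj_fix nz] at b'
    rw [nt, ← mul_assoc, mul_assoc t, ← b', ← mul_assoc] at a'
    exact ⟨mul_right_cancel a', b'⟩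
  obtain ⟨a, b⟩ := p1 v h.tv.symm h.zv.symm
  have c1 : IsConj t (t * v) := (cj_of n nt).trans (cj_of f (by rw [cj_mul, h.ft, h.fz]))
  have c2 : IsConj z (n * v * n⁻¹) := (cj_of f h.fz).trans (cj_of n rfl)
  obtain ⟨c, hc, e | e | e | e⟩ := h.cT _ a b
  · have := hc.comm (p1 u h.tu.symm h.uz).1 (p1 u h.tu.symm h.uz).2
    rw [← e, ← cj_mul, ← cj_mul] at this
    exact absurd (cj_inj this).symm h.nuv
  · exfalso
    rcases hc with rfl | rfl | rfl | rfl
    · exact H n nz (comm_of_cj (e.trans (one_mul v))) nt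
    · have := (cent_cj c2).trans (e ▸ (cent_cj c1).symm)
      rw [h.ct] at this; omega
    · refine H (u * n) (by rw [mul_assoc, nz, ← mul_assoc, h.uz, mul_assoc]) (comm_of_cj ?_) ?_
      · rw [show u * n * v * (u * n)⁻¹ = u * (n * v * n⁻¹) * u⁻¹ by group, e, cj_mul, cj_fix h.uz, h.uv,
          ← mul_assoc, h.zv, mul_assoc, h.zz, mul_one]
      · rw [show u * n * t * (u * n)⁻¹ = u * (n * t * n⁻¹) * u⁻¹ by group, nt, cj_mul, cj_fix h.uz, cj_fix h.tu.symm]
    · have c3 : IsConj t (t * z * v) := c1.trans (cj_of f (by rw [cj_mul, h.ft, h.fv, mul_assoc, h.zv]))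
      have := (cent_cj c2).trans (e ▸ (cent_cj c3).symm)
      rw [h.ct] at this; omega
  · have k : y * v = v * y ↔ y * u = u * y := by
      have k1 : y * (c * u) = c * u * y ↔ y * u = u * y := by
        rw [← mul_assoc, ← hc.comm h1 h2, mul_assoc, mul_assoc, mul_right_inj]
      rw [comm_cj_iff (k := n) rfl, ← k1, ← e]
      rcases hy with e1 | e1 <;> rw [e1]
      rw [mul_assoc y, ← b, ← mul_assoc y, ← mul_assoc _ y, mul_left_inj]
    rcases h.invT h1 h2 yy with e1 | e1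
    exacts [h.cen h1 h2 (k.1 e1) e1, h.cen h1 h2 e1 (k.2 e1)]
  · exact absurd (e ▸ cj_sq' h.vv n) (h.nvu hc)

theorem exists_r [Finite G] (h : L0 t z v u f) (cz : 𝐜 z = 192) :
    ∃ r, r * z = z * r ∧ r * v = v * r ∧ r * t * r⁻¹ = t * z := by
  by_contra! H
  have := Fact.mk Nat.prime_two
  have cT := h.card
  have nrm := @h.nrm
  set T := centralizer ({t} : Set G) ⊓ centralizer ({z} : Set G) with hT
  obtain ⟨S, hS, hTS⟩ := exists_isSylowOf_ge (p := 2) (K := centralizer ({z} : Set G))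
    (IsPGroup.of_card (n := 4) cT) inf_le_right
  have cS := card_syl cz (by norm_num) (by norm_num) hS
  have l1 := lt_inf_normalizer_of_nilpotent hS.isPGroup.isNilpotent (lt_of_le_of_ne hTS fun e => by rw [e] at cT; omega)
  set N := S ⊓ normalizer (T : Set G) with hN
  have Sz : ∀ g ∈ S, g * z = z * g := fun g hg => mem_cent.1 (hS.le hg)
  have out : ∀ g ∈ N, g ∉ T → g * t * g⁻¹ = t * z := fun g hg g1 =>
    (nrm hg.2).resolve_left fun e => g1 ⟨mem_cent.2 (comm_of_cj e), hS.le hg.1⟩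
  have two : ∀ g ∈ N, ∀ a ∈ N, a ∉ T → g * a ∈ T ∨ g ∈ T := fun g hg a ha a1 => by
    refine (em (g ∈ T)).symm.imp_left fun g1 => ⟨mem_cent.2 (comm_of_cj ?_), hS.le (mul_mem hg.1 ha.1)⟩
    rw [show g * a * t * (g * a)⁻¹ = g * (a * t * a⁻¹) * g⁻¹ by group, out a ha a1, cj_mul, out g hg g1,
      cj_fix (Sz g hg.1), mul_assoc, h.zz, mul_one]
  obtain ⟨n, nN, nT⟩ := SetLike.exists_of_lt l1
  have cN := card_mul_relIndex l1.le
  rw [relIndex_eq_two_iff_exists_notMem_and.2 ⟨n, nN, nT, fun g hg => two g hg n nN nT⟩, cT] at cN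
  obtain ⟨m, ⟨mS, mN⟩, m1⟩ := SetLike.exists_of_lt (lt_inf_normalizer_of_nilpotent hS.isPGroup.isNilpotent
    (lt_of_le_of_ne (inf_le_left : N ≤ S) fun (e : N = S) => by rw [e] at cN; omega))
  have mz := cj_fix (Sz m mS)
  have up : ∀ g, g * t = t * g → g * z = z * g → m * g * m⁻¹ ∈ N := fun g a b =>
    (mem_normalizer_iff.1 mN g).1 (l1.le ⟨mem_cent.2 a, mem_cent.2 b⟩)
  have sN := up t rfl h.tz
  have nZ : ¬ Z4 t z (m * t * m⁻¹) := fun e => by
    have k : (m * t * m⁻¹ = t ∨ m * t * m⁻¹ = t * z) → False := fun e => m1 ⟨mS, mem_normalizer_fintype fun g hg => by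
      have a := cj_comm (mem_cent.1 hg.1) m
      have b := cj_comm (mem_cent.1 hg.2) m
      rw [mz] at b
      refine ⟨mem_cent.2 ?_, mem_cent.2 b⟩
      rcases e with e | e <;> rw [e] at a
      · exact a
      · rw [← mul_assoc, mul_assoc t, ← b, ← mul_assoc] at a
        exact mul_right_cancel a⟩
    rcases e with e | e | e | e
    exacts [h.t1 (by simpa using e), k (Or.inl e), h.zt (cj_inj (mz.trans e.symm)), k (Or.inr e)]
  by_cases sT : m * t * m⁻¹ ∈ T
  · refine nZ (h.swap cz H (Sz n nN.1) (out n nN nT) (mem_cent.1 sT.1) (mem_cent.1 sT.2) (cj_sq' h.tt m) ?_)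
    rw [show n * (m * t * m⁻¹) * n⁻¹ = m * (m⁻¹ * n * m * t * (m⁻¹ * n * m)⁻¹) * m⁻¹ by group]
    rcases nrm ((mem_normalizer_iff''.1 mN n).1 nN).2 with e | e <;> rw [e]
    · exact Or.inl rfl
    · exact Or.inr (by rw [cj_mul, mz])
  · have k : ∀ y, y * t = t * y → y * y = 1 → m * y * m⁻¹ ∈ T → y = 1 ∨ y = z := fun y a b c => by
      have d := cj_fix (cj_comm a m).symm
      have st := out _ sN sT
      rcases h.swap cz H (Sz _ sN.1) st (mem_cent.1 c.1) (mem_cent.1 c.2) (cj_sq' b m) (Or.inl d)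
        with e | e | e | e
      · exact Or.inl (by simpa using e)
      · rw [e, st] at d; exact absurd (by simpa using d) h.z1
      · exact Or.inr (cj_inj (e.trans mz.symm))
      · rw [e, cj_mul, st, cj_fix (Sz _ sN.1)] at d; exact absurd (by simpa using d) h.z1
    rcases two _ (up v h.tv.symm h.zv.symm) _ sN sT with e | e
    · rw [← cj_mul] at e
      rcases k _ (by rw [← mul_assoc, h.tv]) (by rw [mul_assoc, ← mul_assoc t, h.tv, mul_assoc, h.tt, mul_one, h.vv]) e
        with e | e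
      · exact h.nZ (Or.inr (Or.inl (mul_right_cancel (e.trans h.tt.symm))))
      · exact h.nZ (Or.inr (Or.inr (Or.inr (by rw [h.tz, ← e, mul_assoc, h.tt, mul_one]))))
    · rcases k _ h.tv.symm h.vv e with e | e
      exacts [h.nZ (Or.inl e), h.nZ (Or.inr (Or.inr (Or.inl e)))]

end L0

end Cfsg.Agent.O12
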