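import Mathlib
import Cfsg.Agent.O12.F

/-!
Simple groups of order `95040`: the centraliser of the four-group `⟨z, v⟩`.
-/

set_option autoImplicit false
set_option linter.unusedSectionVars false
set_option linter.style.haveILetI false

namespace Cfsg.Agent.O12

open Cfsg.Agent.Core Cfsg.Agent.Gl23 Cfsg.Agent.M12R Subgroup MulAction

variable {G : Type*} [Group G]

def V4 (z v s : G) : Prop := s = 1 ∨ s = z ∨ s = v ∨ s = v * z

theorem V4.comm {z v s g : G} (h : V4 z v s) (h1 : g * z = z * g) (h2 : g * v = v * g) : s * g = g * s := by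
  rcases h with rfl | rfl | rfl | rfl
  · simp
  · exact h1.symm
  · exact h2.symm
  · rw [mul_assoc, ← h1, ← mul_assoc, ← h2, mul_assoc]

structure Rr (t z v g d : G) : Prop where
  cz : g * z = z * g
  cv : g * v = v * g
  ct : g * t * g⁻¹ = t * d

theorem Rr.mul {t z v g g' d d' : G} (h : Rr t z v g d) (h' : Rr t z v g' d') (hd : V4 z v d') :
    Rr t z v (g * g') (d * d') where
  cz := by rw [mul_assoc, h'.cz, ← mul_assoc, h.cz, mul_assoc]
  cv := by rw [mul_assoc, h'.cv, ← mul_assoc, h.cv, mul_assoc]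
  ct := by
    rw [show g * g' * t * (g * g')⁻¹ = g * (g' * t * g'⁻¹) * g⁻¹ by group, h'.ct, cj_mul, h.ct,
      cj_fix (hd.comm h.cz h.cv).symm, mul_assoc]

namespace L0

variable {t z v u f : G}

theorem flip (h : L0 t z v u f) : L0 t z v (t * u) f := by
  have e : t * u * (t * u) = u * u := by rw [mul_assoc, ← mul_assoc u, ← h.tu, ← mul_assoc, ← mul_assoc, h.tt, one_mul]
  have zt : ∀ c, Z4 t z c → Z4 t z (c * t) := fun c hc => by
    rcases hc with e | e | e | e <;> rw [e]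
    · exact Or.inr (Or.inl (one_mul t))
    · exact Or.inl h.tt
    · exact Or.inr (Or.inr (Or.inr h.tz.symm))
    · exact Or.inr (Or.inr (Or.inl (by rw [h.tz, mul_assoc, h.tt, mul_one])))
  refine ⟨h.t2, h.ct, h.zz, h.z1, h.zt, h.tz, by rw [mul_assoc, h.tu], h.tf, h.f3, h.fz, h.fv, h.zv, ?_, ?_, e ▸ h.uu,
    fun g a b => ?_, fun c a b => ?_, h.card, h.no16⟩
  · rw [show t * u * f * (t * u)⁻¹ = t * (u * f * u⁻¹) * t⁻¹ by group, h.uf, ← conj_inv, cj_fix h.tf]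
  · rw [mul_assoc, h.uz, ← mul_assoc, h.tz, mul_assoc]
  · obtain ⟨c, hc, e | e | e | e⟩ := h.cT g a b
    · exact ⟨c, hc, Or.inl e⟩
    · exact ⟨c, hc, Or.inr (Or.inl e)⟩
    · exact ⟨_, zt c hc, Or.inr (Or.inr (Or.inl (by rw [e, mul_assoc, ← mul_assoc t, h.tt, one_mul])))⟩
    · exact ⟨_, zt c hc, Or.inr (Or.inr (Or.inr (by
        rw [e, mul_assoc, ← mul_assoc t, h.tv, mul_assoc v, ← mul_assoc t, h.tt, one_mul])))⟩
  · obtain ⟨k, hk, e⟩ := h.inv c a b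
    refine ⟨k, hk, ?_⟩
    rw [h.tu, mul_assoc u, h.tt, mul_one]
    simp only [List.mem_cons, List.not_mem_nil, or_false] at e ⊢
    tauto

theorem vsq (h : L0 t z v u f) {s : G} (hs : V4 z v s) : s * s = 1 := by
  rcases hs with e | e | e | e <;> rw [e]
  exacts [one_mul 1, h.zz, h.vv, by rw [mul_assoc, ← mul_assoc z, h.zv, mul_assoc, h.zz, mul_one, h.vv]]

theorem vf (h : L0 t z v u f) {s : G} (hs : V4 z v s) : V4 z v (f⁻¹ * s * f) := by
  rcases hs with e | e | e | e <;> rw [e]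
  · left; group
  · exact Or.inr (Or.inr (Or.inr h.fz'))
  · exact Or.inr (Or.inl h.fv')
  · exact Or.inr (Or.inr (Or.inl (by rw [← h.fv]; group)))

theorem orbit (h : L0 t z v u f) {s : G} (hs : V4 z v s) : f⁻¹ * s * f * (s * (f * s * f⁻¹)) = 1 := by
  rcases hs with e | e | e | e <;> rw [e]
  · group
  · rw [h.fz', h.fz, mul_assoc, ← mul_assoc z, h.zz, one_mul, h.vv]
  · rw [h.fv', h.fv, ← mul_assoc v, h.vv, one_mul, h.zz]
  · rw [show f⁻¹ * (v * z) * f = v by rw [← h.fv]; group, cj_mul, h.fv, h.fz, ← mul_assoc, ← mul_assoc v, h.vv, one_mul,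
      ← h.zv, mul_assoc z, h.vv, mul_one, h.zz]

theorem rf (h : L0 t z v u f) {g d : G} (hg : Rr t z v g d) : Rr t z v (f * g * f⁻¹) (f * d * f⁻¹) := by
  have a := cj_comm hg.cz f
  have b := cj_comm hg.cv f
  rw [h.fz] at a
  rw [h.fv, ← mul_assoc, a, mul_assoc, mul_assoc v] at b
  refine ⟨mul_left_cancel b, a, ?_⟩
  nth_rw 1 [← h.ft]
  rw [conj_inv, ← cj_mul, ← cj_mul, hg.ct, cj_mul, h.ft]

theorem cE (h : L0 t z v u f) {g : G} (h1 : g * t = t * g) (h2 : g * z = z * g) (h3 : g * v = v * g) :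
    ∃ e, V4 z v e ∧ (g = e ∨ g = t * e) := by
  obtain ⟨c, hc, e⟩ := h.cT g h1 h2
  have cv := hc.comm h.tv.symm h.zv.symm
  rcases e with e | e | rfl | rfl
  · rcases hc with e1 | e1 | e1 | e1 <;> rw [e, e1]
    exacts [⟨1, Or.inl rfl, Or.inl rfl⟩, ⟨1, Or.inl rfl, Or.inr (mul_one t).symm⟩, ⟨z, Or.inr (Or.inl rfl), Or.inl rfl⟩,
      ⟨z, Or.inr (Or.inl rfl), Or.inr rfl⟩]
  · rcases hc with e1 | e1 | e1 | e1 <;> rw [e, e1]
    exacts [⟨v, Or.inr (Or.inr (Or.inl rfl)), Or.inl (one_mul v)⟩, ⟨v, Or.inr (Or.inr (Or.inl rfl)), Or.inr rfl⟩,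
      ⟨_, Or.inr (Or.inr (Or.inr rfl)), Or.inl h.zv⟩, ⟨_, Or.inr (Or.inr (Or.inr rfl)), Or.inr (by rw [mul_assoc, h.zv])⟩]
  · rw [← mul_assoc, ← cv, mul_assoc, mul_assoc] at h3
    exact absurd (mul_left_cancel h3) h.nuv
  · rw [← mul_assoc v, ← cv, mul_assoc, mul_assoc, mul_assoc] at h3
    exact absurd (mul_left_cancel (mul_left_cancel h3)) h.nuv

theorem sqR (h : L0 t z v u f) {g d : G} (hg : Rr t z v g d) (hd : V4 z v d) (d1 : d ≠ 1) : V4 z v (g * g) := by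
  have h1 := hg.mul hg hd
  obtain ⟨e, he, e1 | e1⟩ := h.cE (comm_of_cj (by rw [h1.ct, h.vsq hd, mul_one])) h1.cz h1.cv
  · rwa [e1]
  · have h2 : g * (t * e) = t * e * g := by rw [← e1, mul_assoc]
    rw [mul_assoc t, he.comm hg.cz hg.cv, ← mul_assoc, ← mul_assoc, mul_left_inj] at h2
    have h3 := hg.ct
    rw [cj_fix h2] at h3
    exact absurd (by simpa using h3) d1

theorem ub (h : L0 t z v u f) (a : G) : u * (f * a * f⁻¹) * u⁻¹ = f⁻¹ * (u * a * u⁻¹) * f := by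
  rw [cj_mul, cj_mul, ← conj_inv, h.uf, inv_inv]

theorem exists_ab (h : L0 t z v u f) {r : G} (hr : Rr t z v r z) : ∃ a b e, Rr t z v a z ∧ Rr t z v b v ∧
    f * a * f⁻¹ = b ∧ f * b * f⁻¹ = (a * b)⁻¹ ∧ a * b = b * a ∧ V4 z v e ∧ u * a * u⁻¹ = a * e ∧
    (a * a = 1 ∨ a * a = z) := by
  have Vz : V4 z v z := Or.inr (Or.inl rfl)
  have Vv : V4 z v v := Or.inr (Or.inr (Or.inl rfl))
  have Vw : V4 z v (v * z) := Or.inr (Or.inr (Or.inr rfl))
  have v1 : v ≠ 1 := fun e => h.nZ (Or.inl e)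
  have h2 := h.rf hr
  have h3 := h.rf h2
  rw [h.fz] at h2
  rw [h.fz, h.fv, h.cj2] at h3
  have ha := h2.mul h3 Vw
  rw [← mul_assoc v, h.vv, one_mul] at ha
  have s1 := h.sqR hr Vz h.z1
  obtain ⟨a, ea⟩ : ∃ a, a = f * r * f⁻¹ * (f⁻¹ * r * f) := ⟨_, rfl⟩
  rw [← ea] at ha
  have hb := h.rf ha
  have hc := h.rf hb
  rw [h.fz] at hb
  rw [h.fz, h.fv] at hc
  have e3 : f * (f * a * f⁻¹) * f⁻¹ = (a * (f * a * f⁻¹))⁻¹ := by
    refine eq_inv_of_mul_eq_one_right ?_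
    have k1 : f * a * f⁻¹ = f⁻¹ * r * f * r := by rw [ea, cj_mul, h.cj2]; group
    have k2 : f * (f * a * f⁻¹) * f⁻¹ = r * (f * r * f⁻¹) := by rw [k1]; group
    rw [k2, k1, ea, ← h.orbit s1]
    calc _ = f * r * f⁻¹ * (f⁻¹ * (r * r) * f) * (r * r) * (f * r * f⁻¹) := by group
      _ = f⁻¹ * (r * r) * f * (f * r * f⁻¹ * (r * r)) * (f * r * f⁻¹) := by
        rw [← (h.vf s1).comm h2.cz h2.cv]; simp only [mul_assoc]
      _ = _ := by rw [← s1.comm h2.cz h2.cv]; group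
  have s2 := h.sqR ha Vz h.z1
  have ab : a * (f * a * f⁻¹) = f * a * f⁻¹ * a := by
    have k := h.orbit s2
    rw [← h.cj2, cj_mul f a a, cj_mul, e3] at k
    generalize f * a * f⁻¹ = b at k
    calc a * b = a⁻¹ * (a * b * (a * b) * ((a * b)⁻¹ * (a * b)⁻¹ * (a * a * (b * b)))) * b⁻¹ := by group
      _ = _ := by rw [k]; group
  have uz := cj_fix h.uz
  have hu : Rr t z v (u * a * u⁻¹) z := by
    have k1 := cj_comm ha.cz u
    have k2 := cj_comm (Vw.comm ha.cz ha.cv).symm u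
    rw [uz] at k1
    rw [cj_mul u v, h.uv, uz, mul_assoc v, h.zz, mul_one] at k2
    refine ⟨k1, k2, ?_⟩
    nth_rw 1 [← cj_fix h.tu.symm]
    rw [conj_inv, ← cj_mul, ← cj_mul, ha.ct, cj_mul, uz, cj_fix h.tu.symm]
  obtain ⟨e, he, k⟩ := h.cE (g := a⁻¹ * (u * a * u⁻¹)) (comm_of_cj (by
      rw [show a⁻¹ * (u * a * u⁻¹) * t * (a⁻¹ * (u * a * u⁻¹))⁻¹ = a⁻¹ * (u * a * u⁻¹ * t * (u * a * u⁻¹)⁻¹) * a by group,
        hu.ct, ← ha.ct]; group))
    ((show Commute a z from ha.cz).inv_left.mul_left hu.cz) ((show Commute a v from ha.cv).inv_left.mul_left hu.cv)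
  rw [inv_mul_eq_iff_eq_mul, inv_mul_eq_iff_eq_mul] at k
  rcases k with k | k
  · refine ⟨a, _, e, ha, hb, rfl, e3, ab, he, k, ?_⟩
    have k1 : u * (a * a) = a * a * u := comm_of_cj (by
      rw [cj_mul, k, mul_assoc a, ← mul_assoc e, he.comm ha.cz ha.cv, mul_assoc a, h.vsq he, mul_one])
    rcases s2 with e1 | e1 | e1 | e1
    · exact Or.inl e1
    · exact Or.inr e1
    · exact absurd (e1 ▸ k1) h.nuv
    · rw [e1, mul_assoc v, ← h.uz, ← mul_assoc, ← mul_assoc, mul_left_inj] at k1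
      exact absurd k1 h.nuv
  · exfalso
    have k1 := cj_comm ab u
    have k2 : u * (f * a * f⁻¹) * u⁻¹ = f * (f * a * f⁻¹) * f⁻¹ * (t * (f⁻¹ * e * f)) := by
      rw [h.ub, k, h.cj2, show f⁻¹ * a * f * (t * (f⁻¹ * e * f)) = f⁻¹ * a * (f * t * f⁻¹) * e * f by group, h.ft]
      group
    have ac : a * (f * (f * a * f⁻¹) * f⁻¹) = f * (f * a * f⁻¹) * f⁻¹ * a := by
      rw [e3]; nth_rw 1 [ab]; group
    rw [k, k2] at k1
    have he' := h.vf he
    generalize f * (f * a * f⁻¹) * f⁻¹ = c at k1 hc ac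
    generalize f⁻¹ * e * f = e' at k1 he'
    have p1 : e * (c * t) = c * t * e := by
      rw [← mul_assoc, he.comm hc.cz hc.cv, mul_assoc, he.comm h.tz h.tv, mul_assoc]
    have p2 : e' * (a * t) = a * t * e' := by
      rw [← mul_assoc, he'.comm ha.cz ha.cv, mul_assoc, he'.comm h.tz h.tv, mul_assoc]
    have p3 : e * e' = e' * e := he.comm (he'.comm rfl h.zv) (he'.comm h.zv.symm rfl)
    rw [show a * (t * e) * (c * (t * e')) = a * t * (e * (c * t)) * e' by group, p1,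
      show c * (t * e') * (a * (t * e)) = c * t * (e' * (a * t)) * e by group, p2,
      show a * t * (c * t * e) * e' = a * t * a⁻¹ * (a * c) * (t * (e * e')) by group,
      show c * t * (a * t * e') * e = c * t * c⁻¹ * (c * a) * (t * (e' * e)) by group, p3, ha.ct, hc.ct, ac] at k1
    exact v1 (by simpa using k1)

end L0

end Cfsg.Agent.O12
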