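import Mathlib
import Cfsg.Agent.O12.Tab

/-!
Simple groups of order `95040`: facts in the model groups.
-/

set_option autoImplicit false
set_option maxRecDepth 100000
set_option synthInstance.maxSize 100000

namespace Cfsg.Agent.O12

open Cfsg.Agent.Core Subgroup

def cmm {M : Type*} [Group M] (g h : M) : M := g * h * g⁻¹ * h⁻¹

def Reach {M : Type*} [Group M] (z : M) (L : List M) (g : M) : Prop :=
  g = 1 ∨ g = z ∨ ∃ a ∈ L, cmm g a = z ∨ ∃ b ∈ L, cmm (cmm g a) b = z ∨ ∃ c ∈ L, cmm (cmm (cmm g a) b) c = z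

noncomputable instance reachDec {D : RTab} [Fact D.OK] (z : El D) (L : List (El D)) : DecidablePred (Reach z L) :=
  fun g => by unfold Reach; infer_instance

theorem inj_reach {M G : Type*} [Group M] [Group G] {z : M} {L : List M} (H : ∀ g, Reach z L g) {φ : M →* G}
    (hz : φ z ≠ 1) : Function.Injective φ :=
  (injective_iff_map_eq_one φ).mpr fun g hg => by
    rcases H g with e | e | ⟨a, -, e | ⟨b, -, e | ⟨c, -, e⟩⟩⟩
    · exact e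
    · exact absurd (e ▸ hg) hz
    all_goals exact absurd (by rw [← e]; simp [cmm, hg]) hz

def Msk (D : RTab) [Fact D.OK] (m : ℕ) : Prop :=
  (m.testBit (1 : El D).v ∧ ∀ x : El D, m.testBit x.v → m.testBit x⁻¹.v) ∧
    (∀ x : El D, m.testBit x.v → ∀ y : El D, m.testBit y.v → m.testBit (x * y).v) ∧
    El.cnt (fun x : El D => m.testBit x.v) * 2 = D.n

noncomputable instance mskDec (D : RTab) [Fact D.OK] (m : ℕ) : Decidable (Msk D m) := by unfold Msk; infer_instance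

def Msk.sub {D : RTab} [Fact D.OK] {m : ℕ} (h : Msk D m) : Subgroup (El D) where
  carrier := {x | m.testBit x.v}
  one_mem' := h.1.1
  mul_mem' := fun a b => h.2.1 _ a _ b
  inv_mem' := fun a => h.1.2 _ a

theorem Msk.relIndex {D : RTab} [Fact D.OK] {m : ℕ} (h : Msk D m) {G : Type*} [Group G] {φ : El D →* G}
    (hφ : Function.Injective φ) : (h.sub.map φ).relIndex φ.range = 2 := by
  rw [MonoidHom.range_eq_map, relIndex_map_map_of_injective _ _ hφ, relIndex_top_right]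
  have h1 := h.sub.card_mul_index
  have h2 : 0 < Nat.card h.sub := Nat.card_pos
  rw [El.card_El, ← h.2.2, ← El.card_eq_cnt] at h1
  exact Nat.eq_of_mul_eq_mul_left h2 h1

theorem t_l : El.l DT 0 = ta ∧ El.l DT 2 = tb ∧ El.l DT 4 = tw ∧ El.l DT 5 = tu ∧ tz = ta * ta ∧ tv = tb * tb := by
  decide +kernel
theorem t_reach : ∀ g, Reach tz [ta, tb, tw, tu] g := by decide +kernel
theorem t_M1 : Msk DT tM1 := by decide +kernel
theorem t_M2 : Msk DT tM2 := by decide +kernel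
theorem t_i1 : ∀ y : El DT, tM1.testBit y.v → y * y = 1 →
    y = 1 ∨ y = tz ∨ y = tv ∨ y = tv * tz ∨ ∃ s, s * tu * s⁻¹ = y := by decide +kernel
theorem t_i2 : ∀ y : El DT, tM2.testBit y.v → y * y = 1 →
    y = 1 ∨ y = tz ∨ y = tv ∨ y = tv * tz ∨ ∃ s, s * (tu * tw) * s⁻¹ = y := by decide +kernel
theorem t_z : ∀ y : El DT, y * tz = tz * y := by decide +kernel
theorem t_W : ∀ y ∈ W12, ∃ s, s * tw * s⁻¹ = y ∨ s * tu * s⁻¹ = y ∨ s * (tu * tw) * s⁻¹ = y := by decide +kernel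
theorem t_W2 : El.cnt (fun y => y ∈ W12) = 12 ∧ tw ∈ W12 ∧ tu ∈ W12 ∧ tw * tv ∈ W12 ∧ tu * ta ∈ W12 := by
  decide +kernel

/-- substitution in the normal form of an element of the extraspecial subgroup -/
noncomputable def Bf (a v w u y : El DT) : El DT :=
  a ^ (exT >>> (5 * y.v) % 4) * v ^ (exT >>> (5 * y.v + 2) % 2) * w ^ (exT >>> (5 * y.v + 3) % 2) *
    u ^ (exT >>> (5 * y.v + 4) % 2)

theorem t_Q : (∀ y ∈ W12, Bf ta tv tw tu y = y) ∧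
    ∀ g ∈ [ta, tw, tu, tv], ∀ s : El DT, Bf ta tv tw tu (s * g * s⁻¹) = s * g * s⁻¹ := by decide +kernel

theorem t_main : ∀ w1 ∈ W12, w1 ≠ tw → ∀ u1 ∈ W12, w1 * u1 = u1 * w1 → ∀ p1 ∈ W12,
    u1 * (w1 * p1) * u1 = w1 * p1 * tz → ∀ q1 ∈ W12, u1 * q1 * (u1 * q1) = tz →
    (∀ y ∈ W12, Bf (u1 * q1) (w1 * p1) w1 u1 y ∈ W12) →
    (∀ y ∈ W12, Bf (u1 * q1) (w1 * p1) w1 u1 (Bf (u1 * q1) (w1 * p1) w1 u1 (Bf (u1 * q1) (w1 * p1) w1 u1 y)) = y) →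
    ∃ s : El DT, Bf (u1 * q1) (w1 * p1) w1 u1 (s * tw * s⁻¹) = s * tu * s⁻¹ ∧
      Bf (u1 * q1) (w1 * p1) w1 u1 (s * tu * s⁻¹) = s * (tu * tw) * s⁻¹ ∧
      Bf (u1 * q1) (w1 * p1) w1 u1 (s * ta * s⁻¹) = s * (tu * tv) * s⁻¹ ∧
      Bf (u1 * q1) (w1 * p1) w1 u1 (s * tv * s⁻¹) = s * (tw * tv * ta⁻¹) * s⁻¹ := by decide +kernel

theorem t_tau : ∀ g ∈ [ta, tv, tw, tu], Bf ta tv tw tu g = g ∧
    Bf ta tv tw tu (tw * tb⁻¹ * Bf (tu * tv) (tw * tv * ta⁻¹) tu (tu * tw) g * (tw * tb⁻¹)⁻¹) =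
      tw * tb⁻¹ * Bf (tu * tv) (tw * tv * ta⁻¹) tu (tu * tw) g * (tw * tb⁻¹)⁻¹ ∧
    tw * tb⁻¹ * Bf (tu * tv) (tw * tv * ta⁻¹) tu (tu * tw)
      (tw * tb⁻¹ * Bf (tu * tv) (tw * tv * ta⁻¹) tu (tu * tw) g * (tw * tb⁻¹)⁻¹) * (tw * tb⁻¹)⁻¹ = g := by
  decide +kernel

theorem q_l : El.l DQ 0 = qa ∧ El.l DQ 2 = qb ∧ El.l DQ 4 = qu := by decide +kernel
theorem q_reach : ∀ g, Reach (qa * qa) [qa, qb, qu] g := by decide +kernel
theorem q_M : Msk DQ qM := by decide +kernel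
theorem q_sq : ∀ y : El DQ, (¬ qM.testBit y.v → y * y ≠ 1) ∧
    (qM.testBit y.v → y * y = 1 ∨ y * y = qa * qa ∨ y * y = qb * qb ∨ y * y = qb * qb * (qa * qa)) := by decide +kernel

theorem b_l : El.l DB 0 = ba ∧ El.l DB 1 = bb ∧ El.l DB 2 = bz ∧ El.l DB 3 = bv ∧ El.l DB 4 = bt ∧ El.l DB 5 = bf := by
  decide +kernel
theorem b_reach : ∀ g, Reach bz [ba, bb, bt, bf] g := by decide +kernel
theorem b_P : El.cnt (fun x : El DB => x * ba = ba * x ∧ x * bb = bb * x) = 16 ∧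
    ∀ x : El DB, x * ba = ba * x ∧ x * bb = bb * x → x * x = 1 ∧ (∃ s, s * (bf * bt) * s⁻¹ = x * (bf * bt)) ∧
      (∀ p ∈ [ba, bb, bz, bv], p * x = x * p) ∧ (x ≠ 1 → ∃ p ∈ [ba, bb, bz, bv], ∃ q ∈ [ba, bb, bz, bv],
        ∃ r ∈ [ba, bb, bz, bv], ∀ c ∈ [p, q, r, p * q, p * r, q * r, p * q * r], c ≠ 1 ∧ c ≠ x) := by decide +kernel
theorem b_P2 : ∀ p ∈ [ba, bb, bz, bv], p * p = 1 ∧ ∀ q ∈ [ba, bb, bz, bv], p * q = q * p := by decide +kernel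

end Cfsg.Agent.O12
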