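import Mathlib
import Cfsg.Agent.O12.R
import Cfsg.Agent.O12.TF
import Cfsg.Agent.S3225

/-!
Simple groups of order `95040`: the Sylow `2`-subgroup.
-/

set_option autoImplicit false
set_option linter.unusedSectionVars false
set_option linter.style.haveILetI false
set_option maxRecDepth 100000
set_option synthInstance.maxSize 100000

namespace Cfsg.Agent.O12

open Cfsg.Agent.Comp Cfsg.Agent.Core Cfsg.Agent.Gl23 Cfsg.Agent.M12R Subgroup MulAction

variable {G : Type*} [Group G]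

local notation "𝐜" x:max => Nat.card (centralizer ({x} : Set _))

structure L2 (t z v u f a b e : G) : Prop extends L0 t z v u f where
  cz : 𝐜 z = 192
  ha : Rr t z v a z
  hb : Rr t z v b v
  fa : f * a * f⁻¹ = b
  fb : f * b * f⁻¹ = (a * b)⁻¹
  ab : a * b = b * a
  ua : u * a * u⁻¹ = a * e

structure L3 (φ : El DT →* G) (f : G) : Prop extends L0 (φ tw) (φ tz) (φ tv) (φ tu) f where
  cz : 𝐜 (φ O12.tz) = 192
  inj : Function.Injective φ

variable {t z v u f a b e : G}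

theorem L0.tg (h : L0 t z v u f) {g d : G} (hg : Rr t z v g d) (hd : V4 z v d) : t * g * t⁻¹ = g * d := by
  rw [show t * g * t⁻¹ = t * (g * t * g⁻¹)⁻¹ * g by group, hg.ct, ← hd.comm h.tz h.tv, ← hd.comm hg.cz hg.cv,
    mul_inv_rev, mul_inv_cancel_left, inv_eq_of_mul_eq_one_right (h.vsq hd)]

theorem L0.ntV (h : L0 t z v u f) (cz : 𝐜 z = 192) {s : G} (hs : V4 z v s) : ¬ IsConj t s := fun c => by
  have k : ¬ IsConj z s := fun c' => by have := (cent_cj c).trans (cent_cj c').symm; rw [h.ct] at this; omega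
  rcases hs with e | e | e | e <;> rw [e] at c k
  exacts [h.t1 (by simpa using c), k (IsConj.refl _), k (cj_of f h.fz), k (cj_of f⁻¹ (by rw [inv_inv, h.fz']))]

theorem sylow_range [Finite G] (hG : Nat.card G = 95040) {D : RTab} [Fact D.OK] (hD : D.n = 64) {φ : El D →* G}
    (hφ : Function.Injective φ) : ∃ S : Sylow 2 G, (S : Subgroup G) = φ.range := by
  have := Fact.mk Nat.prime_two
  have h1 := (El.card_range hφ).trans hD
  have h2 := card_mul_relIndex (le_top : φ.range ≤ ⊤)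
  rw [h1, card_top, hG] at h2
  exact IsSylowOf.exists_sylow_top ⟨le_top, IsPGroup.of_card (n := 6) h1, by omega⟩

theorem transfer [Finite G] [IsSimpleGroup G] (hG : Nat.card G = 95040) {D : RTab} [Fact D.OK] (hD : D.n = 64)
    {φ : El D →* G} (hφ : Function.Injective φ) {m : ℕ} (hm : Msk D m) {n : ℕ} (hn : 1 ≤ n)
    (ho : ∀ y : El D, ¬ m.testBit y.v → 2 ^ (n - 1) < orderOf y) {x : El D} (hx : orderOf x = 2 ^ n) :
    ∃ (g : G) (y : El D), m.testBit y.v ∧ φ y = g * φ x * g⁻¹ := by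
  obtain ⟨S, hS⟩ := sylow_range hG hD hφ
  obtain ⟨g, y, hy, e⟩ := S3225.result (by rw [hG]; decide) (no_index_two (by omega)) S (hm.sub.map φ)
    (hS ▸ map_le_range φ _) (hS ▸ hm.relIndex hφ) n hn (fun y hy y1 => by
      rw [hS] at hy
      obtain ⟨y, rfl⟩ := hy
      rw [orderOf_injective φ hφ]
      exact ho y fun k => y1 ⟨y, k, rfl⟩) (φ x) (hS ▸ ⟨x, rfl⟩) (by rw [orderOf_injective φ hφ, hx])
  exact ⟨g, y, hy, e⟩

namespace L2

theorem flip (h : L2 t z v u f a b e) (he : V4 z v e) : L2 t z v (t * u) f a b (z * e) :=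
  ⟨h.toL0.flip, h.cz, h.ha, h.hb, h.fa, h.fb, h.ab, by
    rw [show t * u * a * (t * u)⁻¹ = t * (u * a * u⁻¹) * t⁻¹ by group, h.ua, cj_mul, h.tg h.ha (Or.inr (Or.inl rfl)),
      cj_fix (he.comm h.tz h.tv).symm, mul_assoc]⟩

theorem ub' (h : L2 t z v u f a b e) : u * b * u⁻¹ = (a * b)⁻¹ * (f⁻¹ * e * f) := by
  nth_rw 1 [← h.fa]
  rw [h.ub, h.ua, ← h.fb, ← h.fa, h.cj2]; group

theorem bb (h : L2 t z v u f a b e) (aa : a * a = z) : b * b = v := by rw [← h.fa, ← cj_mul, aa, h.fz]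

theorem caseT (h : L2 t z v u f a b z) (aa : a * a = z) : ∃ φ : El DT →* G, L3 φ f := by
  have bb := h.bb aa
  have ti := inv_eq_of_mul_eq_one_right h.tt
  have ta' := h.tg h.ha (Or.inr (Or.inl rfl))
  have tb' := h.tg h.hb (Or.inr (Or.inr (Or.inl rfl)))
  have uu : u * u = 1 := h.uu.resolve_right fun e => h.z1 (by
    rw [← e, show u * u * a * (u * u)⁻¹ = u * (u * a * u⁻¹) * u⁻¹ by group, h.ua, cj_mul, h.ua, cj_fix h.uz, mul_assoc,
      h.zz] at ta'
    simpa using ta')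
  have ui := inv_eq_of_mul_eq_one_right uu
  have ua' := h.ua
  have ub := h.ub'
  rw [ti] at ta' tb'
  rw [ui] at ua' ub
  obtain ⟨φ, h1, -⟩ := El.exists_hom (D := DT) (c := fun n => [a, a⁻¹, b, b⁻¹, t, u].getD n 1) fun w hw => by
    change w ∈ RDT at hw
    simp only [RDT, List.mem_cons, List.not_mem_nil, or_false] at hw
    rcases hw with rfl | rfl | rfl | rfl | rfl | rfl | rfl | rfl | rfl | rfl | rfl | rfl | rfl | rfl <;>
      simp only [ev_cons, ev_nil, List.getD_cons_succ, List.getD_cons_zero, mul_one]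
    · group
    · group
    · group
    · group
    · exact h.tt
    · exact uu
    · rw [← mul_assoc, aa, h.zz]
    · rw [← mul_assoc, bb, h.vv]
    · rw [← mul_assoc, h.ab]; group
    · rw [← mul_assoc, ← mul_assoc, ta', mul_assoc, ← h.ha.cz, ← mul_assoc, aa, h.zz]
    · rw [← mul_assoc, ← mul_assoc, tb', mul_assoc, ← h.hb.cv, ← mul_assoc, bb, h.vv]
    · rw [← mul_assoc, ← mul_assoc, ua', mul_assoc, ← h.ha.cz, ← mul_assoc, aa, h.zz]
    · rw [← mul_assoc, ← mul_assoc, ub, h.fz', ← aa, ← bb, h.ab]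
      calc _ = a⁻¹ * (b * a) * (a * b⁻¹ * a⁻¹) := by group
        _ = _ := by rw [← h.ab, ← conj_inv, cj_fix h.ab]; group
    · rw [← mul_assoc, ← h.tu, mul_assoc t, ← mul_assoc u, ← h.tu, mul_assoc t, uu, mul_one, h.tt]
  obtain ⟨l0, l2, l4, l5, lz, lv⟩ := t_l
  have e0 : φ ta = a := l0 ▸ h1 0 (by decide)
  have e2 : φ tb = b := l2 ▸ h1 2 (by decide)
  have e4 : φ tw = t := l4 ▸ h1 4 (by decide)
  have e5 : φ tu = u := l5 ▸ h1 5 (by decide)
  have ez : φ tz = z := by rw [lz, map_mul, e0, aa]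
  have ev' : φ tv = v := by rw [lv, map_mul, e2, bb]
  exact ⟨φ, by rw [e4, e5, ez, ev']; exact h.toL0, ez ▸ h.cz, inj_reach t_reach (ez ▸ h.z1)⟩

theorem caseQ [Finite G] [IsSimpleGroup G] (hG : Loc G) (h : L2 t z v u f a b v) (aa : a * a = z) : False := by
  have bb := h.bb aa
  obtain ⟨φ, h1, -⟩ := El.exists_hom (D := DQ) (c := fun n => [a, a⁻¹, b, b⁻¹, u, u⁻¹].getD n 1) fun w hw => by
    change w ∈ RDQ at hw
    simp only [RDQ, List.mem_cons, List.not_mem_nil, or_false] at hw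
    rcases hw with rfl | rfl | rfl | rfl | rfl | rfl | rfl | rfl | rfl | rfl | rfl | rfl <;>
      simp only [ev_cons, ev_nil, List.getD_cons_succ, List.getD_cons_zero, mul_one]
    · group
    · group
    · group
    · group
    · group
    · group
    · rw [← mul_assoc, aa, h.zz]
    · rw [← mul_assoc, bb, h.vv]
    · rw [← mul_assoc, h.ab]; group
    · rw [← mul_assoc, ← mul_assoc, h.ua, ← bb]; group
    · rw [← mul_assoc, ← mul_assoc, h.ub', h.fv', ← aa]; group
    · rw [← mul_assoc]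
      rcases h.uu with e | e <;> rw [e]
      exacts [one_mul 1, h.tt]
  obtain ⟨l0, l2, l4⟩ := q_l
  have e0 : φ qa = a := l0 ▸ h1 0 (by decide)
  have e2 : φ qb = b := l2 ▸ h1 2 (by decide)
  have e4 : φ qu = u := l4 ▸ h1 4 (by decide)
  have inj : Function.Injective φ := inj_reach q_reach (by rw [map_mul, e0, aa]; exact h.z1)
  have uu : u * u = t := h.uu.resolve_left (by rw [← e4]; exact mdl inj)
  have := Fact.mk Nat.prime_two
  obtain ⟨g, y, hy, e⟩ := transfer hG.card rfl inj q_M (n := 2) (by norm_num) (fun y hy => by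
    by_contra! k
    refine (q_sq y).1 hy ?_
    rw [← sq, ← orderOf_dvd_iff_pow_eq_one]
    have := orderOf_pos y
    interval_cases orderOf y <;> norm_num) (x := qu) (orderOf_eq_prime_pow (by decide +kernel) (by decide +kernel))
  refine h.ntV h.cz (s := φ (y * y)) ?_ (cj_of g (by rw [map_mul, e, ← cj_mul, e4, uu]))
  rcases (q_sq y).2 hy with e | e | e | e <;> simp only [e, map_mul, map_one, e0, e2, aa, bb, V4, true_or, or_true]

open scoped _root_.Classical in
theorem caseB [Finite G] [IsSimpleGroup G] (hG : Loc G) (h : L2 t z v u f a b e) (aa : a * a = 1) : False := by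
  have b2 : b * b = 1 := h.fa ▸ cj_sq' aa f
  have ta' := h.tg h.ha (Or.inr (Or.inl rfl))
  rw [inv_eq_of_mul_eq_one_right h.tt] at ta'
  have q : ∀ x y : G, x * x = 1 → y * y = 1 → x * y = y * x → x * (y * (x * y)) = 1 := fun x y a b c => by
    rw [c, ← mul_assoc y, b, one_mul, a]
  obtain ⟨φ, h1, -⟩ := El.exists_hom (D := DB) (c := fun n => [a, b, z, v, t, f, f⁻¹].getD n 1) fun w hw => by
    change w ∈ RDB at hw
    simp only [RDB, List.mem_cons, List.not_mem_nil, or_false] at hw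
    rcases hw with rfl | rfl | rfl | rfl | rfl | rfl | rfl | rfl | rfl | rfl | rfl | rfl | rfl | rfl | rfl | rfl |
      rfl | rfl <;> simp only [ev_cons, ev_nil, List.getD_cons_succ, List.getD_cons_zero, mul_one]
    · exact aa
    · exact b2
    · exact h.zz
    · exact h.vv
    · exact h.tt
    · group
    · group
    · rw [← mul_assoc, h.f3]
    · exact q _ _ aa b2 h.ab
    · exact q _ _ aa h.zz h.ha.cz
    · exact q _ _ aa h.vv h.ha.cv
    · exact q _ _ h.zz h.vv h.zv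
    · rw [← mul_assoc, ← mul_assoc, ta', mul_assoc, q _ _ aa h.zz h.ha.cz]
    · rw [← mul_assoc f, h.ft, h.tt]
    · rw [← mul_assoc, ← mul_assoc, h.fa, b2]
    · rw [← mul_assoc, ← mul_assoc, h.fb, h.ab]; group
    · rw [← mul_assoc, ← mul_assoc, h.fz, h.vv]
    · rw [← mul_assoc, ← mul_assoc, h.fv, mul_assoc, ← mul_assoc z, h.zz, one_mul, h.vv]
  obtain ⟨-, -, l2, -, l4, l5⟩ := b_l
  have e2 : φ bz = z := l2 ▸ h1 2 (by decide)
  have e4 : φ bt = t := l4 ▸ h1 4 (by decide)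
  have e5 : φ bf = f := l5 ▸ h1 5 (by decide)
  have inj : Function.Injective φ := inj_reach b_reach (e2 ▸ h.z1)
  obtain ⟨χ, hχ, χ1, χ2⟩ := hG.chi
  obtain ⟨p16, hP⟩ := b_P
  let P := centralizer ({ba} : Set (El DB)) ⊓ centralizer ({O12.bb} : Set (El DB))
  have mP : ∀ x, x ∈ P ↔ x * ba = ba * x ∧ x * O12.bb = O12.bb * x := fun x => by rw [mem_inf, mem_cent, mem_cent]
  have cP : Nat.card P = 16 := (Nat.card_congr (Equiv.subtypeEquivRight mP)).trans ((El.card_eq_cnt _).trans p16)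
  have := Fintype.ofFinite (El DB)
  have hψ := Char.isChar_comp φ hχ
  have val : ∀ x : P, χ (φ x) = (if x = 1 then 48 else 0) - 3 := fun x => by
    split_ifs with x1
    · rw [x1, coe_one, map_one, χ1]; norm_num
    obtain ⟨x2, -, x3, x4⟩ := hP x ((mP x).1 x.2)
    have x5 : (x : El DB) ≠ 1 := fun e => x1 (Subtype.ext e)
    have o := two_of (s := φ x) (by rw [← map_mul, x2, map_one]) ((map_ne_one_iff φ inj).2 x5)
    rw [(χ2 _ o).1 ((hG.inv _ o).resolve_right fun c => ?_)]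
    · norm_num
    obtain ⟨k, hk⟩ := isConj_iff.1 (hG.conj h.t2 o h.ct c)
    obtain ⟨p, hp, q, hq, r, hr, hc⟩ := x4 x5
    have c1 : ∀ {p q : El DB}, p * q = q * p → k * φ p * k⁻¹ * (k * φ q * k⁻¹) = k * φ q * k⁻¹ * (k * φ p * k⁻¹) :=
      fun e => cj_comm (by rw [← map_mul, e, map_mul]) k
    have c2 : ∀ p ∈ [ba, O12.bb, bz, bv], k * φ p * k⁻¹ * (k * φ p * k⁻¹) = 1 := fun p hp =>
      cj_sq' (by rw [← map_mul, (b_P2 p hp).1, map_one]) k
    obtain ⟨c, hc', e⟩ := h.no16 _ _ _ (hk ▸ c1 (x3 p hp)) (hk ▸ c1 (x3 q hq)) (hk ▸ c1 (x3 r hr)) (c2 p hp) (c2 q hq)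
      (c2 r hr) (c1 ((b_P2 q hq).2 p hp)) (c1 ((b_P2 r hr).2 p hp)) (c1 ((b_P2 r hr).2 q hq))
    have c3 : ∀ y : El DB, y ≠ 1 ∧ y ≠ x → c ≠ k * φ y * k⁻¹ := fun y hy e1 => by
      rw [e1, ← hk] at e
      rcases e with e | e
      · exact hy.1 (inj (by simpa using e))
      · exact hy.2 (inj (cj_inj e))
    simp only [← cj_mul, ← map_mul, List.mem_cons, List.not_mem_nil, or_false] at hc'
    rcases hc' with e | e | e | e | e | e | e <;> exact c3 _ (hc _ (by simp)) e
  have s1 := Block.card_mul_fx (P := P) hψ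
  simp only [val, Finset.sum_sub_distrib, Finset.sum_ite_eq', Finset.mem_univ, if_true, Finset.sum_const,
    Finset.card_univ, Fintype.card_eq_nat_card, cP] at s1
  have s2 := Block.sum_mul_eq_zero_of_fx (P := P) hψ (by
    norm_num at s1; exact s1) (bf * bt)
  rw [Finset.sum_congr rfl (g := fun _ => χ (f * t)) fun x _ => by
    obtain ⟨-, ⟨s, e⟩, -⟩ := hP x ((mP x).1 x.2)
    rw [← e, map_mul, map_mul, map_inv, Char.isChar_classFun hχ, map_mul, e4, e5]] at s2
  simp only [Finset.sum_const, Finset.card_univ, Fintype.card_eq_nat_card, cP] at s2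
  have := sub_dvd hχ Nat.prime_three (by rw [pow_three', h.f3]) h.tf.symm (m := 0) (n := 5) (by simpa using s2)
    (by simpa using (χ2 t h.t2).2 h.ct)
  norm_num at this

end L2

theorem Loc.exists_L3 [Finite G] [IsSimpleGroup G] (hG : Loc G) : ∃ (φ : El DT →* G) (f : G), L3 φ f := by
  obtain ⟨t, z, v, u, f, h⟩ := hG.exists_L0
  obtain ⟨cz, -⟩ := h.exists_n hG
  obtain ⟨r, r1, r2, r3⟩ := h.exists_r cz
  obtain ⟨a, b, e, ha, hb, fa, fb, ab, he, ua, aa⟩ := h.exists_ab ⟨r1, r2, r3⟩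
  have k : L2 t z v u f a b e := ⟨h, cz, ha, hb, fa, fb, ab, ua⟩
  replace aa := aa.resolve_left (k.caseB hG)
  have k' := k.flip he
  rcases he with e1 | e1 | e1 | e1 <;> rw [e1] at k k'
  · rw [mul_one] at k'
    exact (k'.caseT aa).imp fun φ hφ => ⟨f, hφ⟩
  · exact (k.caseT aa).imp fun φ hφ => ⟨f, hφ⟩
  · exact (k.caseQ hG aa).elim
  · rw [← h.zv, ← mul_assoc, h.zz, one_mul] at k'
    exact (k'.caseQ hG aa).elim

end Cfsg.Agent.O12
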