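import Mathlib
import Cfsg.Agent.O12.K

/-!
Simple groups of order `95040` are isomorphic to `M₁₂`.
-/

set_option autoImplicit false
set_option linter.unusedSectionVars false
set_option linter.style.haveILetI false
set_option maxRecDepth 100000
set_option synthInstance.maxSize 100000

namespace Cfsg.Agent.O12

open Cfsg.Agent.Comp Cfsg.Agent.Core Cfsg.Agent.Gl23 Cfsg.Agent.M12R Subgroup MulAction

variable {G : Type*} [Group G] {φ : El DT →* G} {f : G}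

theorem act {x : G} {a v w u : El DT} (ea : φ a = x * φ ta * x⁻¹) (ev : φ v = x * φ tv * x⁻¹)
    (ew : φ w = x * φ tw * x⁻¹) (eu : φ u = x * φ tu * x⁻¹) {y : El DT} (hy : Bf ta tv tw tu y = y) :
    x * φ y * x⁻¹ = φ (Bf a v w u y) := by
  nth_rw 1 [← hy]
  simp only [Bf, map_mul, map_pow, ea, ev, ew, eu, conj_pow, cj_mul]

variable [Finite G] [IsSimpleGroup G]

namespace L3

theorem tr (hG : Nat.card G = 95040) (h : L3 φ f) {m : ℕ} (hm : Msk DT m) {x : El DT}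
    (hi : ∀ y : El DT, m.testBit y.v → y * y = 1 →
      y = 1 ∨ y = O12.tz ∨ y = tv ∨ y = tv * O12.tz ∨ ∃ s, s * x * s⁻¹ = y) : IsConj (φ tw) (φ x) := by
  obtain ⟨g, y, hy, e⟩ := transfer hG rfl h.inj hm (n := 1) le_rfl (fun y hy => by
    have h1 := orderOf_pos y
    have h2 : orderOf y ≠ 1 := fun e => hy (by rw [orderOf_eq_one_iff.1 e]; exact hm.1.1)
    simp only [Nat.sub_self, pow_zero]
    omega) (x := tw) (two_of (by decide +kernel) (by decide +kernel))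
  have c : IsConj (φ tw) (φ y) := cj_of g e.symm
  rcases hi y hy (h.inj (by rw [map_mul, e, map_one]; exact cj_sq' h.tt g)) with rfl | rfl | rfl | rfl | ⟨s, rfl⟩
  · exact absurd c (h.ntV h.cz (Or.inl (map_one φ)))
  · exact absurd c (h.ntV h.cz (Or.inr (Or.inl rfl)))
  · exact absurd c (h.ntV h.cz (Or.inr (Or.inr (Or.inl rfl))))
  · exact absurd c (h.ntV h.cz (Or.inr (Or.inr (Or.inr (map_mul φ _ _)))))
  · exact c.trans (CM.cj s x).symm

theorem omega (hG : Nat.card G = 95040) (h : L3 φ f) (s : G) (hs : s * φ O12.tz = φ O12.tz * s ∧ IsConj (φ tw) s) :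
    ∃ y ∈ W12, φ y = s := by
  have c1 := h.tr hG t_M1 t_i1
  have c2 := h.tr hG t_M2 t_i2
  refine of_card_le (P := fun s => ∃ y ∈ W12, φ y = s) (Q := fun s => s * φ O12.tz = φ O12.tz * s ∧ IsConj (φ tw) s)
    ?_ ?_ s hs
  · rintro _ ⟨y, hy, rfl⟩
    refine ⟨by rw [← map_mul, t_z, map_mul], ?_⟩
    obtain ⟨s, rfl | rfl | rfl⟩ := t_W y hy
    exacts [CM.cj s _, c1.trans (CM.cj s _), c2.trans (CM.cj s _)]
  rw [El.card_sub (Q := fun s => ∃ y ∈ W12, φ y = s) h.inj (fun g ⟨y, _, e⟩ => ⟨y, e⟩) (fun y => y ∈ W12)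
    (fun x => ⟨fun ⟨y, hy, e⟩ => h.inj e ▸ hy, fun hx => ⟨x, hx, rfl⟩⟩), t_W2.1]
  let t' : centralizer ({φ O12.tz} : Set G) := ⟨φ tw, mem_cent.2 h.tz⟩
  have i1 := card_inf_mul_relIndex (centralizer ({φ tw} : Set G)) (centralizer ({φ O12.tz} : Set G))
  have i2 := Char.card_isConj t'
  rw [show centralizer ({t'} : Set _) = (centralizer ({φ tw} : Set G)).subgroupOf _ from Subgroup.ext fun g => by
    rw [mem_subgroupOf, mem_cent, mem_cent, Subtype.ext_iff]; rfl] at i2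
  rw [h.card, h.cz] at i1
  rw [show 12 = Nat.card {x // IsConj t' x} by rw [i2]; change _ = relIndex _ _; omega]
  refine Nat.card_le_card_of_injective (fun s => ⟨⟨s.1, mem_cent.2 s.2.1⟩, ?_⟩) fun a b e =>
    Subtype.ext (congrArg (fun x => x.1.1) e)
  obtain ⟨s, s1, s2⟩ := s
  obtain ⟨k, hk⟩ := isConj_iff.1 s2.symm
  obtain ⟨k', k1, k2⟩ := h.inv _ (hk ▸ (cj_comm s1 k).symm) (cj_sq' h.zz k)
  rw [show k' * (k * φ O12.tz * k⁻¹) * k'⁻¹ = k' * k * φ O12.tz * (k' * k)⁻¹ by group] at k2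
  have n1 : ¬ IsConj (φ tw) (k' * k * φ O12.tz * (k' * k)⁻¹) := fun c =>
    h.ntV h.cz (Or.inr (Or.inl rfl)) (c.trans (cj_of _ rfl).symm)
  simp only [List.mem_cons, List.not_mem_nil, or_false] at k2
  rcases k2 with e | e | e | e | e | e
  · exact absurd (conj_eq_one_iff.1 e) h.z1
  · exact absurd (e ▸ IsConj.refl _) n1
  · refine (cj_of (⟨k' * k, mem_cent.2 (comm_of_cj e)⟩ : centralizer ({φ O12.tz} : Set G)) (Subtype.ext ?_)).symm
    change k' * k * s * (k' * k)⁻¹ = φ tw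
    rw [show k' * k * s * (k' * k)⁻¹ = k' * (k * s * k⁻¹) * k'⁻¹ by group, hk, cj_fix k1]
  · exact absurd (e ▸ cj_of (φ ta) (mdl h.inj)) n1
  · exact absurd (e ▸ c1) n1
  · exact absurd (by rw [e, ← map_mul]; exact c2) n1

theorem exists_x (hG : Nat.card G = 95040) (h : L3 φ f) : ∃ x : G, x * x * x = 1 ∧ x * φ O12.tz = φ O12.tz * x ∧
    φ (O12.tu * tv) = x * φ ta * x⁻¹ ∧ φ (tw * tv * ta⁻¹) = x * φ tv * x⁻¹ ∧ φ O12.tu = x * φ tw * x⁻¹ ∧
    φ (O12.tu * tw) = x * φ O12.tu * x⁻¹ := by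
  have := Fact.mk Nat.prime_three
  obtain ⟨⟨x, xz⟩, hx⟩ := exists_prime_orderOf_dvd_card' (G := centralizer ({φ O12.tz} : Set G)) 3
    (by rw [h.cz]; norm_num)
  rw [← orderOf_coe] at hx
  dsimp only at hx
  have x3 : x * x * x = 1 := by rw [← pow_three', ← hx, pow_orderOf_eq_one]
  have fz := cj_fix (mem_cent.1 xz)
  have W : ∀ y ∈ W12, ∃ y' ∈ W12, φ y' = x * φ y * x⁻¹ := fun y hy => h.omega hG _ ⟨by
    have := cj_comm (show φ y * φ O12.tz = φ O12.tz * φ y by rw [← map_mul, t_z, map_mul]) x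
    rwa [fz] at this, by
    refine IsConj.trans ?_ (cj_of x rfl)
    obtain ⟨s, rfl | rfl | rfl⟩ := t_W y hy
    exacts [CM.cj s _, (h.tr hG t_M1 t_i1).trans (CM.cj s _), (h.tr hG t_M2 t_i2).trans (CM.cj s _)]⟩
  obtain ⟨-, m1, m2, m3, m4⟩ := t_W2
  obtain ⟨w1, hw, ew⟩ := W _ m1
  obtain ⟨u1, hu, eu⟩ := W _ m2
  obtain ⟨p1, hp, ep⟩ := W _ m3
  obtain ⟨q1, hq, eq⟩ := W _ m4
  have ea : φ (u1 * q1) = x * φ ta * x⁻¹ := by rw [map_mul, eu, eq, ← cj_mul]; congr 2; exact mdl h.inj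
  have ev : φ (w1 * p1) = x * φ tv * x⁻¹ := by rw [map_mul, ew, ep, ← cj_mul]; congr 2; exact mdl h.inj
  have A := fun y => act (y := y) ea ev ew eu
  have B : ∀ y ∈ W12, Bf (u1 * q1) (w1 * p1) w1 u1 y ∈ W12 := fun y hy => by
    obtain ⟨y', hy', e⟩ := W y hy
    rwa [← h.inj (e.trans (A y (t_Q.1 y hy)))]
  obtain ⟨s, s1, s2, s3, s4⟩ := t_main w1 hw (fun e => by
      have := Subgroup.orderOf_dvd_natCard (centralizer ({φ tw} : Set G) ⊓ centralizer ({φ O12.tz} : Set G))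
        ⟨mem_cent.2 (comm_of_cj (ew.symm.trans (congrArg φ e))), xz⟩
      rw [hx, h.card] at this
      norm_num at this) u1 hu (h.inj (by rw [map_mul, map_mul, ew, eu]; exact cj_comm h.tu x)) p1 hp (h.inj (by
      rw [map_mul, map_mul, map_mul _ _ O12.tz, ev, eu, ← fz, ← cj_mul, ← cj_mul, ← cj_mul]; congr 2; exact mdl h.inj))
    q1 hq (h.inj (by rw [map_mul, ea, ← fz, ← cj_mul]; congr 2; exact mdl h.inj)) B fun y hy => h.inj (by
      rw [← A _ (t_Q.1 _ (B _ (B _ hy))), ← A _ (t_Q.1 _ (B _ hy)), ← A _ (t_Q.1 _ hy),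
        show x * (x * (x * φ y * x⁻¹) * x⁻¹) * x⁻¹ = x * x * x * φ y * (x * x * x)⁻¹ by group, x3]; group)
  have C : ∀ g ∈ [ta, tw, O12.tu, tv], ∀ g', Bf (u1 * q1) (w1 * p1) w1 u1 (s * g * s⁻¹) = s * g' * s⁻¹ →
      φ g' = (φ s)⁻¹ * x * φ s * φ g * ((φ s)⁻¹ * x * φ s)⁻¹ := fun g hg g' e => by
    have := A _ (t_Q.2 g hg s)
    rw [e] at this
    simp only [map_mul, map_inv] at this
    calc _ = (φ s)⁻¹ * (φ s * φ g' * (φ s)⁻¹) * φ s := by group
      _ = _ := by rw [← this]; group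
  refine ⟨(φ s)⁻¹ * x * φ s, ?_, ?_, C _ (by simp) _ s3, C _ (by simp) _ s4, C _ (by simp) _ s1, C _ (by simp) _ s2⟩
  · rw [show (φ s)⁻¹ * x * φ s * ((φ s)⁻¹ * x * φ s) * ((φ s)⁻¹ * x * φ s) = (φ s)⁻¹ * (x * x * x) * φ s by group, x3]
    group
  · have : Commute (φ s) (φ O12.tz) := by rw [Commute, SemiconjBy, ← map_mul, t_z, map_mul]
    exact (this.inv_left.mul_left (mem_cent.1 xz)).mul_left this

theorem iso (hG : Nat.card G = 95040) (h : L3 φ f) : Nonempty (G ≃* Spor.M12) := by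
  obtain ⟨x, x3, xz, ea, ev, ew, eu⟩ := h.exists_x hG
  have A := fun y => act (y := y) ea ev ew eu
  have B : ∀ g ∈ [ta, tv, tw, O12.tu], φ (tw * tb⁻¹) * x * (φ (tw * tb⁻¹) * x) * φ g =
      φ g * (φ (tw * tb⁻¹) * x * (φ (tw * tb⁻¹) * x)) := fun g hg => comm_of_cj (by
    obtain ⟨a, b, c⟩ := t_tau g hg
    have := A _ b
    rw [map_mul, map_mul, map_inv, ← A g a] at this
    have c' := congrArg φ c
    rw [map_mul, map_mul, map_inv, ← this] at c'
    generalize φ (tw * tb⁻¹) = τ at c' ⊢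
    nth_rw 2 [← c']; group)
  have yz : Commute (φ (tw * tb⁻¹) * x) (φ O12.tz) :=
    (show Commute (φ (tw * tb⁻¹)) (φ O12.tz) by rw [Commute, SemiconjBy, ← map_mul, t_z, map_mul]).mul_left xz
  have yy : φ (tw * tb⁻¹) * x * (φ (tw * tb⁻¹) * x) = 1 := by
    have Ba := B ta (by simp)
    rcases h.cen (B tw (by simp)) (yz.mul_left yz) (B O12.tu (by simp)) (B tv (by simp)) with e | e | e | e
    · exact e
    · rw [e] at Ba; exact absurd Ba (mdl h.inj)
    · exfalso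
      have h1 : φ (tw * tb⁻¹) * x * (φ (tw * tb⁻¹))⁻¹ = φ O12.tz * x⁻¹ := by
        rw [← e, show (φ (tw * tb⁻¹))⁻¹ = φ (tw * tb⁻¹) from mdl h.inj]; group
      have h2 : (φ O12.tz * x⁻¹) ^ 3 = 1 := by rw [← h1, conj_pow, pow_three', x3]; group
      rw [(show Commute x (φ O12.tz) from xz).symm.inv_right.mul_pow, inv_pow, pow_three' x, x3, pow_three', h.zz] at h2
      exact h.z1 (by simpa using h2)
    · rw [e] at Ba; exact absurd Ba (mdl h.inj)
  obtain ⟨-, -, -, -, lz, lv⟩ := t_l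
  obtain ⟨ψ, h1, -⟩ := El.exists_hom (D := DL)
    (c := fun n => [φ ta, (φ ta)⁻¹, φ tb, (φ tb)⁻¹, φ tw, φ O12.tu, x, x⁻¹].getD n 1) fun w hw => by
    change w ∈ RDL at hw
    simp only [RDL, List.mem_cons, List.not_mem_nil, or_false] at hw
    rcases hw with rfl | rfl | rfl | rfl | rfl | rfl | rfl | rfl | rfl | rfl | rfl | rfl | rfl | rfl | rfl | rfl |
      rfl | rfl | rfl | rfl | rfl | rfl <;>
      simp only [ev_cons, ev_nil, List.getD_cons_succ, List.getD_cons_zero, mul_one]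
    iterate 14 exact mdl h.inj
    · group
    · group
    · rw [← mul_assoc, x3]
    · rw [← mul_assoc, ← mul_assoc, ← ea]; exact mdl h.inj
    · rw [← mul_assoc, ← mul_assoc, ← ew]; exact mdl h.inj
    · rw [← mul_assoc, ← mul_assoc, ← eu]; exact mdl h.inj
    · rw [← mul_assoc (φ tb), ← map_mul, ← lv, ← mul_assoc, ← mul_assoc, ← ev]; exact mdl h.inj
    · rw [← yy]; simp only [map_mul, map_inv, mul_assoc]
  have e0 : ψ ma = φ ta := l_eq.1 ▸ h1 0 (by decide)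
  have ez : ψ mz = φ O12.tz := by rw [z_eq.1, lz, map_mul, map_mul, e0]
  have inj : Function.Injective ψ := inj_of_z (ez ▸ h.z1)
  have hr : ψ.range = centralizer {ψ mz} := eq_of_le_of_card_ge (by
    rintro _ ⟨g, rfl⟩
    exact mem_cent.2 (by rw [← map_mul, f_z, map_mul])) (by rw [ez, h.cz, El.card_range inj]; rfl)
  exact main_simple (φ := ψ) ⟨inj, fun g => by rw [← mem_cent, ← hr]; rfl⟩

end L3

theorem equiv_M12 (hG : Nat.card G = 95040) : Nonempty (G ≃* Spor.M12) := by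
  obtain ⟨φ, f, h⟩ := (loc hG).exists_L3
  exact h.iso hG

end Cfsg.Agent.O12
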