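import Mathlib
import Cfsg.Agent.Perm.SieveChk

/-! The sieve for orders of simple groups, keeping track of the centraliser. -/

set_option autoImplicit false

open Subgroup Function Finset
open Cfsg.Agent.Char Cfsg.Agent.Block Cfsg.Agent.Perm Cfsg.Agent.Perm.Sieve

namespace Cfsg.Agent.O12

variable {G : Type*} [Group G] [Finite G] [IsSimpleGroup G] (hG : ¬ IsMulCommutative G)
include hG

theorem exists_numData' {p : ℕ} (hp : p.Prime) (hd : p ∣ Nat.card G) (hsq : ¬ p ^ 2 ∣ Nat.card G) :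
    ∃ d e c L w, (∀ r : ℕ, r.Prime → r ≠ p → (r ∣ c ↔ ∃ g : G, p ∣ orderOf g ∧ r ∣ orderOf g)) ∧
      SylNum (Nat.card G) p d e c ∧ NumData (Nat.card G) p e c L w := by
  classical
  obtain ⟨d, e, c, hS, hc, hB⟩ := exists_brData hG hp hd hsq
  obtain ⟨M, hM⟩ := exists_isPModular hp
  obtain ⟨X, Y, ζ, a, h⟩ := hB M hM
  have hζ : ζ ∉ X := fun h1 => disjoint_left.mp h.disj h1 h.memY
  let s : IrrCharacter G → ℤ := fun χ => a χ * charDegree χ.1
  have hZ : s ζ ::ₘ X.val.map s = (X.cons ζ hζ).val.map s := by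
    rw [cons_val, Multiset.map_cons]
  have hs : ∀ χ ∈ X.cons ζ hζ, (s χ).natAbs = charDegree χ.1 ∧ χ ∈ principalBlock M G ∧
      χ ≠ oneIrr G := fun χ hχ => by
    rcases mem_cons.mp hχ with rfl | hχ
    · exact ⟨natAbs_sign_mul h.signY _, (h.mem _).mpr (Or.inr (Or.inr h.memY)),
        fun e => h.oneY (e ▸ h.memY)⟩
    · exact ⟨natAbs_sign_mul (h.signX χ hχ) _, (h.mem _).mpr (Or.inr (Or.inl hχ)),
        fun e => h.oneX (e ▸ hχ)⟩
  have hY : (p - 1) / e = Y.card := by
    rw [← h.cardY, Nat.add_sub_cancel, Nat.mul_div_cancel _ (by have := hS.lt; omega)]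
  refine ⟨d, e, c, X.val.map s, s ζ, hc, hS, by simpa using h.cardX, ?_,
    (eq_neg_of_add_eq_zero_right (h.rel_one hp)), ?_, ?_, fun r hr hrn hrp hrc => ?_, ?_⟩
  · intro y hy
    obtain ⟨χ, hχ, rfl⟩ := Multiset.mem_map.mp hy
    exact h.degX χ hχ
  · intro y hy
    obtain ⟨χ, hχ, rfl⟩ := Multiset.mem_map.mp (hZ ▸ hy)
    obtain ⟨h1, h2, h3⟩ := hs χ hχ
    rw [h1]
    exact ⟨two_le_degree hG h3, isIrr_degree_dvd_card χ.2 (irr_degree_cast χ).symm,
      h.lo χ h2 h3, h.def0 χ h2⟩
  · have h1 : ∑ χ : IrrCharacter G, charDegree χ.1 ^ 2 = Nat.card G := by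
      have := sum_irr_one_sq (G := G)
      simp_rw [← irr_degree_cast] at this
      exact_mod_cast this
    have h2 := sum_le_sum_of_subset (f := fun χ : IrrCharacter G => charDegree χ.1 ^ 2)
      (subset_univ (insert (oneIrr G) (X ∪ Y)))
    rw [sum_insert (by simp [h.oneX, h.oneY]), sum_union h.disj, h1, sum_congr rfl fun χ hχ =>
      congrArg (· ^ 2) (h.degY hp hχ), sum_const, coe_oneIrr, charDegree_one_fun] at h2
    rw [hY, (hs ζ (mem_cons_self _ _)).1, Multiset.map_map, Multiset.map_congr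
      (f := _ ∘ s) rfl fun χ hχ => congrArg (· ^ 2) (hs χ (mem_cons_of_mem hχ)).1]
    exact lt_of_lt_of_le (Nat.lt_one_add_iff.mpr le_rfl) h2
  · obtain ⟨M', hM'⟩ := exists_isPModular hr
    have h1 : oneIrr G ∉ X.cons ζ hζ := fun h1 => (hs _ h1).2.2 rfl
    have h2 := dvd_sum_principal hM' ((X.cons ζ hζ).cons _ h1) (update a (oneIrr G) 1)
      fun g hg => by
        rw [sum_cons, sum_congr rfl fun χ hχ => by rw [update_of_ne (hs χ hχ).2.2], sum_cons,
          ← h.rel g fun h => hrc ((hc r hr hrp).mpr ⟨g, h, hg⟩)]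
        simp [add_comm, add_left_comm]
    rw [filter_cons, if_pos (oneIrr_mem_principalBlock hM'), sum_cons, update_self, coe_oneIrr,
      charDegree_one_fun, sum_congr rfl fun χ hχ => by
        rw [update_of_ne (hs χ (mem_filter.mp hχ).1).2.2]] at h2
    refine ⟨((X.cons ζ hζ).filter (· ∈ principalBlock M' G)).val.map s, hZ ▸ Multiset.map_le_map
      (Multiset.filter_le _ _), h2, fun y hy => ?_, fun hr2 => ?_⟩
    · obtain ⟨χ, hχ, rfl⟩ := Multiset.mem_map.mp hy
      obtain ⟨h3, h4⟩ := mem_filter.mp hχ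
      rw [(hs χ h3).1]
      refine ⟨fun h5 => (hs χ h3).2.2 ?_, fun k hk => (hs χ h3).2.2
        (eq_one_of_degree_pow hG hM' h4 hk)⟩
      have := blockOf_eq_singleton hM' ((hr.pow_dvd_iff_le_factorization
        (irr_degree_ne_zero χ)).mp h5)
      rw [← block_eq_blockOf hM' isPBlock_principalBlock h4] at this
      exact (this ▸ oneIrr_mem_principalBlock hM' : oneIrr G ∈ ({χ} : Set _)).symm
    · obtain ⟨d', e', c', hS', hc', hB'⟩ := exists_brData hG hr hrn hr2
      obtain ⟨X', Y', ζ', a', h'⟩ := hB' M' hM'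
      refine ⟨d', e', c', hS', fun h3 => ?_, fun y hy => ?_⟩
      · obtain ⟨g, h4, h5⟩ := (hc' p hp hrp.symm).mp h3
        exact hrc ((hc r hr hrp).mpr ⟨g, h5, h4⟩)
      · obtain ⟨χ, hχ, rfl⟩ := Multiset.mem_map.mp hy
        obtain ⟨h3, h4⟩ := mem_filter.mp hχ
        rw [(hs χ h3).1]
        have := Nat.le_of_dvd (by have := hr.two_le; omega) hS'.dvd
        exact h'.degOK hr (by have := hr.pos; omega) h4 (hs χ h3).2.2
  · intro x hx r hr m hm hm0
    have := Fact.mk hr
    obtain ⟨R⟩ : Nonempty (Sylow r G) := inferInstance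
    let T := univ.filter fun χ : IrrCharacter G => χ ∈ principalBlock M G ∧ charDegree χ.1 = x
    have hT : T.card = m := by
      have h1 : T = X.filter (fun χ => charDegree χ.1 = x) ∪ Y.filter (charDegree ·.1 = x) := by
        ext χ
        simp only [T, mem_filter, mem_univ, true_and, h.mem, mem_union, or_and_right]
        exact or_iff_right fun ⟨h1, h2⟩ => by
          rw [h1, coe_oneIrr, charDegree_one_fun] at h2; omega
      rw [h1, card_union_of_disjoint (disjoint_filter_filter h.disj), hm, Multiset.filter_map,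
        Multiset.card_map, hY, (hs ζ (mem_cons_self _ _)).1, filter_congr (s := Y) fun χ hχ => by
          rw [h.degY hp hχ], filter_const]
      congr 1
      · exact congrArg Multiset.card (Multiset.filter_congr fun χ hχ => by
          rw [comp_apply, (hs χ (mem_cons_of_mem hχ)).1])
      · split_ifs <;> rfl
    have hψ := isChar_sum T fun χ _ => irr_isChar χ
    rw [← R.card_eq_multiplicity]
    refine schur_dvd hψ ?_ hr R.isPGroup' (fun g _ hg => ?_) fun g _ =>
      GaloisAut.exists_int_of_forall_aut (isChar_isIntegral hψ g) fun σ => ?_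
    · rw [Finset.sum_apply, sum_congr rfl fun χ hχ => (irr_degree_cast χ).symm.trans
        (congrArg _ (mem_filter.mp hχ).2.2), sum_const, hT, nsmul_eq_mul, Nat.cast_mul]
    · obtain ⟨χ, hχ⟩ := card_pos.mp (hT ▸ Nat.pos_of_ne_zero hm0)
      rw [← add_sum_erase _ _ hχ] at hg
      have := ((isChar_add_eq_one_iff (irr_isChar χ) (isChar_sum _ fun χ _ => irr_isChar χ)
        g).mp hg).1
      refine (charKer_eq_bot_of_simple χ.2 fun e => ?_).le ((mem_charKer_iff (irr_isChar χ)).mpr this)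
      have := (mem_filter.mp hχ).2.2
      rw [e, charDegree_one_fun] at this
      omega
    · obtain ⟨k, hk, hσ⟩ := Galois.exists_pow_forall (G := G) σ.toRingHom
      refine (hσ _ (isChar_isGenChar hψ) g).trans ?_
      let f : IrrCharacter G → IrrCharacter G := fun χ => ⟨_, Galois.isIrr_pow_arg χ.2 hk⟩
      have hf : Injective f := fun χ ψ e => Subtype.ext (funext fun g => by
        obtain ⟨g, rfl⟩ := (powCoprime hk.symm).surjective g
        exact congrFun (congrArg Subtype.val e) g)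
      have h1 : T.image f = T := eq_of_subset_of_card_le (image_subset_iff.mpr fun χ hχ =>
        mem_filter.mpr ⟨mem_univ _, pow_mem_principal hM (mem_filter.mp hχ).2.1 hk, by
          simpa [f, charDegree] using (mem_filter.mp hχ).2.2⟩) (card_image_of_injective _ hf).ge
      conv_rhs => rw [← h1, sum_image hf.injOn]
      simp [Finset.sum_apply, f]

theorem surv {n p s c0 : ℕ} (hn : Nat.card G = n) (hp : p.Prime) (h1 : p ∣ n) (h2 : ¬ p ^ 2 ∣ n) (h3 : n < s * s)
    (h30 : n < 2 ^ 30) (h4 : ((cands n p).all fun ec => ec.2 == c0 ||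
      go (fin n p ec.1 ec.2) (degList n p ec.2 s) (ec.1 - 1) n []) = true) :
    ∀ r : ℕ, r.Prime → r ≠ p → (r ∣ c0 ↔ ∃ g : G, p ∣ orderOf g ∧ r ∣ orderOf g) := by
  subst hn
  obtain ⟨d, e, c, L, w, hc, hS, h⟩ := exists_numData' hG hp h1 h2
  have h0 : Nat.card G ≠ 0 := Nat.card_pos.ne'
  have h5 := (Nat.le_add_right _ _).trans h.sq.le
  have h8 := List.all_eq_true.1 h4 _ (mem_cands hp h0 hS)
  rw [Bool.or_eq_true, beq_iff_eq] at h8
  rcases h8 with h8 | h8
  · exact h8 ▸ hc
  obtain ⟨l, h6, h7⟩ := go_sound _ _ _ _ _ L h8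
    (fun y hy => mem_degList h h0 h30 h3 hy) (by rw [← h.card]; rfl) h5
  rw [Multiset.coe_nil, add_zero] at h6
  exact (fin_eq_false (h6 ▸ h) h0 h30 h7).elim

theorem surv_15840 (hn : Nat.card G = 15840) :
    ∀ r : ℕ, r.Prime → r ≠ 11 → (r ∣ 1 ↔ ∃ g : G, 11 ∣ orderOf g ∧ r ∣ orderOf g) :=
  surv (s := 320) hG hn (by norm_num) (by norm_num) (by norm_num) (by norm_num) (by norm_num) (by decide +kernel)

theorem surv_47520 (hn : Nat.card G = 47520) :
    ∀ r : ℕ, r.Prime → r ≠ 11 → (r ∣ 3 ↔ ∃ g : G, 11 ∣ orderOf g ∧ r ∣ orderOf g) :=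
  surv (s := 320) hG hn (by norm_num) (by norm_num) (by norm_num) (by norm_num) (by norm_num) (by decide +kernel)

end Cfsg.Agent.O12
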