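import Mathlib
import Cfsg.Agent.O12.S0
import Cfsg.Agent.O12.C
import Cfsg.Agent.Block.SelfC

/-!
Simple groups of order dividing `95040` and divisible by `11`.
-/

set_option autoImplicit false
set_option linter.unusedSectionVars false
set_option linter.style.haveILetI false

namespace Cfsg.Agent.O12

open Cfsg.Agent.Core Cfsg.Agent.Char Cfsg.Agent.Block Cfsg.Agent.Gl23 Subgroup MulAction

variable {G : Type*} [Group G] [Finite G]

theorem nine_dvd' (hG : 9 ∣ Nat.card G) {y : G} (hy : orderOf y = 3) :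
    9 ∣ Nat.card (centralizer ({y} : Set G)) := by
  have := Fact.mk Nat.prime_three
  have h3 : IsPGroup 3 (zpowers y) := IsPGroup.of_card (n := 1) (by rw [Nat.card_zpowers, hy, pow_one])
  obtain ⟨S, hS, h1⟩ := exists_isSylowOf_ge h3 (show zpowers y ≤ centralizer ({y} : Set G) from
    zpowers_le.2 (mem_centralizer_singleton_iff.2 rfl))
  by_contra h
  have h2 : zpowers y = S := by
    refine eq_of_le_of_card_ge h1 ?_
    rw [hS.card_eq_pow, Nat.card_zpowers, hy]
    have : (Nat.card (centralizer ({y} : Set G))).factorization 3 < 2 := by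
      by_contra! h4
      exact h ((Nat.prime_three.pow_dvd_iff_le_factorization Nat.card_pos.ne').2 h4)
    exact (Nat.pow_le_pow_right (by norm_num) (Nat.lt_succ_iff.1 this)).trans (by norm_num)
  obtain ⟨T, hT, h4⟩ := exists_isSylowOf_ge h3 le_top
  have h5 : 9 ∣ Nat.card T := by
    rw [hT.card_eq_pow, card_top]
    exact pow_dvd_pow 3 ((Nat.prime_three.pow_dvd_iff_le_factorization (k := 2) Nat.card_pos.ne').1 hG)
  have := (Subgroup.nontrivial_iff_ne_bot T).2 (fun h => by simp [h] at h5)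
  have hZ : (center T).map T.subtype ≤ zpowers y := by
    rw [h2]
    refine hS.le_of_le_normalizer' ((hT.isPGroup.to_subgroup _).map _) ?_ ?_
    · rintro _ ⟨z, hz, rfl⟩
      exact mem_centralizer_singleton_iff.2 (congrArg Subtype.val (mem_center_iff.1 hz ⟨y, h4 (mem_zpowers y)⟩)).symm
    · rintro _ ⟨z, hz, rfl⟩
      refine centralizer_le_normalizer _ fun s hs => ?_
      exact congrArg Subtype.val (mem_center_iff.1 hz ⟨s, h4 (h2 ▸ hs)⟩)
  obtain ⟨z, hz⟩ := ne_bot_iff_exists_ne_one.1 ((center T).nontrivial_iff_ne_bot.1 hT.isPGroup.center_nontrivial)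
  have z1 : ((z : T) : G) ≠ 1 := fun e => hz (Subtype.ext (Subtype.ext e))
  have h6 := eq_zpowers_of_card_prime Nat.prime_three (by rw [Nat.card_zpowers, hy]) (hZ ⟨z, z.2, rfl⟩) z1
  have h7 : T ≤ centralizer ({y} : Set G) := fun s hs => by
    obtain ⟨k, hk⟩ : y ∈ zpowers ((z : T) : G) := h6 ▸ mem_zpowers y
    have : Commute s ((z : T) : G) := congrArg Subtype.val (mem_center_iff.1 z.2 ⟨s, hs⟩)
    exact mem_centralizer_singleton_iff.2 (hk ▸ (this.zpow_right k).eq)
  exact h (h5.trans (card_dvd_of_le h7))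

theorem fx_lower [Fintype G] {p : ℕ} {P : Subgroup G} (h : SC p P) {u : G} (hN : u ∈ normalizer (P : Set G))
    (hu : u ∉ P) (u2 : u * u = 1) {χ : G → ℂ} (hχ : IsCharacter G χ) {w : ℤ} (hw : χ u = w) :
    0 ≤ (fx P χ : ℤ) + w := by
  classical
  have u1 : u⁻¹ = u := inv_eq_of_mul_eq_one_right u2
  have hc : ∀ a ∈ P, u * a * u ∈ P := fun a ha => by
    have := (mem_normalizer_iff.1 hN a).1 ha
    rwa [u1] at this
  let D : Subgroup G :=
    { carrier := {d | d ∈ P ∨ d * u ∈ P}
      one_mem' := Or.inl (one_mem _)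
      mul_mem' := by
        rintro a b (ha | ha) (hb | hb)
        · exact Or.inl (mul_mem ha hb)
        · exact Or.inr (mul_assoc a b u ▸ mul_mem ha hb)
        · refine Or.inr ?_
          have := mul_mem ha (hc b hb)
          rwa [show a * u * (u * b * u) = a * (u * u) * b * u by group, u2, mul_one] at this
        · refine Or.inl ?_
          have := mul_mem ha (hc _ hb)
          rwa [show a * u * (u * (b * u) * u) = a * (u * u) * b * (u * u) by group, u2, mul_one, mul_one] at this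
      inv_mem' := by
        rintro a (ha | ha)
        · exact Or.inl (inv_mem ha)
        · refine Or.inr ?_
          have := hc _ (inv_mem ha)
          rwa [mul_inv_rev, u1, ← mul_assoc, u2, one_mul] at this }
  obtain ⟨n, hn⟩ := exists_sum_eq (isChar_res D hχ)
  let f : P ⊕ P → D := Sum.elim (fun x => ⟨x, Or.inl x.2⟩) fun x => ⟨x * u, Or.inr (by
    rw [mul_assoc, u2, mul_one]; exact x.2)⟩
  have hf : Function.Bijective f := by
    constructor
    · rintro (a | a) (b | b) e
      · exact congrArg _ (Subtype.ext (congrArg Subtype.val e :))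
      · have e' : (a : G) = b * u := congrArg Subtype.val e
        exact absurd ((mul_mem_cancel_left b.2).1 (e' ▸ a.2)) hu
      · have e' : (a : G) * u = b := congrArg Subtype.val e
        exact absurd ((mul_mem_cancel_left a.2).1 (e' ▸ b.2)) hu
      · have e' : (a : G) * u = b * u := congrArg Subtype.val e
        exact congrArg _ (Subtype.ext (mul_right_cancel e'))
    · rintro ⟨d, hd | hd⟩
      · exact ⟨Sum.inl ⟨d, hd⟩, rfl⟩
      · exact ⟨Sum.inr ⟨d * u, hd⟩, Subtype.ext (show d * u * u = d by rw [mul_assoc, u2, mul_one])⟩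
  rw [← hf.sum_comp, Fintype.sum_sum_type] at hn
  simp only [f, Sum.elim_inl, Sum.elim_inr] at hn
  rw [← card_mul_fx hχ, Finset.sum_congr rfl fun x _ => h.apply_mul (isChar_classFun hχ) hN hu x.2, hw,
    Finset.sum_const, Finset.card_univ, ← Nat.card_eq_fintype_card, nsmul_eq_mul] at hn
  have h1 : (Nat.card P : ℤ) * (fx P χ + w) = Nat.card D * n := by
    apply Int.cast_injective (α := ℂ)
    push_cast
    linear_combination hn
  have h2 : (0 : ℤ) < Nat.card P := by exact_mod_cast Nat.card_pos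
  exact (mul_nonneg_iff_of_pos_left h2).1 (by rw [h1]; positivity)

theorem num_47520 : ∀ n ∈ D8640, n % 11 = 1 % 11 → ∀ c ∈ D8640, ¬ 2 ∣ c → ¬ 5 ∣ c → 3 ∣ c → ∀ e ∈ [1, 2, 5, 10],
    11 * c * e * n = 47520 → n = 144 ∧ c = 3 ∧ e = 10 := by decide +kernel

theorem num_15840 : ∀ d ∈ D8640, d ∣ 1440 → d * d ≤ 15840 → ∀ s ∈ [(1 : ℤ), -1], (11 : ℤ) ∣ s * d - 1 →
    d = 1 ∨ s = -1 ∧ (d = 10 ∨ d = 32 ∨ d = 120) ∨ s = 1 ∧ (d = 12 ∨ d = 45) := by decide +kernel

variable [IsSimpleGroup G]

theorem card_ne_47520 : Nat.card G ≠ 47520 := fun hG => by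
  classical
  have := Fintype.ofFinite G
  have hp : Nat.Prime 11 := by norm_num
  have := Fact.mk hp
  have hs := surv_47520 (Perm.not_comm_of_not_prime (by rw [hG]; norm_num)) hG
  obtain ⟨x, hx⟩ := exists_prime_orderOf_dvd_card' (G := G) 11 (by rw [hG]; norm_num)
  obtain ⟨hS, h1, h2⟩ := sylow_data (m := 4320) hp hG (by norm_num) hx
  have h3 := (normalizer ((zpowers x : Subgroup G) : Set G)).card_mul_index
  have h4 := card_mul_relIndex (centralizer_le_normalizer ((zpowers x : Subgroup G) : Set G))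
  have h5 := relIndex_dvd hp hx
  have hC : ∀ y ∈ centralizer ((zpowers x : Subgroup G) : Set G), x * y = y * x := fun y hy => hy x (mem_zpowers x)
  have hx' : zpowers x ≤ centralizer ((zpowers x : Subgroup G) : Set G) := by
    rintro _ ⟨j, rfl⟩ _ ⟨k, rfl⟩
    exact (Commute.zpow_zpow_self x k j).eq
  obtain ⟨c, hc⟩ : 11 ∣ Nat.card (centralizer ((zpowers x : Subgroup G) : Set G)) := by
    simpa only [Nat.card_zpowers, hx] using card_dvd_of_le hx'
  have hy : ∀ r : ℕ, r.Prime → r ∣ c → ∃ y ∈ centralizer ((zpowers x : Subgroup G) : Set G), orderOf y = r :=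
    fun r hr hd => by
      have := Fact.mk hr
      obtain ⟨y, hy⟩ := exists_prime_orderOf_dvd_card' r (hc ▸ hd.mul_left 11)
      exact ⟨y, y.2, by rw [orderOf_coe, hy]⟩
  have hr : ∀ r : ℕ, r.Prime → r ≠ 11 → r ∣ c → r ∣ 3 := fun r hr h11 hd => by
    obtain ⟨y, hy, hy'⟩ := hy r hr hd
    have := (show Commute x y from hC y hy).orderOf_mul_eq_mul_orderOf_of_coprime
      (by rw [hx, hy']; exact (Nat.coprime_primes hp hr).2 h11.symm)
    rw [hx, hy'] at this
    exact (hs r hr h11).2 ⟨_, this ▸ dvd_mul_right _ _, this ▸ dvd_mul_left _ _⟩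
  have h3c : 3 ∣ c := by
    obtain ⟨g, h1, h2⟩ := (hs 3 Nat.prime_three (by norm_num)).1 dvd_rfl
    obtain ⟨u, hu⟩ := (ordP_zpowers (m := 4320) hp hG (by norm_num) hx).exists_le_zpowers h1
    have h3 : zpowers (u * g * u⁻¹) ≤ centralizer ((zpowers x : Subgroup G) : Set G) :=
      zpowers_le.mpr fun v hv => by
        obtain ⟨k, rfl⟩ := hu hv
        exact (Commute.zpow_self _ k).eq
    have h4 := card_dvd_of_le h3
    rw [Nat.card_zpowers, show orderOf (u * g * u⁻¹) = orderOf g from (MulAut.conj u).orderOf_eq g, hc] at h4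
    exact (show Nat.Coprime 3 11 by norm_num).dvd_of_dvd_mul_left (h2.trans h4)
  set N := normalizer ((zpowers x : Subgroup G) : Set G) with hN
  set C := centralizer ((zpowers x : Subgroup G) : Set G) with hCd
  have he : C.relIndex N ∈ [1, 2, 5, 10] := by
    have := Nat.le_of_dvd (by norm_num) h5
    generalize C.relIndex N = e at this h5
    interval_cases e <;> simp_all
  have h6 : 11 * c * C.relIndex N * N.index = 47520 := by rw [← hc, h4, h3, hG]
  obtain ⟨hn, rfl, he⟩ := num_47520 _ (mem_D8640 (h2.trans (by norm_num))) h1 c (mem_D8640 (by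
    refine Dvd.dvd.trans ⟨C.relIndex N * N.index, ?_⟩ (show 4320 ∣ 8640 by norm_num)
    nlinarith)) (fun h => absurd (hr 2 Nat.prime_two (by norm_num) h) (by norm_num))
    (fun h => absurd (hr 5 Nat.prime_five (by norm_num) h) (by norm_num)) h3c _ he h6
  obtain ⟨y, hy, hy'⟩ := hy 3 Nat.prime_three dvd_rfl
  have hxy : Commute x y := hC y hy
  have h33 : orderOf (x * y) = 33 := by
    rw [hxy.orderOf_mul_eq_mul_orderOf_of_coprime (by rw [hx, hy']; norm_num), hx, hy']
  have hZ : zpowers (x * y) = C := eq_of_le_of_card_ge (zpowers_le.2 (mul_mem (hx' (mem_zpowers x)) hy))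
    (by rw [Nat.card_zpowers, h33, hc])
  have hNK : N ≤ normalizer ((zpowers y : Subgroup G) : Set G) := fun n hn => by
    refine mem_normalizer_fintype ?_
    rintro _ ⟨j, rfl⟩
    rw [← conj_zpow]
    refine zpow_mem ?_ j
    have hy1 : n * y * n⁻¹ ∈ C := ((normal_subgroupOf_iff (centralizer_le_normalizer _)).1
      inferInstance) y n hy hn
    have hy3 : (n * y * n⁻¹) ^ 3 = 1 := by rw [conj_pow, ← hy', pow_orderOf_eq_one]; simp
    obtain ⟨k, hk⟩ := (mem_powers_iff_mem_zpowers.2 (hZ ▸ hy1) : ∃ k : ℕ, (x * y) ^ k = _)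
    dsimp only at hk
    rw [← hk, ← pow_mul, ← orderOf_dvd_iff_pow_eq_one, h33] at hy3
    rw [← hk, hxy.mul_pow, orderOf_dvd_iff_pow_eq_one.1 (show orderOf x ∣ k by rw [hx]; omega), one_mul]
    exact pow_mem (mem_zpowers y) k
  have h8 := relIndex_normalizer_mod hp (hS.of_le (le_normalizer.trans hNK) le_top)
  have h9 := relIndex_mul_index hNK
  have h10 := card_mul_relIndex hNK
  have h11 := (nine_dvd' (by rw [hG]; norm_num) hy').trans (card_dvd_of_le (show centralizer ({y} : Set G) ≤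
    normalizer ((zpowers y : Subgroup G) : Set G) from (Block.centralizer_zpowers y).ge.trans
      (centralizer_le_normalizer _)))
  have h12 := normalizer_ne_top (x := y) (fun h => by simp [h] at hy') (by omega)
  rw [← hN] at h8
  rw [hn] at h9 h3
  rcases (by decide +kernel : ∀ n ≤ 144, n % 11 = 1 → n ∣ 144 → n = 1 ∨ n = 12 ∨ n = 144) _
    (Nat.le_of_dvd (by norm_num) (Dvd.intro _ h9)) h8 (Dvd.intro _ h9) with e | e | e <;> rw [e] at h9 h10
  · omega
  · exact no_index_twelve (H := normalizer ((zpowers y : Subgroup G) : Set G)) (by omega) hx hy' hxy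
  · exact h12 (index_eq_one.1 (by omega))

theorem card_ne_15840 : Nat.card G ≠ 15840 := fun hG => by
  classical
  have := Fintype.ofFinite G
  have hp : Nat.Prime 11 := by norm_num
  have := Fact.mk hp
  have hcm := commutator_top (G := G) (by rw [hG]; norm_num)
  have hs := surv_15840 (Perm.not_comm_of_not_prime (by rw [hG]; norm_num)) hG
  obtain ⟨x, hx⟩ := exists_prime_orderOf_dvd_card' (G := G) 11 (by rw [hG]; norm_num)
  obtain ⟨hS, h1, h2⟩ := sylow_data (m := 1440) hp hG (by norm_num) hx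
  have hP := ordP_zpowers (m := 1440) hp hG (by norm_num) hx
  have h3 := (normalizer ((zpowers x : Subgroup G) : Set G)).card_mul_index
  have h4 := card_mul_relIndex (centralizer_le_normalizer ((zpowers x : Subgroup G) : Set G))
  have hx' : zpowers x ≤ centralizer ((zpowers x : Subgroup G) : Set G) := hP.ab.comm
  obtain ⟨c, hc⟩ : 11 ∣ Nat.card (centralizer ((zpowers x : Subgroup G) : Set G)) := by
    simpa only [Nat.card_zpowers, hx] using card_dvd_of_le hx'
  obtain rfl : c = 1 := by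
    by_contra c1
    obtain ⟨r, hr, hd⟩ := Nat.exists_prime_and_dvd c1
    have h11 : r ≠ 11 := by
      rintro rfl
      have := (Nat.mul_dvd_mul_left 11 hd).trans (hc ▸ card_subgroup_dvd_card _)
      rw [hG] at this
      norm_num at this
    have := Fact.mk hr
    obtain ⟨y, hy⟩ := exists_prime_orderOf_dvd_card' r (hc ▸ hd.mul_left 11)
    have := (show Commute x y from y.2 x (mem_zpowers x)).orderOf_mul_eq_mul_orderOf_of_coprime
      (by rw [hx, orderOf_coe, hy]; exact (Nat.coprime_primes hp hr).2 h11.symm)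
    rw [hx, orderOf_coe, hy] at this
    exact hr.not_dvd_one ((hs r hr h11).2 ⟨_, this ▸ dvd_mul_right _ _, this ▸ dvd_mul_left _ _⟩)
  have hSC : SC 11 (zpowers x) := ⟨hP, (eq_of_le_of_card_ge hx' (by rw [hc, Nat.card_zpowers, hx])).ge⟩
  obtain ⟨e, t, δ, X, Y, a, h⟩ := hP.exists_pW
  have he := h.he
  have hte := h.te
  rw [he, hc] at h4
  obtain ⟨rfl, rfl⟩ : e = 10 ∧ t = 1 := by
    have : e ≤ 10 := Nat.le_of_dvd (by norm_num) (he ▸ relIndex_dvd hp hx)
    rw [← h4, hG] at h3
    interval_cases e <;> omega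
  have hi : (centralizer ((zpowers x : Subgroup G) : Set G)).index = 1440 := by
    have := (centralizer ((zpowers x : Subgroup G) : Set G)).card_mul_index
    rw [hc] at this
    omega
  -- an element of order divisible by `10` in the normaliser
  obtain ⟨g, hgN, hg⟩ : ∃ g ∈ normalizer ((zpowers x : Subgroup G) : Set G), 10 ∣ orderOf g := by
    have := (isCyclic_normalizer_quot hp hP.card).1
    obtain ⟨q, hq⟩ := IsCyclic.exists_ofOrder_eq_natCard (α := normalizer ((zpowers x : Subgroup G) : Set G) ⧸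
      (centralizer ((zpowers x : Subgroup G) : Set G)).subgroupOf (normalizer ((zpowers x : Subgroup G) : Set G)))
    obtain ⟨g, rfl⟩ := QuotientGroup.mk'_surjective _ q
    refine ⟨g, g.2, ?_⟩
    rw [orderOf_coe, ← he, relIndex, index_eq_card, ← hq]
    exact orderOf_map_dvd _ _
  have o0 := (orderOf_pos g).ne'
  have hu : orderOf (g ^ (orderOf g / 2)) = 2 := orderOf_pow_orderOf_div o0 (Dvd.dvd.trans (by norm_num) hg)
  have hy : orderOf (g ^ (orderOf g / 5)) = 5 := orderOf_pow_orderOf_div o0 (Dvd.dvd.trans (by norm_num) hg)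
  have hyu : Commute (g ^ (orderOf g / 5)) (g ^ (orderOf g / 2)) := Commute.pow_pow_self _ _ _
  have huN := pow_mem hgN (orderOf g / 2)
  generalize g ^ (orderOf g / 2) = u at hu hyu huN
  generalize g ^ (orderOf g / 5) = y at hy hyu
  have u2 : u ^ 2 = 1 := hu ▸ pow_orderOf_eq_one u
  have huP : u ∉ zpowers x := fun h => by
    have := orderOf_dvd_of_mem_zpowers h
    rw [hu, hx] at this
    norm_num at this
  obtain ⟨ξ, rfl⟩ := Finset.card_eq_one.1 h.cardY
  have hξ : ξ ∉ X := fun h1 => Finset.disjoint_left.1 h.disj h1 (by simp)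
  let ε : IrrCharacter G → ℤ := Function.update a ξ (-δ)
  have hε : ∀ χ ∈ X, ε χ = a χ := fun χ hχ => Function.update_of_ne (ne_of_mem_of_not_mem hχ hξ) _ _
  have hεξ : ε ξ = -δ := Function.update_self _ _ _
  have hrel : ∀ g, ¬ 11 ∣ orderOf g → ∑ χ ∈ insert ξ X, (ε χ : ℂ) * χ.1 g = 0 := fun g hg => by
    rw [Finset.sum_insert hξ, Finset.sum_congr rfl fun χ hχ => by rw [hε χ hχ], ← h.rel ξ (by simp) g hg, hεξ]
    simp
  have hB : ∀ χ ∈ insert ξ X, (ε χ = 1 ∨ ε χ = -1) ∧ (∀ g, 11 ∣ orderOf g → χ.1 g = ε χ) ∧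
      charDegree χ.1 ∣ 1440 := fun χ hχ => by
    rcases Finset.mem_insert.1 hχ with rfl | hχ
    · refine ⟨by rcases h.sign with e | e <;> simp [hεξ, e], fun g hg => ?_, hi ▸ h.dvdY (by simp)⟩
      simpa [hεξ] using h.sumY g hg
    · exact ⟨hε χ hχ ▸ h.a_sign χ hχ, fun g hg => hε χ hχ ▸ h.valX χ hχ g hg, hi ▸ h.dvdX hχ⟩
  have hone : oneIrr G ∈ insert ξ X := by simpa [or_comm] using h.one
  have hε1 : ε (oneIrr G) = 1 := by
    have := (hB _ hone).2.1 x (hx ▸ dvd_rfl)
    rw [coe_oneIrr] at this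
    exact_mod_cast (show ((ε (oneIrr G) : ℤ) : ℂ) = 1 from this.symm)
  have hD : ∀ χ ∈ insert ξ X, (charDegree χ.1 : ℤ) = ε χ + 11 * (fx (zpowers x) χ.1 - ε χ) := fun χ hχ =>
    (hP.of_const (irr_isChar χ) fun z z1 => (hB χ hχ).2.1 _ (hP.dvd_orderOf z1)).1
  have hL : ∀ χ ∈ (insert ξ X).erase (oneIrr G), ε χ = -1 ∧ (charDegree χ.1 = 10 ∨ charDegree χ.1 = 32 ∨
      charDegree χ.1 = 120) ∨ ε χ = 1 ∧ (charDegree χ.1 = 12 ∨ charDegree χ.1 = 45) := fun χ hχ => by
    obtain ⟨n1, hχ⟩ := Finset.mem_erase.1 hχ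
    have h5 := sum_degree_sq_le {χ}
    rw [Finset.sum_singleton, hG, sq] at h5
    refine (num_15840 _ (mem_D8640 ((hB χ hχ).2.2.trans (by norm_num))) (hB χ hχ).2.2 h5 _
      (by simpa using (hB χ hχ).1) ?_).resolve_left fun e => n1 (eq_oneIrr hcm e)
    have := hD χ hχ
    rcases (hB χ hχ).1 with e | e <;> rw [e] at this ⊢ <;> omega
  obtain ⟨ψ, hψ, hψ'⟩ : ∃ ψ ∈ (insert ξ X).erase (oneIrr G), charDegree ψ.1 = 45 := by
    by_contra! h5
    have h6 := hrel 1 h.reg_one
    rw [← Finset.add_sum_erase _ _ hone, hε1, coe_oneIrr] at h6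
    simp only [← irr_degree_cast] at h6
    have h7 : (1 : ℤ) + ∑ χ ∈ (insert ξ X).erase (oneIrr G), ε χ * charDegree χ.1 = 0 := by
      apply Int.cast_injective (α := ℂ)
      simpa using h6
    have h8 : (2 : ℤ) ∣ ∑ χ ∈ (insert ξ X).erase (oneIrr G), ε χ * charDegree χ.1 :=
      Finset.dvd_sum fun χ hχ => Dvd.dvd.mul_left (by have := hL χ hχ; have := h5 χ hχ; omega) _
    omega
  have hW : ∀ χ ∈ (insert ξ X).erase (oneIrr G), ∃ w : ℕ, (ε χ : ℂ) * χ.1 u = w := fun χ hχ => by
    obtain ⟨k, -, hk⟩ := inv_val hcm (irr_isChar χ) (irr_degree_cast χ).symm u2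
    have h5 := hD χ (Finset.mem_of_mem_erase hχ)
    have h6 := fx_lower hSC huN huP (by rwa [← sq]) (irr_isChar χ) hk
    rcases hL χ hχ with ⟨e, d | d | d⟩ | ⟨e, d | d⟩
    · have h7 := hSC.apply_eq_zero (irr_isChar χ) (by omega) huN huP
      rw [hk] at h7
      have : (charDegree χ.1 - 4 * k : ℤ) = 0 := by exact_mod_cast h7
      omega
    · exact ⟨0, by
        rw [vanish_of_dvd (k := 5) Nat.prime_two (by rw [hG]; norm_num) (irr_degree_cast χ).symm (by rw [d]; norm_num)
          u (hu ▸ dvd_rfl)]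
        simp⟩
    · have h7 := sum_degree_sq_le {χ, ψ}
      rw [Finset.sum_pair (fun e => by rw [e] at d; omega), d, hψ', hG] at h7
      omega
    · exact ⟨(charDegree χ.1 - 4 * k : ℤ).toNat, by
        rw [hk, e, ← Int.cast_natCast (R := ℂ) (Int.toNat _), Int.toNat_of_nonneg (by omega)]; simp⟩
    · have h7 := sub_dvd (irr_isChar χ) Nat.prime_five (hy ▸ pow_orderOf_eq_one y) hyu.eq (m := 0) (by
        rw [vanish_of_dvd (k := 1) Nat.prime_five (by rw [hG]; norm_num) (irr_degree_cast χ).symm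
          (by rw [d]; norm_num) _ (by
            rw [hyu.orderOf_mul_eq_mul_orderOf_of_coprime (by rw [hy, hu]; norm_num), hy]
            exact dvd_mul_right _ _)]
        simp) hk
      exact ⟨(charDegree χ.1 - 4 * k : ℤ).toNat, by
        rw [hk, e, ← Int.cast_natCast (R := ℂ) (Int.toNat _), Int.toNat_of_nonneg (by omega)]; simp⟩
  choose! w hw using hW
  have h6 := hrel u (by rw [hu]; norm_num)
  rw [← Finset.add_sum_erase _ _ hone, hε1, coe_oneIrr, Finset.sum_congr rfl hw] at h6
  have h7 : 1 + ∑ χ ∈ (insert ξ X).erase (oneIrr G), w χ = 0 := by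
    apply Nat.cast_injective (R := ℂ)
    simpa using h6
  omega

theorem num_simple : ∀ m ∈ D8640, 11 * m ∈ [11, 660, 7920, 15840, 47520, 95040] ∨
    Perm.Sieve.kill (11 * m) (1, 11, 320) = true := by decide +kernel

theorem card_simple (hG : ¬ IsMulCommutative G) {m : ℕ} (h : Nat.card G = 11 * m) (hm : m ∣ 8640) :
    Nat.card G = 660 ∨ Nat.card G = 7920 ∨ Nat.card G = 95040 := by
  rcases num_simple m (mem_D8640 hm) with h1 | h1
  · have h2 := card_ne_15840 (G := G)
    have h3 := card_ne_47520 (G := G)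
    have h4 : Nat.card G ≠ 11 := fun e => hG (by
      have := Fact.mk (by norm_num : Nat.Prime 11)
      have := isCyclic_of_prime_card e
      infer_instance)
    simp only [List.mem_cons, List.not_mem_nil, or_false, ← h] at h1
    omega
  · exact absurd (h ▸ h1) (Perm.Sieve.not_kill hG _)

end Cfsg.Agent.O12
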