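import Mathlib
import Cfsg.Agent.O12.S1
import Cfsg.Agent.O12.M
import Cfsg.Agent.Gl23.Ord5
import Cfsg.Agent.Char.Extend
import Cfsg.Agent.Char.Indicator
import Cfsg.Agent.H2.Schur2
import Cfsg.Agent.Golay.Out
import Cfsg.Agent.S2034
import Cfsg.Agent.S0228
import Cfsg.Agent.S4222

/-!
Groups of order `95040` with irreducible characters of degrees divisible by `33` and by `55`.
-/

set_option autoImplicit false
set_option linter.unusedSectionVars false
set_option linter.style.haveILetI false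

namespace Cfsg.Agent.O12

open Cfsg.Agent.Core Cfsg.Agent.Char Cfsg.Agent.Block Cfsg.Agent.Gl23 Subgroup MulAction

variable {G : Type*} [Group G] [Finite G]

theorem exists_simple_quot' [Nontrivial G] : ∃ (N : Subgroup G) (_ : N.Normal), IsSimpleGroup (G ⧸ N) := by
  obtain ⟨N, ⟨hN, hN1⟩, hmax⟩ := Set.Finite.exists_maximal (Set.toFinite
    {N : Subgroup G | N.Normal ∧ N ≠ ⊤}) ⟨⊥, inferInstance, bot_ne_top⟩
  refine ⟨N, hN, ?_⟩
  haveI : Nontrivial (G ⧸ N) := QuotientGroup.nontrivial_iff.2 hN1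
  refine ⟨fun K hK => or_iff_not_imp_right.2 fun h => ?_⟩
  have h1 : N ≤ K.comap (QuotientGroup.mk' N) := fun x hx => by
    rw [mem_comap, QuotientGroup.mk'_apply, (QuotientGroup.eq_one_iff x).2 hx]; exact one_mem _
  have h2 := hmax ⟨hK.comap _, fun e => h (by
    rw [← comap_top (QuotientGroup.mk' N)] at e
    exact comap_injective (QuotientGroup.mk'_surjective N) e)⟩ h1
  refine eq_bot_iff.2 fun x hx => ?_
  obtain ⟨y, rfl⟩ := QuotientGroup.mk'_surjective N x
  exact (QuotientGroup.eq_one_iff y).2 (h2 hx)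

theorem num_pow : ∀ a ∈ D8640, ∀ r ∈ [2, 3, 5], a ∣ r ^ 6 → ∀ b ∈ D8640, b ∣ a → a % 11 = b % 11 → a = b := by
  decide +kernel

theorem cent_of_norm {x : G} (hx : orderOf x = 11) {K : Subgroup G} (hK : x ∈ normalizer (K : Set G))
    (hd : Nat.card K ∣ 8640) : K ≤ centralizer ({x} : Set G) := by
  have hp : Nat.Prime 11 := by norm_num
  refine inf_eq_left.1 (eq_of_le_of_card_ge inf_le_left (Nat.le_of_dvd Nat.card_pos
    ((Nat.dvd_iff_prime_pow_dvd_dvd _ _).2 fun r k hr hk => ?_)))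
  rcases Nat.eq_zero_or_pos k with rfl | k0
  · simp
  have := Fact.mk hr
  have hr' : r ∈ [2, 3, 5] := by
    have h1 : r ∣ 2 ^ 6 * 3 ^ 3 * 5 := ((dvd_pow_self r k0.ne').trans hk).trans hd
    rcases (hr.dvd_mul.1 h1) with h1 | h1
    · rcases hr.dvd_mul.1 h1 with h1 | h1
      · simp [(Nat.prime_dvd_prime_iff_eq hr Nat.prime_two).1 (hr.dvd_of_dvd_pow h1)]
      · simp [(Nat.prime_dvd_prime_iff_eq hr Nat.prime_three).1 (hr.dvd_of_dvd_pow h1)]
    · simp [(Nat.prime_dvd_prime_iff_eq hr Nat.prime_five).1 h1]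
  obtain ⟨R, hR, hA⟩ := exists_invariant_isSylowOf (zpowers x) K (zpowers_le.2 hK)
    (by rw [Nat.card_zpowers, hx]; exact (Nat.Prime.coprime_iff_not_dvd hp).2 fun h => absurd (h.trans hd) (by norm_num))
    (Or.inl inferInstance) r
  let _ := MulAction.compHom R R.normalizerMonoidHom
  have h1 := card_fixedBy_modEq' (Ω := R) hp (x := (⟨x, hA (mem_zpowers x)⟩ : normalizer (R : Set G)))
    (Subtype.ext (hx ▸ pow_orderOf_eq_one x))
  have h2 : MulAction.fixedBy R (⟨x, hA (mem_zpowers x)⟩ : normalizer (R : Set G)) =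
      ((centralizer ({x} : Set G)).subgroupOf R : Set R) := by
    ext s
    rw [SetLike.mem_coe, mem_subgroupOf, mem_centralizer_singleton_iff, eq_comm, ← mul_inv_eq_iff_eq_mul]
    exact Subtype.ext_iff
  rw [h2] at h1
  have h3 := card_subgroup_dvd_card ((centralizer ({x} : Set G)).subgroupOf R)
  have h4 := (card_dvd_of_le hR.le).trans hd
  have h5 : Nat.card R ∣ r ^ 6 := by
    rw [hR.card_eq_pow] at h4 ⊢
    refine pow_dvd_pow r ?_
    by_contra! h
    have := (pow_dvd_pow r h).trans h4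
    simp only [List.mem_cons, List.not_mem_nil, or_false] at hr'
    rcases hr' with rfl | rfl | rfl <;> norm_num at this
  have h6 := num_pow _ (mem_D8640 h4) r hr' h5 _ (mem_D8640 (h3.trans h4)) h3 h1
  have h7 : R ≤ centralizer ({x} : Set G) := subgroupOf_eq_top.1 (eq_top_of_card_eq _ h6.symm)
  refine Dvd.dvd.trans ?_ (card_dvd_of_le (le_inf hR.le h7))
  rw [hR.card_eq_pow]
  exact pow_dvd_pow r ((hr.pow_dvd_iff_le_factorization Nat.card_pos.ne').1 hk)

theorem sq_mul_center_le {χ : G → ℂ} (hχ : IsIrrCharacter G χ) {n : ℕ} (hn : χ 1 = n) :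
    n ^ 2 * Nat.card (center G) ≤ Nat.card G := by
  classical
  have := Fintype.ofFinite G
  have h1 := isIrr_sum_norm_sq hχ
  have h2 : ∑ g ∈ Finset.univ.filter (· ∈ center G), ‖χ g‖ ^ 2 ≤ ∑ g, ‖χ g‖ ^ 2 :=
    Finset.sum_le_sum_of_subset_of_nonneg (Finset.subset_univ _) fun _ _ _ => by positivity
  rw [h1, Finset.sum_congr rfl fun g hg => by
    rw [(mem_charCenter_iff (isIrr_isChar hχ)).1 (center_le_charCenter hχ (Finset.mem_filter.1 hg).2), hn,
      Complex.norm_natCast], Finset.sum_const, nsmul_eq_mul, ← Fintype.card_subtype,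
      ← Nat.card_eq_fintype_card] at h2
  rw [mul_comm]
  exact_mod_cast h2

theorem exists_central_quot (hd : Nat.card G ∣ 95040) (h11 : 11 ∣ Nat.card G)
    (hgen : ∀ H : Subgroup G, (∀ g, orderOf g = 11 → g ∈ H) → H = ⊤) :
    ∃ (M : Subgroup G) (_ : M.Normal), IsSimpleGroup (G ⧸ M) ∧ M ≤ center G ∧ 11 ∣ Nat.card (G ⧸ M) := by
  have : Nontrivial G := Finite.one_lt_card_iff_nontrivial.1
    (lt_of_lt_of_le (by norm_num) (Nat.le_of_dvd Nat.card_pos h11))
  obtain ⟨M, hM, hs⟩ := exists_simple_quot' (G := G)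
  have h1 : 11 ∣ Nat.card (G ⧸ M) := by
    by_contra h
    refine QuotientGroup.nontrivial_iff.1 hs.toNontrivial (hgen M fun g hg => ?_)
    have h2 := Nat.dvd_gcd (hg ▸ orderOf_map_dvd (QuotientGroup.mk' M) g) (orderOf_dvd_natCard _)
    rw [(Nat.Prime.coprime_iff_not_dvd (by norm_num)).2 h, Nat.dvd_one, orderOf_eq_one_iff] at h2
    exact (QuotientGroup.eq_one_iff g).1 h2
  have h2 : Nat.card M ∣ 8640 := by
    obtain ⟨k, hk⟩ := h1
    rw [card_eq_card_quotient_mul_card_subgroup M, hk, mul_assoc, show 95040 = 11 * 8640 by norm_num] at hd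
    exact (Dvd.intro_left _ rfl).trans (Nat.dvd_of_mul_dvd_mul_left (by norm_num) hd)
  exact ⟨M, hM, hs, centralizer_eq_top_iff_subset.1 (hgen _ fun g hg m hm => mem_centralizer_singleton_iff.1
    (cent_of_norm hg (by rw [normalizer_eq_top]; trivial) h2 hm)), h1⟩

theorem of_normal_M11 (hG : Nat.card G = 95040) {H : Subgroup G} [H.Normal] (e : H ≃* Spor.M11)
    {χ : IrrCharacter G} (h33 : 3 * 11 ∣ charDegree χ.1) :
    Nonempty (G ≃* alternatingGroup (Fin 4) × Spor.M11) := by
  have := Golay.simple_M11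
  have hs : IsSimpleGroup H := e.isSimpleGroup
  have hH : Nat.card H = 7920 := (Nat.card_congr e.toEquiv).trans Golay.card_M11
  have hz : center H = ⊥ := (IsSimpleGroup.eq_bot_or_eq_top_of_normal _ inferInstance).resolve_right
    fun h => Perm.not_comm_of_not_prime (G := H) (by rw [hH]; norm_num) (isMulCommutative_of_center_eq_top h)
  have ha : Function.Surjective (MulAut.conj : H →* MulAut H) := fun α => by
    have h1 : Inn Spor.M11 = ⊤ := index_eq_one.1 Golay.out_M11
    obtain ⟨g, hg⟩ : MulAut.congr e α ∈ Inn Spor.M11 := h1 ▸ mem_top _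
    refine ⟨e.symm g, MulEquiv.ext fun y => e.injective ?_⟩
    simpa using DFunLike.congr_fun hg (e y)
  have hc := S4222.result H hz ha
  set C := centralizer (H : Set G)
  have hC : Nat.card C = 12 := by
    have := hc.card_mul
    rw [hH, hG] at this
    omega
  let f : C × H ≃* G := MulEquiv.ofBijective (C.subtype.noncommCoprod H.subtype
    fun c h => (c.2 h h.2).symm) hc
  obtain ⟨φ, ψ, hφ, hψ, h1⟩ := isIrr_prod_exists (isIrr_comp_equiv f χ.2)
  obtain ⟨n, -, hn⟩ := isIrr_degree hφ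
  have h2 := congrFun h1 1
  rw [map_one, Prod.fst_one, Prod.snd_one, hn, ← irr_degree_cast χ,
    show ψ 1 = charDegree ψ from (irr_degree_cast ⟨ψ, hψ⟩).symm] at h2
  replace h2 : charDegree χ.1 = n * charDegree ψ := by exact_mod_cast h2
  have h3 := sq_mul_center_le hφ hn
  have h4 : 0 < Nat.card (center C) := Nat.card_pos
  have h5 : n ≤ 3 := by rw [hC] at h3; nlinarith
  obtain ⟨L, -, hL, hL'⟩ := degrees hH
  have h6 := List.mem_map_of_mem (f := fun χ : IrrCharacter H => charDegree χ.1) (hL ⟨ψ, hψ⟩)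
  rw [hL'] at h6
  have h0 := irr_degree_ne_zero χ
  obtain rfl : n = 3 := by
    simp only [List.mem_cons, List.not_mem_nil, or_false] at h6
    interval_cases n <;> omega
  obtain ⟨a⟩ := S0228.result hC fun z hz hz' => by
    have := Nat.le_of_dvd h4 (hz ▸ Subgroup.orderOf_dvd_natCard _ hz')
    omega
  exact ⟨f.symm.trans (a.prodCongr e)⟩

theorem main (hG : Nat.card G = 95040) {χ ψ : IrrCharacter G} (h33 : 3 * 11 ∣ charDegree χ.1)
    (h55 : 5 * 11 ∣ charDegree ψ.1) :
    Nonempty (G ≃* Spor.M12) ∨ Nonempty (G ≃* alternatingGroup (Fin 4) × Spor.M11) := by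
  classical
  have := Fact.mk (by norm_num : Nat.Prime 11)
  obtain ⟨x, hx⟩ := exists_prime_orderOf_dvd_card' (G := G) 11 (by rw [hG]; norm_num)
  let L := normalClosure ({x} : Set G)
  have := Fintype.ofFinite L
  have hxL : x ∈ L := subset_normalClosure rfl
  have hi := L.card_mul_index
  rw [hG] at hi
  obtain ⟨M, hM, hs, hZ, h11⟩ := exists_central_quot (G := L) ⟨_, hi.symm⟩
    (hx ▸ Subgroup.orderOf_dvd_natCard _ hxL) fun H hH => by
      refine eq_top_iff.2 fun g _ => ?_
      have h1 : L ≤ H.map L.subtype := (closure_le _).2 fun y hy => by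
        obtain ⟨z, hz, h2⟩ := Group.mem_conjugatesOfSet_iff.1 hy
        rw [Set.mem_singleton_iff.1 hz] at h2
        refine ⟨⟨y, conjugatesOfSet_subset_normalClosure hy⟩, hH _ ?_, rfl⟩
        rw [← orderOf_coe, ← hx]
        obtain ⟨c, rfl⟩ := isConj_iff.1 h2
        exact (MulAut.conj c).orderOf_eq x
      obtain ⟨y, hy, e⟩ := h1 g.2
      exact (Subtype.ext e : y = g) ▸ hy
  have hL := card_eq_card_quotient_mul_card_subgroup M
  have hM0 : 0 < Nat.card M := Nat.card_pos
  obtain ⟨m, hm⟩ := h11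
  have hm' : m * Nat.card M * L.index = 8640 := by
    rw [hL, hm] at hi
    nlinarith
  by_cases hc : IsMulCommutative (L ⧸ M)
  · exfalso
    have : IsCyclic (L ⧸ M) := by
      by_contra h
      exact Perm.not_comm_of_not_prime (G := L ⧸ M) (fun h1 => by
        have := Fact.mk h1
        exact h (isCyclic_of_prime_card rfl)) hc
    have : IsMulCommutative L := ⟨⟨commutative_of_cyclic_center_quotient (QuotientGroup.mk' M)
      (by rwa [QuotientGroup.ker_mk'])⟩⟩
    have h1 := Extend.degree_dvd_index_of_comm L ψ.2 (irr_degree_cast ψ).symm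
    have h2 := ((Dvd.intro_left _ rfl).trans h55).trans (h1.trans (Dvd.intro_left _ hm'))
    norm_num at h2
  rcases card_simple hc hm ⟨_, hm'.symm.trans (mul_assoc _ _ _)⟩ with h | h | h
  · exfalso
    obtain ⟨θ, hθ, h1⟩ := Clifford.exists_under (N := L) ψ.2
    obtain ⟨k, hk, h2⟩ := Extend.degree_eq_mul_dvd_index hθ ψ.2 h1
    obtain ⟨n, n0, hn⟩ := isIrr_degree hθ
    rw [hn, ← irr_degree_cast] at h2
    replace h2 : charDegree ψ.1 = k * n := by exact_mod_cast h2
    have h3 := sq_mul_center_le hθ hn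
    have h4 := card_le_of_le hZ
    obtain rfl : m = 60 := by omega
    have h5 : k ∣ 144 := hk.trans ⟨Nat.card M, by nlinarith⟩
    have h6 : 55 ∣ n := Nat.Coprime.dvd_of_dvd_mul_left (Nat.Coprime.coprime_dvd_right h5 (by norm_num)) (h2 ▸ h55)
    have h7 := Nat.le_of_dvd n0 h6
    rw [hL, h] at h3
    have h8 := (Nat.mul_le_mul (Nat.pow_le_pow_left h7 2) h4).trans h3
    omega
  · right
    obtain ⟨e⟩ := equiv_M11 h
    have := Golay.simple_M11
    have : Group.IsPerfect Spor.M11 := ⟨commutator_top (by rw [Golay.card_M11]; norm_num)⟩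
    have hξ : H2.Schur.CExt (e.toMonoidHom.comp (QuotientGroup.mk' M)) :=
      ⟨e.surjective.comp (QuotientGroup.mk'_surjective M), fun g hg => hZ ((QuotientGroup.eq_one_iff g).1
        (e.injective (hg.trans (map_one e).symm)))⟩
    have h1 := H2.Schur.stem_commutator hξ
    let f := MulEquiv.ofBijective _ ⟨(MonoidHom.ker_eq_bot_iff _).1 (H2.Schur.ker_eq_bot S2034.result h1), h1.1⟩
    exact of_normal_M11 hG (H := (commutator L).map L.subtype)
      (((commutator L).equivMapOfInjective _ L.subtype_injective).symm.trans f) h33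
  · left
    obtain ⟨e⟩ := equiv_M12 h
    obtain rfl : m = 8640 := by omega
    have h1 : Nat.card M = 1 ∧ L.index = 1 := by
      rw [mul_assoc, Nat.mul_eq_left (by norm_num)] at hm'
      exact ⟨Nat.eq_one_of_mul_eq_one_right hm', Nat.eq_one_of_mul_eq_one_left hm'⟩
    exact ⟨(topEquiv.symm.trans (MulEquiv.subgroupCongr (index_eq_one.1 h1.2).symm)).trans
      ((QuotientGroup.quotientBot.symm.trans (QuotientGroup.quotientMulEquivOfEq
        (card_eq_one.1 h1.1).symm)).trans e)⟩

end Cfsg.Agent.O12
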