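import Mathlib
import Cfsg.Agent.O12.Cls
import Cfsg.Agent.O12.C
import Cfsg.Prelude.Def_DegreeGraph

/-!
Some character degrees of `M₁₂`.
-/

set_option autoImplicit false
set_option linter.unusedSectionVars false
set_option linter.style.haveILetI false

namespace Cfsg.Agent.O12

open Cfsg.Agent.Core Cfsg.Agent.Char Cfsg.Agent.Block Cfsg.Agent.Gl23 Subgroup MulAction

theorem conj_five {x y : Spor.M12} (hx : orderOf x = 5) (hy : orderOf y = 5) : IsConj x y := by
  obtain ⟨r, hr, h1⟩ := classData_M12.cover x x.2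
  obtain ⟨r', hr', h2⟩ := classData_M12.cover y y.2
  have e1 := (Golay.orderOf_of_mem_orbit h1).trans (classData_M12.ord r hr)
  have e2 := (Golay.orderOf_of_mem_orbit h2).trans (classData_M12.ord r' hr')
  have m := classData_M12.mem r hr
  obtain ⟨q, hq, rfl⟩ := List.mem_map.1 hr
  obtain ⟨q', hq', rfl⟩ := List.mem_map.1 hr'
  rw [orderOf_coe, hx] at e1
  rw [orderOf_coe, hy] at e2
  obtain rfl := (by decide +kernel : ∀ q ∈ cls12, 5 = q.2.1 → ∀ q' ∈ cls12, 5 = q'.2.1 → q = q') q hq e1 q' hq' e2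
  exact ((Golay.isConj_iff_orbit (x := ⟨_, m⟩)).2 h1).symm.trans ((Golay.isConj_iff_orbit (x := ⟨_, m⟩)).2 h2)

variable {G : Type*} [Group G] [Finite G] [IsSimpleGroup G]

theorem degs (hG : Nat.card G = 95040) (hk : Nat.card (ConjClasses G) = 15)
    (h5 : ∀ x y : G, orderOf x = 5 → orderOf y = 5 → IsConj x y) :
    (∃ χ : IrrCharacter G, 3 * 11 ∣ charDegree χ.1) ∧ ∃ χ : IrrCharacter G, 5 * 11 ∣ charDegree χ.1 := by
  classical
  have := Fintype.ofFinite G
  obtain ⟨a, b, c, d, θ, θ', ea, eb, ec, ed, δ, h⟩ := exists_bd hG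
  obtain ⟨-, -, -, -, -, da, db, dc, dd, dθ⟩ := h.pat hG
  have dθ' := h.deg'.trans dθ
  have d1 : charDegree (oneIrr G).1 = 1 := by rw [coe_oneIrr, charDegree_one_fun]
  rw [← card_irr_eq_card_conjClasses, Nat.card_eq_fintype_card] at hk
  set L := [oneIrr G, a, b, c, d, θ, θ'] with hL
  have hR : ∀ χ ∈ L.toFinsetᶜ, 11 ∣ charDegree χ.1 := fun χ hχ => h.out χ (by
    rwa [Finset.mem_compl, List.mem_toFinset] at hχ)
  have cR : (L.toFinsetᶜ).card = 8 := by
    rw [Finset.card_compl, hk, List.toFinset_card_of_nodup h.nd]; rfl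
  constructor
  · by_contra! h3
    have h1 : ∑ χ : IrrCharacter G, charDegree χ.1 ^ 2 = 95040 := by
      have := sum_irr_one_sq (G := G)
      simp only [← irr_degree_cast, hG] at this
      exact_mod_cast this
    rw [← Finset.sum_add_sum_compl L.toFinset, List.sum_toFinset _ h.nd] at h1
    simp only [hL, List.map_cons, List.map_nil, List.sum_cons, List.sum_nil, da, db, dc, dd, dθ, dθ', d1] at h1
    have h2 : ∑ χ ∈ L.toFinsetᶜ, charDegree χ.1 ^ 2 ≡ ∑ χ ∈ L.toFinsetᶜ, 1 [MOD 3] :=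
      Nat.ModEq.sum fun χ hχ => by
        have h4 := hR χ hχ
        have h6 := h3 χ
        have h7 : charDegree χ.1 % 3 = 1 ∨ charDegree χ.1 % 3 = 2 := by omega
        rcases h7 with e | e <;> rw [Nat.ModEq, Nat.pow_mod, e]
    rw [Finset.sum_const, cR, Nat.ModEq] at h2
    rw [← hL] at h1
    simp only [smul_eq_mul] at h2
    omega
  · by_contra! h3
    have := Fact.mk Nat.prime_five
    obtain ⟨y, hy⟩ := exists_prime_orderOf_dvd_card' (G := G) 5 (by rw [hG]; norm_num)
    have h1 := sum_irr_norm_sq y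
    rw [(h.five hG hy).1] at h1
    have h2 : ∀ χ : IrrCharacter G, ¬ 5 ∣ charDegree χ.1 → 1 ≤ ‖χ.1 y‖ ^ 2 := fun χ hχ => by
      obtain ⟨n, hn⟩ := Galois.exists_int_of_forall_pow (irr_isGenChar χ) (g := y) fun k hk => by
        obtain ⟨g, hg⟩ := isConj_iff.1 (h5 y (y ^ k) hy (by rw [← hy]; exact hk.symm.orderOf_pow))
        rw [← hg, isIrr_classFun χ.2]
      have h4 := mod_five hy hn
      have h6 : n ≠ 0 := by omega
      rw [hn, Complex.norm_intCast, sq_abs]
      have : 1 ≤ n ^ 2 := by have := sq_pos_of_ne_zero h6; omega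
      exact_mod_cast this
    have hnd : [oneIrr G, b, d, θ, θ'].Nodup := h.nd.sublist
      (.cons₂ _ (.cons _ (.cons₂ _ (.cons _ (List.Sublist.refl _)))))
    have h4 : ∑ χ ∈ [oneIrr G, b, d, θ, θ'].toFinset ∪ L.toFinsetᶜ, (1 : ℝ) ≤ 10 := by
      refine (Finset.sum_le_sum fun χ hχ => h2 χ ?_).trans (le_of_le_of_eq (Finset.sum_le_sum_of_subset_of_nonneg
        (Finset.subset_univ _) fun _ _ _ => by positivity) (by exact_mod_cast h1))
      rcases Finset.mem_union.1 hχ with hχ | hχ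
      · simp only [List.mem_toFinset, List.mem_cons, List.not_mem_nil, or_false] at hχ
        rcases hχ with rfl | rfl | rfl | rfl | rfl <;> omega
      · have := hR χ hχ
        have := h3 χ
        omega
    rw [Finset.sum_const, Finset.card_union_of_disjoint (Finset.disjoint_left.2 fun χ h6 h7 => by
      simp only [hL, List.mem_toFinset, List.mem_cons, List.not_mem_nil, or_false, Finset.mem_compl] at h6 h7
      tauto), cR, List.toFinset_card_of_nodup hnd] at h4
    norm_num at h4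

theorem degs_M12 : (degreeGraph Spor.M12).Adj 3 11 ∧ (degreeGraph Spor.M12).Adj 5 11 := by
  have := Golay.simple_M12
  obtain ⟨⟨χ, h1⟩, ψ, h2⟩ := degs Golay.card_M12 card_conjClasses_M12 fun _ _ => conj_five
  exact ⟨⟨by norm_num, by norm_num, by norm_num, _, ⟨χ, rfl⟩, h1⟩,
    by norm_num, by norm_num, by norm_num, _, ⟨ψ, rfl⟩, h2⟩

end Cfsg.Agent.O12
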