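import Mathlib
import Cfsg.Agent.O12.M
import Cfsg.Agent.Gl23.Sim
import Cfsg.Agent.Perm.Small

/-!
A group of order `95040` with a self-centralising element of order `11` is simple.
-/

set_option autoImplicit false

namespace Cfsg.Agent.O12

open Cfsg.Agent.Core Cfsg.Agent.Block Cfsg.Agent.Gl23 Subgroup

variable {G : Type*} [Group G] [Finite G]

theorem bot_of_SX' (hG : Nat.card G ∣ 95040) {x : G} (h : SX 11 x) {K : Subgroup G}
    (hK : x ∈ normalizer (K : Set G)) (hd : ¬ 11 ∣ Nat.card K) : K = ⊥ := by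
  by_contra hne
  obtain ⟨r, hr, hrK⟩ := Nat.exists_prime_and_dvd (card_eq_one.not.2 hne)
  have := Fact.mk hr
  obtain ⟨R, hR, hA⟩ := exists_invariant_isSylowOf (zpowers x) K (zpowers_le.2 hK)
    (by rw [h.card]; exact (Nat.Prime.coprime_iff_not_dvd h.prime).2 hd) (Or.inl inferInstance) r
  have h1 : ¬ 11 ∣ Nat.card R := fun e => hd (e.trans (card_dvd_of_le hR.le))
  have h2 := card_mod_of_SX h (hA (mem_zpowers x)) h1
  have h3 : Nat.card R ∣ 11 * 8640 := (card_subgroup_dvd_card R).trans hG
  have h4 := ((Nat.Prime.coprime_iff_not_dvd h.prime).2 h1).symm.dvd_of_dvd_mul_left h3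
  have h5 := card_eq_one.not.2 (hR.ne_bot hrK)
  obtain ⟨k, hk⟩ := IsPGroup.iff_card.1 hR.isPGroup
  have h6 : ∀ q : ℕ, q.Prime → q ∣ Nat.card R → q = r := fun q hq e =>
    (Nat.prime_dvd_prime_iff_eq hq hr).1 (hq.dvd_of_dvd_pow (hk ▸ e))
  have a2 := h6 _ Nat.prime_two
  have a3 := h6 _ Nat.prime_three
  have a5 := h6 _ Nat.prime_five
  have := num_syl _ (mem_D8640 h4) h2
  omega

theorem simple_of_SX' (hG : Nat.card G = 95040) {x : G} (h : SX 11 x) : IsSimpleGroup G := by
  have : Nontrivial G := ⟨x, 1, h.ne_one⟩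
  have := Fintype.ofFinite G
  refine ⟨fun S hS => ?_⟩
  by_cases hd : 11 ∣ Nat.card S
  swap
  · exact Or.inl (bot_of_SX' hG.dvd h (normalizer_eq_top S ▸ mem_top x) hd)
  refine Or.inr (index_eq_one.1 ?_)
  have h1 := h.index_dvd hd
  have h2 := h.card_G
  have h3 := relIndex_dvd h.prime h.ord
  have h4 := (sylow_data (m := 8640) h.prime hG (by norm_num) h.ord).2.1
  rw [h.cent'] at h3
  have h5 : (zpowers x).relIndex (normalizer (zpowers x : Set G)) = 5 := by
    have := Nat.le_of_dvd (by norm_num) h3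
    generalize (zpowers x).relIndex (normalizer (zpowers x : Set G)) = e at *
    interval_cases e <;> omega
  refine ((Nat.dvd_prime Nat.prime_five).1 (h5 ▸ h1)).resolve_right fun h6 => ?_
  have h7 : Nat.card S = 19008 := by have := S.card_mul_index; rw [h6] at this; omega
  have h' := h.sub (h.ordP.le_of_dvd hd (mem_zpowers x))
  generalize (⟨x, _⟩ : S) = y at h'
  have g2 := h'.card_G
  have g3 := relIndex_dvd h'.prime h'.ord
  have g4 := (sylow_data (m := 1728) h'.prime h7 (by norm_num) h'.ord).2.1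
  rw [h'.cent'] at g3
  have g5 : (zpowers y).relIndex (normalizer (zpowers y : Set S)) = 1 := by
    have := Nat.le_of_dvd (by norm_num) g3
    generalize (zpowers y).relIndex (normalizer (zpowers y : Set S)) = e at *
    interval_cases e <;> omega
  have g6 := h'.not_dvd_iff.2 (relIndex_eq_one.1 g5)
  have g7 := h'.index_of_not_dvd g6
  rw [bot_of_SX' (by rw [h7]; norm_num) h' (normalizer_eq_top (commutator S) ▸ mem_top y) g6, index_bot] at g7
  omega

theorem SX_of_index' (hG : Nat.card G = 95040) {x : G} (hx : orderOf x = 11)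
    (h : (normalizer ((zpowers x : Subgroup G) : Set G)).index = 1728) : SX 11 x := by
  have hp := Fact.mk (show Nat.Prime 11 by norm_num)
  have h1 := (normalizer ((zpowers x : Subgroup G) : Set G)).card_mul_index
  have h2 := card_mul_relIndex (centralizer_le_normalizer ((zpowers x : Subgroup G) : Set G))
  rw [h, hG] at h1
  replace h1 : Nat.card (normalizer ((zpowers x : Subgroup G) : Set G)) = 55 := by omega
  have h3 := Nat.dvd_gcd (relIndex_dvd hp.out hx) (Dvd.intro_left _ h2)
  rw [h1] at h2 h3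
  rcases (Nat.dvd_prime Nat.prime_five).1 h3 with h4 | h4
  · exfalso
    obtain ⟨P, hP⟩ := (sylow_data (m := 8640) hp.out hG (by norm_num) hx).1.exists_sylow_top
    obtain ⟨Q, K, hK, hKQ⟩ := Transfer.hasNormalPComplement_of_normalizer_le_centralizer P
      (by rw [← P.coe_coe, hP]; exact relIndex_eq_one.1 h4)
    have h5 : Nat.card K = 8640 := by
      have := hKQ.card_mul_card
      rw [Nat.card_congr (Q.equiv P).toEquiv, hP, Nat.card_zpowers, hx] at this
      omega
    have := pow_mod_eq_one hp.out Nat.prime_two hx (normalizer_eq_top K ▸ mem_top x) (by rw [h5]; norm_num)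
      fun g _ hg e => by
        have : g ∈ normalizer ((zpowers x : Subgroup G) : Set G) := centralizer_le_normalizer _ (by
          rintro _ ⟨k, rfl⟩
          exact ((show Commute g x from e).zpow_right k).symm)
        have := orderOf_dvd_natCard _ this
        rw [hg, h1] at this
        norm_num at this
    rw [h5] at this
    exact absurd this (by decide +kernel)
  · refine ⟨hp.out, hx, (eq_of_le_of_card_ge (zpowers_le.2 (mem_centralizer_singleton_iff.2 rfl)) ?_).symm⟩
    rw [← centralizer_closure, ← zpowers_eq_closure, Nat.card_zpowers, hx]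
    rw [h4] at h2
    omega

theorem dvd_card_orderOf {p n : ℕ} (hp : p.Prime) {x : G} (hx : orderOf x = p)
    (h : ∀ g, g * x = x * g → orderOf g ≠ n) : p ∣ Nat.card {g : G // orderOf g = n} := by
  let Ω : SubMulAction (ConjAct G) G :=
    ⟨{g | orderOf g = n}, fun c g hg => ((MulAut.conj (ConjAct.ofConjAct c)).orderOf_eq g).trans hg⟩
  have h1 := card_fixedBy_modEq' (Ω := Ω) hp (x := ConjAct.toConjAct x)
    (by rw [← map_pow, ← hx, pow_orderOf_eq_one, map_one])
  rw [Set.eq_empty_of_forall_notMem (s := MulAction.fixedBy Ω (ConjAct.toConjAct x)) fun g hg =>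
    h g (mul_inv_eq_iff_eq_mul.1 (congrArg Subtype.val hg)).symm g.2] at h1
  exact (Nat.modEq_zero_iff_dvd.1 (by simpa using h1) : p ∣ Nat.card Ω)

theorem card_eleven (hG : Nat.card G = 95040) {x : G} (hx : orderOf x = 11) :
    Nat.card {g : G // orderOf g = 11} = (normalizer ((zpowers x : Subgroup G) : Set G)).index * 10 := by
  have hp := Fact.mk (show Nat.Prime 11 by norm_num)
  obtain ⟨P, hP⟩ := (sylow_data (m := 8640) hp.out hG (by norm_num) hx).1.exists_sylow_top
  have h3 := Perm.ncard_orderOf_prime P (by rw [hP, Nat.card_zpowers, hx])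
  rwa [P.card_eq_index_normalizer, ← P.coe_coe, hP, ← Nat.card_coe_set_eq] at h3

end Cfsg.Agent.O12
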